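import Mathlib
import Cfsg.Agent.FastGrp
import Cfsg.Agent.Prune
set_option linter.all false
prune_inst 0x7f00000000000000000000000000000000000000000000000000000000000000000000000000000000000000000000000000000000000000000000000000000000000000000000000000000000000000003fffffffffffffffffffffffffffbeffbdffffffff
open scoped Cfsg.Agent.FastGrp

/-!
# Real elements of odd prime power order with centraliser of odd order

* `RealOdd S` : `S` has a nontrivial element of odd prime power order, conjugate to its inverse, whose centraliser has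
  odd order (the property of statement S2248);
* `NormPair S` : there are a nontrivial element `x` of odd prime power order and a nontrivial 2-element `y` normalising
  `⟨x⟩` such that `x` commutes with no image of `y` under an automorphism (the property behind statement S2252).

Criteria:
* `RealOdd.of_elts` : `x` of order `p ^ k`, `y x y⁻¹ = x⁻¹`, no involution commutes with `x`;
* `RealOdd.of_not_dvd` : `x` of order `p`, `p` prime to `|C(t)|` for all involutions `t`, `x` inverted;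
* `RealOdd.of_two_inv` : `s`, `t` involutions, `p ∣ orderOf (s * t)`, `p` prime to `|C(t)|` for all involutions `t`;
* `RealOdd.of_norm_even` : `|N(⟨x⟩)|` even and `|C(x)|` odd;
* `RealOdd.of_sylow` : Sylow subgroup of prime order `p` equal to its centraliser, and `|S| / p mod p` even;
* `NormPair.of_order` : `y` normalises `⟨x⟩` and no element of `C(x)` has the order of `y`;
* `NormPair.of_dvd` : `y` normalises `⟨x⟩`, `x ≠ 1` of order `p ^ k`, and `p` is prime to `|C(y)|`.
-/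

set_option autoImplicit false
set_option linter.style.haveILetI false

namespace Cfsg.Agent.H101.RO

open Subgroup

/-- `S` has a real element of odd prime power order (`≠ 1`) with centraliser of odd order. -/
def RealOdd (S : Type*) [Group S] : Prop :=
  ∃ (x : S) (p k : ℕ), p.Prime ∧ p ≠ 2 ∧ 1 ≤ k ∧ orderOf x = p ^ k ∧ IsConj x x⁻¹ ∧
    Odd (Nat.card ↥(Subgroup.centralizer ({x} : Set S)))

/-- A nontrivial element `x` of odd prime power order and a nontrivial 2-element `y` normalising `⟨x⟩`, such that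
`x` commutes with no image of `y` under an automorphism. -/
def NormPair (S : Type*) [Group S] : Prop :=
  ∃ (p : ℕ) (x y : S), p.Prime ∧ p ≠ 2 ∧ x ≠ 1 ∧ y ≠ 1 ∧ (∃ k : ℕ, orderOf x = p ^ k) ∧ (∃ k : ℕ, orderOf y = 2 ^ k) ∧
    y ∈ Subgroup.normalizer ((Subgroup.zpowers x : Subgroup S) : Set S) ∧ ∀ a : MulAut S, ¬ Commute x (a y)

section Criteria

variable {S : Type*} [Group S]

/-- An element inverting `x` normalises `⟨x⟩`. -/
theorem mem_normalizer_of_inv {x y : S} (h : y * x * y⁻¹ = x⁻¹) :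
    y ∈ Subgroup.normalizer ((Subgroup.zpowers x : Subgroup S) : Set S) := by
  rw [Subgroup.mem_normalizer_iff]
  intro z
  constructor
  · rintro ⟨n, rfl⟩
    refine ⟨-n, ?_⟩
    show x ^ (-n) = y * x ^ n * y⁻¹
    rw [← conj_zpow, h, inv_zpow, zpow_neg]
  · rintro ⟨n, hn⟩
    refine ⟨-n, ?_⟩
    have h1 : z = y⁻¹ * x ^ n * y := by
      have h2 : (fun n : ℤ => x ^ n) n = x ^ n := rfl
      rw [h2] at hn
      rw [hn]; group
    show x ^ (-n) = z
    rw [h1]
    have h3 : x = y⁻¹ * x⁻¹ * y := by rw [← h]; group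
    have h4 : y⁻¹ * x ^ n * y = (y⁻¹ * x⁻¹ * y) ^ (-n) := by
      have h5 : y⁻¹ * x⁻¹ * y = y⁻¹ * x⁻¹ * y⁻¹⁻¹ := by rw [inv_inv]
      rw [h5, conj_zpow, inv_zpow, inv_inv, zpow_neg, inv_inv]
    rw [h4, ← h3]

/-- `x ≠ 1` of odd order is not its own inverse. -/
theorem ne_inv {x : S} {p k : ℕ} (hp : p.Prime) (hp2 : p ≠ 2) (hk : 1 ≤ k) (hx : orderOf x = p ^ k) : x ≠ x⁻¹ := by
  intro h
  have h1 : x ^ 2 = 1 := by rw [sq]; nth_rewrite 2 [h]; exact mul_inv_cancel x
  have h2 : p ^ k ∣ 2 := by rw [← hx]; exact orderOf_dvd_of_pow_eq_one h1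
  have h3 : p ∣ 2 := (dvd_pow_self p (by omega)).trans h2
  exact hp2 ((Nat.prime_dvd_prime_iff_eq hp Nat.prime_two).1 h3)

theorem ne_one {x : S} {p k : ℕ} (hp : p.Prime) (hk : 1 ≤ k) (hx : orderOf x = p ^ k) : x ≠ 1 := by
  rintro rfl
  rw [orderOf_one] at hx
  have := Nat.one_lt_pow (by omega : k ≠ 0) hp.one_lt
  omega

/-- The centraliser has odd order as soon as no involution commutes with `x`. -/
theorem odd_centralizer [Finite S] {x : S} (h : ∀ t : S, orderOf t = 2 → ¬ t * x = x * t) :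
    Odd (Nat.card ↥(Subgroup.centralizer ({x} : Set S))) := by
  rw [← Nat.not_even_iff_odd, even_iff_two_dvd]
  intro hd
  haveI : Fact (Nat.Prime 2) := ⟨Nat.prime_two⟩
  obtain ⟨t, ht⟩ := exists_prime_orderOf_dvd_card' 2 hd
  refine h t (by rw [Subgroup.orderOf_coe, ht]) ?_
  exact Subgroup.mem_centralizer_singleton_iff.1 t.2

/-- **Criterion.** -/
theorem RealOdd.of_elts [Finite S] {x y : S} {p k : ℕ} (hp : p.Prime) (hp2 : p ≠ 2) (hk : 1 ≤ k) (hx : orderOf x = p ^ k)
    (hy : y * x * y⁻¹ = x⁻¹) (hc : ∀ t : S, orderOf t = 2 → ¬ t * x = x * t) : RealOdd S :=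
  ⟨x, p, k, hp, hp2, hk, hx, isConj_iff.2 ⟨y, hy⟩, odd_centralizer hc⟩

/-- **Criterion.** `x` inverted, of order a power of a prime `p` prime to the orders of the centralisers of the involutions. -/
theorem RealOdd.of_not_dvd [Finite S] {x y : S} {p k : ℕ} (hp : p.Prime) (hp2 : p ≠ 2) (hk : 1 ≤ k)
    (hx : orderOf x = p ^ k) (hy : y * x * y⁻¹ = x⁻¹)
    (hc : ∀ t : S, orderOf t = 2 → ¬ p ∣ Nat.card ↥(Subgroup.centralizer ({t} : Set S))) : RealOdd S := by
  refine RealOdd.of_elts hp hp2 hk hx hy fun t ht h => hc t ht ?_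
  have h1 : x ∈ Subgroup.centralizer ({t} : Set S) := Subgroup.mem_centralizer_singleton_iff.2 h.symm
  have h2 : orderOf x ∣ Nat.card ↥(Subgroup.centralizer ({t} : Set S)) := by
    have := orderOf_dvd_natCard (⟨x, h1⟩ : ↥(Subgroup.centralizer ({t} : Set S)))
    rwa [Subgroup.orderOf_mk] at this
  rw [hx] at h2
  exact (dvd_pow_self p (by omega)).trans h2

/-- The involution of an automorphism group of `⟨x⟩`. -/
theorem inv_of_sq_comm {x y : S} {p k : ℕ} (hp : p.Prime) (hp2 : p ≠ 2) (hx : orderOf x = p ^ k)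
    (hy : y ∈ Subgroup.normalizer ((Subgroup.zpowers x : Subgroup S) : Set S)) (h2 : y ^ 2 * x = x * y ^ 2)
    (h1 : ¬ y * x = x * y) : y * x * y⁻¹ = x⁻¹ := by
  have hmem : y * x * y⁻¹ ∈ Subgroup.zpowers x :=
    (Subgroup.mem_normalizer_iff.1 hy x).1 (Subgroup.mem_zpowers x)
  obtain ⟨n, hn⟩ := hmem
  have hn' : x ^ n = y * x * y⁻¹ := hn
  have h3 : x ^ (n * n) = x := by
    rw [zpow_mul, hn', conj_zpow, hn']
    have : y * (y * x * y⁻¹) * y⁻¹ = (y ^ 2 * x) * (y ^ 2)⁻¹ := by rw [sq]; group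
    rw [this, h2]; group
  have h4 : ((p ^ k : ℕ) : ℤ) ∣ n * n - 1 := by
    rw [← hx]
    apply orderOf_dvd_iff_zpow_eq_one.2
    rw [zpow_sub, h3, zpow_one, mul_inv_cancel]
  have h5 : ((p ^ k : ℕ) : ℤ) ∣ (n - 1) * (n + 1) := by
    have : (n - 1) * (n + 1) = n * n - 1 := by ring
    rw [this]; exact h4
  have hpp : Prime (p : ℤ) := Nat.prime_iff_prime_int.1 hp
  have h6 : ((p ^ k : ℕ) : ℤ) ∣ n - 1 ∨ ((p ^ k : ℕ) : ℤ) ∣ n + 1 := by
    by_cases ha : (p : ℤ) ∣ n - 1
    · left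
      have hb : ¬ (p : ℤ) ∣ n + 1 := by
        intro hb
        have h7 : (p : ℤ) ∣ 2 := by
          have := dvd_sub hb ha
          have e : n + 1 - (n - 1) = 2 := by ring
          rwa [e] at this
        have h8 : p ∣ 2 := by exact_mod_cast h7
        exact hp2 ((Nat.prime_dvd_prime_iff_eq hp Nat.prime_two).1 h8)
      have hco : IsCoprime ((p ^ k : ℕ) : ℤ) (n + 1) := by
        push_cast
        exact IsCoprime.pow_left ((Prime.coprime_iff_not_dvd hpp).2 hb)
      exact hco.dvd_of_dvd_mul_right h5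
    · right
      have hco : IsCoprime ((p ^ k : ℕ) : ℤ) (n - 1) := by
        push_cast
        exact IsCoprime.pow_left ((Prime.coprime_iff_not_dvd hpp).2 ha)
      exact hco.dvd_of_dvd_mul_left h5
  rcases h6 with h6 | h6
  · exfalso
    apply h1
    have h7 : x ^ (n - 1) = 1 := by rw [← hx] at h6; exact orderOf_dvd_iff_zpow_eq_one.1 h6
    have h8 : x ^ n = x := by
      have : x ^ n = x ^ (n - 1) * x := by rw [zpow_sub_one]; group
      rw [this, h7, one_mul]
    rw [hn'] at h8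
    exact mul_inv_eq_iff_eq_mul.1 h8
  · have h7 : x ^ (n + 1) = 1 := by rw [← hx] at h6; exact orderOf_dvd_iff_zpow_eq_one.1 h6
    rw [← hn']
    rw [zpow_add_one] at h7
    exact eq_inv_of_mul_eq_one_left h7

/-- Some element inverts `x` as soon as `|N(⟨x⟩)|` is even and `|C(x)|` is odd. -/
theorem exists_inv_of_even [Finite S] {x : S} {p k : ℕ} (hp : p.Prime) (hp2 : p ≠ 2) (hx : orderOf x = p ^ k)
    (hN : 2 ∣ Nat.card ↥(Subgroup.normalizer ((Subgroup.zpowers x : Subgroup S) : Set S)))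
    (hC : Odd (Nat.card ↥(Subgroup.centralizer ({x} : Set S)))) : ∃ y : S, orderOf y = 2 ∧ y * x * y⁻¹ = x⁻¹ := by
  haveI : Fact (Nat.Prime 2) := ⟨Nat.prime_two⟩
  obtain ⟨y, hy⟩ := exists_prime_orderOf_dvd_card' 2 hN
  have hy' : orderOf (y : S) = 2 := by rw [Subgroup.orderOf_coe, hy]
  have hy2 : (y : S) ^ 2 = 1 := by rw [← hy']; exact pow_orderOf_eq_one _
  refine ⟨y, hy', inv_of_sq_comm hp hp2 hx y.2 (by rw [hy2, one_mul, mul_one]) fun h => ?_⟩
  have h1 : (y : S) ∈ Subgroup.centralizer ({x} : Set S) := Subgroup.mem_centralizer_singleton_iff.2 h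
  have h2 : orderOf (y : S) ∣ Nat.card ↥(Subgroup.centralizer ({x} : Set S)) := by
    have := orderOf_dvd_natCard (⟨(y : S), h1⟩ : ↥(Subgroup.centralizer ({x} : Set S)))
    rwa [Subgroup.orderOf_mk] at this
  rw [hy'] at h2
  rw [← Nat.not_even_iff_odd, even_iff_two_dvd] at hC
  exact hC h2

/-- **Criterion.** -/
theorem RealOdd.of_norm_even [Finite S] {x : S} {p k : ℕ} (hp : p.Prime) (hp2 : p ≠ 2) (hk : 1 ≤ k)
    (hx : orderOf x = p ^ k) (hN : 2 ∣ Nat.card ↥(Subgroup.normalizer ((Subgroup.zpowers x : Subgroup S) : Set S)))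
    (hC : Odd (Nat.card ↥(Subgroup.centralizer ({x} : Set S)))) : RealOdd S := by
  obtain ⟨y, -, hy⟩ := exists_inv_of_even hp hp2 hx hN hC
  exact ⟨x, p, k, hp, hp2, hk, hx, isConj_iff.2 ⟨y, hy⟩, hC⟩

/-- **Criterion.** The Sylow `p`-subgroup has prime order `p` and equals its centraliser; `|S| / p mod p` is even
(it is then the index `[N(P) : C(P)]`). -/
theorem RealOdd.of_sylow [Finite S] {p m : ℕ} (hp : p.Prime) (hp2 : p ≠ 2) (hm : Nat.card S = p * m) (hpm : ¬ p ∣ m)
    (hmod : 2 ∣ m % p) (hC : ∀ x : S, orderOf x = p → Nat.card ↥(Subgroup.centralizer ({x} : Set S)) = p) :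
    RealOdd S := by
  haveI : Fact p.Prime := ⟨hp⟩
  obtain ⟨x, hx⟩ := exists_prime_orderOf_dvd_card' p (show p ∣ Nat.card S from ⟨m, hm⟩)
  have hodd : Odd (Nat.card ↥(Subgroup.centralizer ({x} : Set S))) := by
    rw [hC x hx]; exact hp.odd_of_ne_two hp2
  refine RealOdd.of_norm_even (k := 1) hp hp2 le_rfl (by rw [hx, pow_one]) ?_ hodd
  have hm0 : m ≠ 0 := by
    rintro rfl
    exact hpm (dvd_zero p)
  -- the Sylow subgroup
  have hcardx : Nat.card ↥(Subgroup.zpowers x) = p := by rw [Nat.card_zpowers, hx]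
  have hfac : (Nat.card S).factorization p = 1 := by
    rw [hm, Nat.factorization_mul hp.ne_zero hm0, Finsupp.add_apply, hp.factorization_self,
      Nat.factorization_eq_zero_of_not_dvd hpm]
  let P : Sylow p S := Sylow.ofCard (Subgroup.zpowers x) (by rw [hcardx, hfac, pow_one])
  have hP : (P : Subgroup S) = Subgroup.zpowers x := rfl
  set N : Subgroup S := Subgroup.normalizer ((Subgroup.zpowers x : Subgroup S) : Set S) with hNdef
  have h1 : Nat.card (Sylow p S) ≡ 1 [MOD p] := card_sylow_modEq_one p S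
  have h2 : Nat.card (Sylow p S) = N.index := by
    rw [P.card_eq_index_normalizer]; rfl
  have h3 : Nat.card ↥N * N.index = p * m := by rw [← hm]; exact N.card_mul_index
  -- the index e
  let C : Subgroup S := Subgroup.centralizer ((Subgroup.zpowers x : Subgroup S) : Set S)
  have hCx : C = Subgroup.centralizer ({x} : Set S) := by
    show Subgroup.centralizer ((Subgroup.zpowers x : Subgroup S) : Set S) = _
    rw [Subgroup.zpowers_eq_closure, Subgroup.centralizer_closure]
  have hcardC : Nat.card ↥C = p := by rw [hCx, hC x hx]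
  have hinj := Subgroup.normalizerMonoidHom_ker (Subgroup.zpowers x)
  have hdvd : ∃ e, Nat.card ↥N = p * e ∧ e ∣ p - 1 := by
    have h4 : Nat.card ↥N = Nat.card ↥((Subgroup.zpowers x).normalizerMonoidHom.ker) *
        Nat.card ↥((Subgroup.zpowers x).normalizerMonoidHom.range) := by
      rw [← Subgroup.index_ker, mul_comm]
      exact ((Subgroup.zpowers x).normalizerMonoidHom.ker.index_mul_card).symm
    have h5 : Nat.card ↥((Subgroup.zpowers x).normalizerMonoidHom.ker) = p := by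
      rw [hinj]
      have hle : C ≤ N := by
        intro c hc
        rw [hNdef]
        exact Subgroup.centralizer_le_normalizer _ hc
      have h6 : Nat.card ↥(C.subgroupOf N) = Nat.card ↥C := by
        exact Nat.card_congr (Subgroup.subgroupOfEquivOfLe hle).toEquiv
      exact h6.trans hcardC
    have h6 : Nat.card ↥((Subgroup.zpowers x).normalizerMonoidHom.range) ∣ p - 1 := by
      have h7 := Subgroup.card_subgroup_dvd_card (Subgroup.zpowers x).normalizerMonoidHom.range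
      have h8 : Nat.card (MulAut ↥(Subgroup.zpowers x)) = p - 1 := by
        rw [IsCyclic.card_mulAut, hcardx, Nat.totient_prime hp]
      rwa [h8] at h7
    exact ⟨_, by rw [h4, h5], h6⟩
  obtain ⟨e, he, hed⟩ := hdvd
  have h4 : e * N.index = m := by
    have : p * (e * N.index) = p * m := by rw [← h3, he]; ring
    exact Nat.eq_of_mul_eq_mul_left hp.pos this
  have h5 : m ≡ e [MOD p] := by
    rw [← h4]
    have h6 : N.index ≡ 1 [MOD p] := by rw [← h2]; exact h1
    simpa using (Nat.ModEq.refl e).mul h6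
  have hep : e < p := by
    have := Nat.le_of_dvd (by have := hp.one_lt; omega) hed
    have := hp.one_lt
    omega
  have h6 : m % p = e := by
    have : m % p = e % p := h5
    rw [this, Nat.mod_eq_of_lt hep]
  rw [he]
  exact (h6 ▸ hmod).mul_left p

/-- A real element of odd prime power order is inverted by a 2-element. -/
theorem exists_two_element [Finite S] {x y : S} (hy : y * x * y⁻¹ = x⁻¹) (hx : x ≠ x⁻¹) :
    ∃ z : S, z ≠ 1 ∧ (∃ k, orderOf z = 2 ^ k) ∧ z * x * z⁻¹ = x⁻¹ := by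
  haveI : Fact (Nat.Prime 2) := ⟨Nat.prime_two⟩
  have h0 : orderOf y ≠ 0 := (orderOf_pos y).ne'
  obtain ⟨k, m, hm, hkm⟩ := Nat.exists_eq_two_pow_mul_odd h0
  have hm0 : m ≠ 0 := by rintro rfl; simp at hm
  have ho : orderOf (y ^ m) = 2 ^ k := by
    rw [orderOf_pow_of_dvd hm0 ⟨2 ^ k, by rw [hkm, mul_comm]⟩, hkm, Nat.mul_div_cancel _ (Nat.pos_of_ne_zero hm0)]
  have hpow : ∀ n : ℕ, Odd n → y ^ n * x * (y ^ n)⁻¹ = x⁻¹ := by
    have h2 : y ^ 2 * x * (y ^ 2)⁻¹ = x := by
      have : y ^ 2 * x * (y ^ 2)⁻¹ = y * (y * x * y⁻¹) * y⁻¹ := by rw [sq]; group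
      rw [this, hy]
      have : y * x⁻¹ * y⁻¹ = (y * x * y⁻¹)⁻¹ := by group
      rw [this, hy, inv_inv]
    have h3 : ∀ j : ℕ, (y ^ 2) ^ j * x * ((y ^ 2) ^ j)⁻¹ = x := by
      intro j
      induction j with
      | zero => simp
      | succ j ih =>
        have : (y ^ 2) ^ (j + 1) * x * ((y ^ 2) ^ (j + 1))⁻¹ = (y ^ 2) ^ j * (y ^ 2 * x * (y ^ 2)⁻¹) * ((y ^ 2) ^ j)⁻¹ := by
          rw [pow_succ]; group
        rw [this, h2, ih]
    rintro n ⟨j, rfl⟩
    have : y ^ (2 * j + 1) * x * (y ^ (2 * j + 1))⁻¹ = y * ((y ^ 2) ^ j * x * ((y ^ 2) ^ j)⁻¹) * y⁻¹ := by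
      rw [pow_succ', pow_mul]; group
    rw [this, h3, hy]
  refine ⟨y ^ m, ?_, ⟨k, ho⟩, hpow m hm⟩
  intro h
  have := hpow m hm
  rw [h] at this
  exact hx (by simpa using this)

/-- `RealOdd` implies `NormPair`. -/
theorem RealOdd.normPair [Finite S] (h : RealOdd S) : NormPair S := by
  obtain ⟨x, p, k, hp, hp2, hk, hx, hc, ho⟩ := h
  obtain ⟨y, hy⟩ := isConj_iff.1 hc
  obtain ⟨z, hz1, hz2, hz⟩ := exists_two_element hy (ne_inv hp hp2 hk hx)
  refine ⟨p, x, z, hp, hp2, ne_one hp hk hx, hz1, ⟨k, hx⟩, hz2, mem_normalizer_of_inv hz, fun a ha => ?_⟩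
  obtain ⟨l, hl⟩ := hz2
  have h1 : a z ∈ Subgroup.centralizer ({x} : Set S) := Subgroup.mem_centralizer_singleton_iff.2 ha.symm.eq
  have h2 : orderOf (a z) ∣ Nat.card ↥(Subgroup.centralizer ({x} : Set S)) := by
    have := orderOf_dvd_natCard (⟨a z, h1⟩ : ↥(Subgroup.centralizer ({x} : Set S)))
    rwa [Subgroup.orderOf_mk] at this
  rw [show orderOf (a z) = orderOf z from orderOf_injective a.toMonoidHom a.injective z, hl] at h2
  have hl0 : l ≠ 0 := by
    rintro rfl
    rw [pow_zero, orderOf_eq_one_iff] at hl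
    exact hz1 hl
  rw [← Nat.not_even_iff_odd, even_iff_two_dvd] at ho
  exact ho ((dvd_pow_self 2 hl0).trans h2)

/-- **Criterion.** No element of `C(x)` has the order of `y`. -/
theorem NormPair.of_order {x y : S} {p : ℕ} (hp : p.Prime) (hp2 : p ≠ 2) (hx1 : x ≠ 1) (hx : ∃ k, orderOf x = p ^ k)
    (hy : ∃ k, orderOf y = 2 ^ k)
    (hN : y ∈ Subgroup.normalizer ((Subgroup.zpowers x : Subgroup S) : Set S))
    (hC : ∀ z : S, z * x = x * z → orderOf z ≠ orderOf y) : NormPair S := by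
  refine ⟨p, x, y, hp, hp2, hx1, ?_, hx, hy, hN, fun a ha => ?_⟩
  · rintro rfl
    exact hC 1 (by rw [one_mul, mul_one]) rfl
  · exact hC (a y) ha.symm.eq (orderOf_injective a.toMonoidHom a.injective y)

/-- **Criterion.** `p` is prime to `|C(y)|`. -/
theorem NormPair.of_dvd [Finite S] {x y : S} {p : ℕ} (hp : p.Prime) (hp2 : p ≠ 2) (hx1 : x ≠ 1)
    (hx : ∃ k, orderOf x = p ^ k) (hy1 : y ≠ 1) (hy : ∃ k, orderOf y = 2 ^ k)
    (hN : y ∈ Subgroup.normalizer ((Subgroup.zpowers x : Subgroup S) : Set S))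
    (hC : ¬ p ∣ Nat.card ↥(Subgroup.centralizer ({y} : Set S))) : NormPair S := by
  refine ⟨p, x, y, hp, hp2, hx1, hy1, hx, hy, hN, fun a ha => hC ?_⟩
  obtain ⟨k, hk⟩ := hx
  have hk0 : k ≠ 0 := by
    rintro rfl
    rw [pow_zero, orderOf_eq_one_iff] at hk
    exact hx1 hk
  have h1 : Commute (a⁻¹ x) y := by
    have := ha.map (a⁻¹ : MulAut S)
    simpa using this
  have h2 : a⁻¹ x ∈ Subgroup.centralizer ({y} : Set S) := Subgroup.mem_centralizer_singleton_iff.2 h1.eq
  have h3 : orderOf (a⁻¹ x) ∣ Nat.card ↥(Subgroup.centralizer ({y} : Set S)) := by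
    have := orderOf_dvd_natCard (⟨a⁻¹ x, h2⟩ : ↥(Subgroup.centralizer ({y} : Set S)))
    rwa [Subgroup.orderOf_mk] at this
  rw [show orderOf (a⁻¹ x) = orderOf x from orderOf_injective (a⁻¹ : MulAut S).toMonoidHom (a⁻¹ : MulAut S).injective x,
    hk] at h3
  exact (dvd_pow_self p hk0).trans h3

end Criteria

section Congr

variable {S T : Type*} [Group S] [Group T]

theorem RealOdd.congr (e : S ≃* T) (h : RealOdd S) : RealOdd T := by
  obtain ⟨x, p, k, hp, hp2, hk, hx, hc, ho⟩ := h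
  refine ⟨e x, p, k, hp, hp2, hk, ?_, ?_, ?_⟩
  · rw [← hx]; exact orderOf_injective e.toMonoidHom e.injective x
  · obtain ⟨y, hy⟩ := isConj_iff.1 hc
    exact isConj_iff.2 ⟨e y, by rw [← map_mul, ← map_inv, ← map_mul, hy, map_inv]⟩
  · have h1 : Nat.card ↥(Subgroup.centralizer ({e x} : Set T)) = Nat.card ↥(Subgroup.centralizer ({x} : Set S)) := by
      symm
      refine Nat.card_congr (e.toEquiv.subtypeEquiv fun a => ?_)
      rw [Subgroup.mem_centralizer_singleton_iff, Subgroup.mem_centralizer_singleton_iff]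
      show a * x = x * a ↔ e a * e x = e x * e a
      rw [← map_mul, ← map_mul]
      exact e.injective.eq_iff.symm
    rw [h1]; exact ho

theorem NormPair.congr (e : S ≃* T) (h : NormPair S) : NormPair T := by
  obtain ⟨p, x, y, hp, hp2, hx1, hy1, ⟨k, hk⟩, ⟨l, hl⟩, hN, hC⟩ := h
  have ho : ∀ z : S, orderOf (e z) = orderOf z := fun z => orderOf_injective e.toMonoidHom e.injective z
  refine ⟨p, e x, e y, hp, hp2, ?_, ?_, ⟨k, by rw [ho, hk]⟩, ⟨l, by rw [ho, hl]⟩, ?_, ?_⟩
  · rwa [Ne, map_eq_one_iff e e.injective]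
  · rwa [Ne, map_eq_one_iff e e.injective]
  · rw [Subgroup.mem_normalizer_iff] at hN ⊢
    intro z
    obtain ⟨z, rfl⟩ := e.surjective z
    have hmem : ∀ w : S, e w ∈ Subgroup.zpowers (e x) ↔ w ∈ Subgroup.zpowers x := by
      intro w
      constructor
      · rintro ⟨n, hn⟩
        exact ⟨n, e.injective (by rw [← hn]; exact map_zpow e x n)⟩
      · rintro ⟨n, hn⟩
        exact ⟨n, by rw [← hn]; exact (map_zpow e x n).symm⟩
    rw [← map_mul, ← map_inv, ← map_mul, hmem, hmem]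
    exact hN z
  · intro a ha
    apply hC ((e.trans a).trans e.symm)
    have h1 := ha.map e.symm
    rw [MulEquiv.symm_apply_apply] at h1
    exact h1

end Congr

/-- The reduction of S2252 to `NormPair`. -/
theorem exists_of_normPair {G : Type*} [Group G] (S : Subgroup G) [S.Normal] (h : NormPair ↥S) :
    ∃ (p : ℕ) (x y : G), p.Prime ∧ p ≠ 2 ∧ x ∈ S ∧ y ∈ S ∧ x ≠ 1 ∧ y ≠ 1 ∧ (∃ k : ℕ, orderOf x = p ^ k) ∧
      (∃ k : ℕ, orderOf y = 2 ^ k) ∧ y ∈ Subgroup.normalizer ((Subgroup.zpowers x : Subgroup G) : Set G) ∧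
        ∀ g : G, ¬ Commute x (g * y * g⁻¹) := by
  obtain ⟨p, x, y, hp, hp2, hx1, hy1, ⟨k, hk⟩, ⟨l, hl⟩, hN, hC⟩ := h
  refine ⟨p, x, y, hp, hp2, x.2, y.2, ?_, ?_, ⟨k, by rw [Subgroup.orderOf_coe, hk]⟩,
    ⟨l, by rw [Subgroup.orderOf_coe, hl]⟩, ?_, ?_⟩
  · exact fun h => hx1 (Subtype.ext h)
  · exact fun h => hy1 (Subtype.ext h)
  · rw [Subgroup.mem_normalizer_iff] at hN ⊢
    have hcoe : ∀ w : ↥S, (w : G) ∈ Subgroup.zpowers (x : G) ↔ w ∈ Subgroup.zpowers x := by
      intro w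
      constructor
      · rintro ⟨n, hn⟩
        exact ⟨n, Subtype.ext (by rw [← hn]; rfl)⟩
      · rintro ⟨n, hn⟩
        exact ⟨n, by rw [← hn]; rfl⟩
    intro z
    by_cases hz : z ∈ S
    · have h1 := hN ⟨z, hz⟩
      rw [← hcoe, ← hcoe] at h1
      exact h1
    · constructor
      · rintro ⟨n, hn⟩
        exact absurd (by rw [← hn]; exact S.zpow_mem x.2 n) hz
      · rintro ⟨n, hn⟩
        refine absurd ?_ hz
        have h1 : z = (y : G)⁻¹ * (x : G) ^ n * y := by
          have : (fun n : ℤ => (x : G) ^ n) n = (x : G) ^ n := rfl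
          rw [this] at hn
          rw [hn]; group
        rw [h1]
        exact S.mul_mem (S.mul_mem (S.inv_mem y.2) (S.zpow_mem x.2 n)) y.2
  · intro g hg
    refine hC (MulAut.conjNormal g) ?_
    have h1 : (x : G) * (g * y * g⁻¹) = (g * y * g⁻¹) * x := hg
    show x * (MulAut.conjNormal g y) = (MulAut.conjNormal g y) * x
    apply Subtype.ext
    show (x : G) * ((MulAut.conjNormal g y : ↥S) : G) = ((MulAut.conjNormal g y : ↥S) : G) * x
    rw [MulAut.conjNormal_apply]
    exact h1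

end Cfsg.Agent.H101.RO
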