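import Cfsg.Agent.H101.RealOdd
import Cfsg.Agent.H182.Torus
import Cfsg.Agent.H732.SelfCentO
import Cfsg.Agent.ClassicalGeometry.OmegaIndex
import Cfsg.Agent.ClassicalGeometry.OrthDickson
import Cfsg.Agent.H101.ROSUnip
import Cfsg.Agent.S0790
import Cfsg.Agent.S0791
import Cfsg.Agent.H809.SelfCentPSU
import Cfsg.Agent.H150.OrthProd
import Cfsg.Agent.FastGrp
import Cfsg.Agent.Prune
set_option linter.all false
prune_inst 0x7fffa9fdf9a869dfffff7e3ff68cedfdf3adafffa4df29cb7fe869bfabdf7b0089c5638d8bea12fe0e97c21410e87b03fdffdeffe26bf87ffffdbff41ffbffcfedf7b50851d4883407bc2ff683f0778e6f3fffffffffffffffffffffffffffbeffbffbfeffff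
open scoped Cfsg.Agent.FastGrp

-- part: H101/RORElt
section
/-!
# Real elements of orthogonal groups

`RElt F n ε N` : a quadratic form of sign `ε` in dimension `2 n` has an isometry of order `N` inverted by an isometry.
-/

set_option autoImplicit false
set_option linter.style.haveILetI false
set_option linter.unusedSectionVars false

namespace Cfsg.Agent.H101.RO

open QuadraticMap
open Cfsg.Agent.LieClassical.OrthCore Cfsg.Agent.LieClassical.OrthForms
open Cfsg.Agent.H182.Sign Cfsg.Agent.H403.Classify Cfsg.Agent.H182.Orth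

/-- real isometries of order `N` -/
def RElt (F : Type*) [Field F] [Finite F] (n : ℕ) (ε : ℤ) (N : ℕ) : Prop :=
  ∃ (d : ℕ) (Q : QuadraticForm F (Fin d → F)) (g y : Module.End F (Fin d → F)),
    Sg Q n ε ∧ (∀ v, Q (g v) = Q v) ∧ (∀ v, Q (y v) = Q v) ∧ y * y = 1 ∧ g * y * g = y ∧ orderOf g = N

variable {F : Type*} [Field F] [Finite F]

theorem RElt.of {V : Type*} [AddCommGroup V] [Module F V] [Finite V] {Q : QuadraticForm F V} {g y : Module.End F V}
    {n : ℕ} {ε : ℤ} (hs : Sg Q n ε) (hg : ∀ v, Q (g v) = Q v) (hy : ∀ v, Q (y v) = Q v) (hyy : y * y = 1)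
    (hgy : g * y * g = y) {N : ℕ} (ho : orderOf g = N) : RElt F n ε N := by
  haveI : FiniteDimensional F V := Module.Finite.of_finite
  let e : V ≃ₗ[F] (Fin (Module.finrank F V) → F) := LinearEquiv.ofFinrankEq _ _ (by rw [Module.finrank_fin_fun])
  have hc : ∀ f f' : Module.End F V, e.conj (f * f') = e.conj f * e.conj f' := fun f f' =>
    (LinearEquiv.conjRingEquiv e).map_mul f f'
  refine ⟨_, Q.comp e.symm.toLinearMap, e.conj g, e.conj y, hs.congr e ?_, ?_, ?_, ?_, ?_, ?_⟩
  · intro v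
    show Q (e.symm (e v)) = Q v
    rw [e.symm_apply_apply]
  · intro v
    show Q (e.symm (e (g (e.symm v)))) = Q (e.symm v)
    rw [e.symm_apply_apply, hg]
  · intro v
    show Q (e.symm (e (y (e.symm v)))) = Q (e.symm v)
    rw [e.symm_apply_apply, hy]
  · rw [← hc, hyy]
    exact (LinearEquiv.conjRingEquiv e).map_one
  · rw [← hc, ← hc, hgy]
  · rw [orderOf_conj, ho]

theorem RElt.res {K : Type*} [Field K] [Finite K] [Algebra F K] {n : ℕ} {ε : ℤ} {N : ℕ} (h : RElt K n ε N) :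
    RElt F (Module.finrank F K * n) ε N := by
  obtain ⟨d, Q, g, y, hs, hg, hy, hyy, hgy, ho⟩ := h
  refine RElt.of (Q := traceForm F Q) (g := g.restrictScalars F) (y := y.restrictScalars F) hs.res ?_ ?_ ?_ ?_ ?_
  · intro v
    rw [traceForm_apply, traceForm_apply]
    show Algebra.trace F K (Q (g v)) = _
    rw [hg]
  · intro v
    rw [traceForm_apply, traceForm_apply]
    show Algebra.trace F K (Q (y v)) = _
    rw [hy]
  · apply LinearMap.ext
    intro v
    exact LinearMap.congr_fun hyy v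
  · apply LinearMap.ext
    intro v
    exact LinearMap.congr_fun hgy v
  · rw [orderOf_restrictScalars, ho]

/-- The hyperbolic plane. -/
theorem relt_hyp {N : ℕ} (hN : N ∣ Nat.card F - 1) : RElt F 1 1 N := by
  have hq := Finite.one_lt_card (α := F)
  obtain ⟨c, hc⟩ := hN
  have hc0 : c ≠ 0 := by rintro rfl; omega
  obtain ⟨l0, hl0⟩ := IsCyclic.exists_ofOrder_eq_natCard (α := Fˣ)
  rw [Nat.card_units] at hl0
  obtain ⟨l, hl⟩ : ∃ l : Fˣ, orderOf l = N := by
    refine ⟨l0 ^ c, ?_⟩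
    rw [orderOf_pow_of_dvd hc0 (by rw [hl0, hc]; exact dvd_mul_left c N), hl0, hc,
      Nat.mul_div_cancel _ (Nat.pos_of_ne_zero hc0)]
  let g : Module.End F (F × F) :=
    ((l : F) • (LinearMap.id : F →ₗ[F] F)).prodMap (((l⁻¹ : Fˣ) : F) • (LinearMap.id : F →ₗ[F] F))
  have hg : ∀ (k : ℕ) (v : F × F), (g ^ k) v = (((l ^ k : Fˣ) : F) * v.1, (((l ^ k)⁻¹ : Fˣ) : F) * v.2) := by
    intro k
    induction k with
    | zero => intro v; simp
    | succ k ih =>
      intro v
      rw [pow_succ, Module.End.mul_apply, ih]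
      change (((l ^ k : Fˣ) : F) * ((l : F) * v.1), (((l ^ k)⁻¹ : Fˣ) : F) * (((l⁻¹ : Fˣ) : F) * v.2)) = _
      rw [pow_succ, mul_inv_rev, Units.val_mul, Units.val_mul, mul_assoc]
      congr 1
      rw [mul_comm ((l⁻¹ : Fˣ) : F) (((l ^ k)⁻¹ : Fˣ) : F), mul_assoc]
  have h1 : (l : F) * ((l⁻¹ : Fˣ) : F) = 1 := Units.mul_inv l
  refine RElt.of (V := F × F) (Q := hypForm F) (g := g) (y := LinearMap.prod (LinearMap.snd F F F) (LinearMap.fst F F F))
    sg_hypForm ?_ ?_ ?_ ?_ ?_
  · intro v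
    have h := hg 1 v
    rw [pow_one] at h
    rw [h, hypForm_apply, hypForm_apply, pow_one]
    change (l : F) * v.1 * (((l⁻¹ : Fˣ) : F) * v.2) = v.1 * v.2
    linear_combination v.1 * v.2 * h1
  · intro v
    rw [hypForm_apply, hypForm_apply]
    exact mul_comm _ _
  · rfl
  · apply LinearMap.ext
    rintro ⟨u, v⟩
    refine Prod.ext ?_ ?_
    · show (l : F) * (((l⁻¹ : Fˣ) : F) * v) = v
      rw [← mul_assoc, h1, one_mul]
    · show ((l⁻¹ : Fˣ) : F) * ((l : F) * u) = u
      rw [← mul_assoc, mul_comm ((l⁻¹ : Fˣ) : F), h1, one_mul]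
  · rw [← hl, orderOf_eq_orderOf_iff]
    intro k
    constructor
    · intro h
      have h1 := hg k (1, 0)
      rw [h] at h1
      have h2 := congrArg Prod.fst h1
      simp only [mul_one] at h2
      exact Units.ext h2.symm
    · intro h
      ext <;> simp only [hg, h, _root_.LinearMap.coe_comp, _root_.LinearMap.coe_inl, _root_.Function.comp_apply, _root_.Units.val_one, _root_.mul_one, _root_.inv_one, _root_.MulZeroClass.mul_zero, _root_.Module.End.one_apply, _root_.LinearMap.coe_inr]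

/-- The elliptic plane. -/
theorem relt_ell {N : ℕ} (hN : N ∣ Nat.card F + 1) : RElt F 1 (-1) N := by
  classical
  letI := Fintype.ofFinite F
  obtain ⟨c, hc⟩ := hN
  have hc0 : c ≠ 0 := by rintro rfl; omega
  obtain ⟨μ, hμ⟩ := exists_aniso F
  obtain ⟨e⟩ := Cfsg.Agent.S0306.result (F := F) (q := Nat.card F) (Nat.card_eq_fintype_card).symm 1 μ hμ
  set h : Cfsg.isometryGroup F (Cfsg.quadFormMinus 0 F 1 μ) := e.symm (DihedralGroup.r 1) ^ c with hh
  set s : Cfsg.isometryGroup F (Cfsg.quadFormMinus 0 F 1 μ) := e.symm (DihedralGroup.sr 0) with hs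
  have hho : orderOf h = N := by
    have h1 : orderOf (e.symm (DihedralGroup.r 1)) = Nat.card F + 1 := by
      rw [MulEquiv.orderOf_eq, DihedralGroup.orderOf_r_one]
    rw [hh, orderOf_pow_of_dvd hc0 (by rw [h1, hc]; exact dvd_mul_left c N), h1, hc,
      Nat.mul_div_cancel _ (Nat.pos_of_ne_zero hc0)]
  have hss : s * s = 1 := by
    rw [hs, ← map_mul, DihedralGroup.sr_mul_sr, sub_self, ← DihedralGroup.one_def, map_one]
  have hhsh : h * s * h = s := by
    simp only [hh, hs, ← map_pow, ← map_mul, ← map_mul, DihedralGroup.r_one_pow, DihedralGroup.r_mul_sr,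
      DihedralGroup.sr_mul_r, zero_sub, neg_add_cancel]
  have key : ∀ k : Cfsg.isometryGroup F (Cfsg.quadFormMinus 0 F 1 μ), ∀ v,
      Cfsg.quadFormMinus 0 F 1 μ ((k.1.1 : Matrix ((Fin 0 ⊕ Fin 0) ⊕ Fin 2) ((Fin 0 ⊕ Fin 0) ⊕ Fin 2) F).mulVec v) =
        Cfsg.quadFormMinus 0 F 1 μ v := fun k v => k.2 v v
  have hMo : orderOf (h.1.1 : Matrix ((Fin 0 ⊕ Fin 0) ⊕ Fin 2) ((Fin 0 ⊕ Fin 0) ⊕ Fin 2) F) = N := by
    rw [orderOf_units, Subgroup.orderOf_coe, hho]
  refine RElt.of (V := (Fin 0 ⊕ Fin 0) ⊕ Fin 2 → F) (Q := minusForm 0 F 1 μ) (g := Matrix.toLinAlgEquiv' h.1.1)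
    (y := Matrix.toLinAlgEquiv' s.1.1) (sg_minusForm 0 hμ) ?_ ?_ ?_ ?_ ?_
  · intro v
    rw [coe_minusForm]
    exact key h v
  · intro v
    rw [coe_minusForm]
    exact key s v
  · rw [← map_mul]
    have : (s.1.1 : Matrix ((Fin 0 ⊕ Fin 0) ⊕ Fin 2) ((Fin 0 ⊕ Fin 0) ⊕ Fin 2) F) * s.1.1 = 1 :=
      congrArg (fun k : Cfsg.isometryGroup F (Cfsg.quadFormMinus 0 F 1 μ) => k.1.1) hss
    rw [this, map_one]
  · rw [← map_mul, ← map_mul]
    have : (h.1.1 : Matrix ((Fin 0 ⊕ Fin 0) ⊕ Fin 2) ((Fin 0 ⊕ Fin 0) ⊕ Fin 2) F) * s.1.1 * h.1.1 = s.1.1 :=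
      congrArg (fun k : Cfsg.isometryGroup F (Cfsg.quadFormMinus 0 F 1 μ) => k.1.1) hhsh
    rw [this]
  · rw [← hMo]
    exact MulEquiv.orderOf_eq (Matrix.toLinAlgEquiv' : Matrix _ _ F ≃ₐ[F] _).toMulEquiv h.1.1

/-- Split tori. -/
theorem relt_tor_plus {k N : ℕ} (hk : 1 ≤ k) (hN : N ∣ Nat.card F ^ k - 1) : RElt F k 1 N := by
  obtain ⟨p, hp⟩ := CharP.exists F
  haveI : Fact (Nat.Prime p) := ⟨CharP.char_is_prime F p⟩
  haveI : NeZero k := ⟨by omega⟩
  have h := RElt.res (F := F) (relt_hyp (F := FiniteField.Extension F p k) (N := N) (by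
    rwa [FiniteField.natCard_extension]))
  rwa [FiniteField.finrank_extension, mul_one] at h

/-- Nonsplit tori. -/
theorem relt_tor_minus {k N : ℕ} (hk : 1 ≤ k) (hN : N ∣ Nat.card F ^ k + 1) : RElt F k (-1) N := by
  obtain ⟨p, hp⟩ := CharP.exists F
  haveI : Fact (Nat.Prime p) := ⟨CharP.char_is_prime F p⟩
  haveI : NeZero k := ⟨by omega⟩
  have h := RElt.res (F := F) (relt_ell (F := FiniteField.Extension F p k) (N := N) (by
    rwa [FiniteField.natCard_extension]))
  rwa [FiniteField.finrank_extension, mul_one] at h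

end Cfsg.Agent.H101.RO
end

-- part: H101/ROOrth
section
/-!
# Real elements in the groups `PΩ`
-/

set_option autoImplicit false
set_option linter.style.haveILetI false
set_option linter.unusedSectionVars false

namespace Cfsg.Agent.H101.RO

open QuadraticMap Matrix
open Cfsg.Agent.LieClassical.OrthCore Cfsg.Agent.LieClassical.OrthForms
open Cfsg.Agent.H182.Sign Cfsg.Agent.H403.Classify Cfsg.Agent.H182.Orth
open Cfsg.Agent.ClassicalGeometry.Reflection

/-- no element of order `2 r` -/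
theorem RealOdd.of_far {S : Type*} [Group S] [Finite S] {x y : S} {r : ℕ} (hr : r.Prime) (hr2 : r ≠ 2)
    (hx : orderOf x = r) (hy : y * x * y⁻¹ = x⁻¹) (hf : ∀ g : S, orderOf g ≠ 2 * r) : RealOdd S := by
  refine RealOdd.of_elts hr hr2 le_rfl (k := 1) (by rw [hx, pow_one]) hy ?_
  intro t ht htx
  apply hf (t * x)
  have hcop : Nat.Coprime (orderOf t) (orderOf x) := by
    rw [ht, hx]
    exact (Nat.coprime_primes Nat.prime_two hr).2 hr2.symm
  rw [(show Commute t x from htx).orderOf_mul_eq_mul_orderOf_of_coprime hcop, ht, hx]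

/-- a real element of odd prime order lies in the commutator subgroup and survives modulo the centre -/
theorem realOdd_of_commutator {G : Type*} [Group G] [Finite G] {X Y : G} (hY : Y ∈ commutator G) (hXY : X * Y * X = Y)
    {r : ℕ} (hr : r.Prime) (hr2 : r ≠ 2) (hX : orderOf X = r)
    (hf : ∀ g : commutator G ⧸ Subgroup.center (commutator G), orderOf g ≠ 2 * r) :
    RealOdd (commutator G ⧸ Subgroup.center (commutator G)) := by
  have hYX : Y * X * Y⁻¹ = X⁻¹ := by
    have h1 : X⁻¹ * (X * Y * X) = X⁻¹ * Y := by rw [hXY]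
    have h2 : X⁻¹ * (X * Y * X) = Y * X := by group
    rw [← h2, h1]; group
  obtain ⟨m, hm⟩ := hr.odd_of_ne_two hr2
  have hXr : X ^ r = 1 := by rw [← hX]; exact pow_orderOf_eq_one X
  have hXmem : X ∈ commutator G := by
    have h1 : Abelianization.of X ^ 2 = 1 := by
      have h2 := congrArg Abelianization.of hXY
      rw [map_mul, map_mul, mul_right_comm, ← pow_two, mul_eq_right] at h2
      exact h2
    have h2 : Abelianization.of X = 1 := by
      have h3 : Abelianization.of X ^ r = 1 := by rw [← map_pow, hXr, map_one]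
      rwa [hm, pow_succ, pow_mul, h1, one_pow, one_mul] at h3
    exact (QuotientGroup.eq_one_iff X).1 h2
  set x : commutator G ⧸ Subgroup.center (commutator G) := QuotientGroup.mk ⟨X, hXmem⟩ with hx
  set y : commutator G ⧸ Subgroup.center (commutator G) := QuotientGroup.mk ⟨Y, hY⟩ with hy
  have hyx : y * x * y⁻¹ = x⁻¹ := by
    rw [hx, hy, ← QuotientGroup.mk_mul, ← QuotientGroup.mk_inv, ← QuotientGroup.mk_mul, ← QuotientGroup.mk_inv]
    congr 1
    exact Subtype.ext hYX
  have hxr : x ^ r = 1 := by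
    rw [hx, ← QuotientGroup.mk_pow]
    have : (⟨X, hXmem⟩ : commutator G) ^ r = 1 := Subtype.ext hXr
    rw [this]
    rfl
  have hx1 : x ≠ 1 := by
    intro h
    rw [hx, QuotientGroup.eq_one_iff, Subgroup.mem_center_iff] at h
    have h1 : Y * X = X * Y := congrArg Subtype.val (h ⟨Y, hY⟩)
    have h2 : X = X⁻¹ := by
      rw [← hYX, h1]; group
    have h3 : X ^ 2 = 1 := by rw [pow_two]; nth_rewrite 2 [h2]; exact mul_inv_cancel X
    have h4 := orderOf_dvd_of_pow_eq_one h3
    rw [hX] at h4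
    exact hr2 ((Nat.prime_dvd_prime_iff_eq hr Nat.prime_two).1 h4)
  have hox : orderOf x = r := by
    rcases (Nat.dvd_prime hr).1 (orderOf_dvd_of_pow_eq_one hxr) with h | h
    · exact absurd (orderOf_eq_one_iff.1 h) hx1
    · exact h
  exact RealOdd.of_far hr hr2 hox hyx hf

section Iso

variable {F : Type*} [Field F] {ι : Type} [Fintype ι] [DecidableEq ι]

/-- isometries as elements of the isometry group -/
theorem exists_isoElt (Q : (ι → F) → F) {T T' : Module.End F (ι → F)} (h : T * T' = 1) (h' : T' * T = 1)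
    (hT : ∀ v, Q (T v) = Q v) :
    ∃ X : Cfsg.isometryGroup F Q, (∀ v, ((X : Matrix.GeneralLinearGroup ι F) : Matrix ι ι F) *ᵥ v = T v) ∧
      ((X : Matrix.GeneralLinearGroup ι F) : Matrix ι ι F) = LinearMap.toMatrixAlgEquiv' T := by
  let A : Matrix.GeneralLinearGroup ι F := ⟨LinearMap.toMatrixAlgEquiv' T, LinearMap.toMatrixAlgEquiv' T', by
    rw [← map_mul, h, map_one], by rw [← map_mul, h', map_one]⟩
  have hA : ∀ v, (A : Matrix ι ι F) *ᵥ v = T v := fun v => LinearMap.toMatrix'_mulVec T v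
  exact ⟨⟨A, (mem_isometryGroup_iff Q A).2 fun x => by rw [hA, hT]⟩, hA, rfl⟩

/-- **two blocks** : real elements acting trivially on a nondegenerate plane -/
theorem exists_blocks [Finite F] {Q : QuadraticForm F (ι → F)} {n : ℕ} {ε ε1 ε0 : ℤ} (hQ : Sg Q (n + 1) ε)
    {r : ℕ} (h : RElt F n ε1 r) (hε : ε1 * ε0 = ε) {κ : Type} [Fintype κ]
    {Q0 : QuadraticForm F (κ → F)} (hQ0 : Sg Q0 1 ε0) :
    ∃ X Y : Cfsg.isometryGroup F (⇑Q), orderOf X = r ∧ X * Y * X = Y ∧
      ∀ w, ∃ v, Q v = Q0 w ∧ ((X : Matrix.GeneralLinearGroup ι F) : Matrix ι ι F) *ᵥ v = v := by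
  obtain ⟨d, Q1, g, y, hs, hg, hy, hyy, hgy, ho⟩ := h
  have hprod : Sg (prodForm Q1 Q0) (n + 1) ε := by rw [← hε]; exact hs.prod hQ0
  obtain ⟨e, he⟩ := hprod.exists_equiv hQ
  have hc : ∀ f f' : Module.End F ((Fin d → F) × (κ → F)), e.conj (f * f') = e.conj f * e.conj f' := fun f f' =>
    (LinearEquiv.conjRingEquiv e).map_mul f f'
  have hc1 : e.conj 1 = 1 := (LinearEquiv.conjRingEquiv e).map_one
  have hpm : ∀ f f' : Module.End F (Fin d → F), (f * f').prodMap (LinearMap.id : (κ → F) →ₗ[F] (κ → F)) =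
      f.prodMap LinearMap.id * f'.prodMap LinearMap.id := fun _ _ => rfl
  have hpm1 : (1 : Module.End F (Fin d → F)).prodMap (LinearMap.id : (κ → F) →ₗ[F] (κ → F)) = 1 := rfl
  set! G : Module.End F (ι → F) := e.conj (g.prodMap LinearMap.id) with hG
  set! Y : Module.End F (ι → F) := e.conj (y.prodMap LinearMap.id) with hY
  have hYY : Y * Y = 1 := by rw [hY, ← hc, ← hpm, hyy, hpm1, hc1]
  have hGYG : G * Y * G = Y := by rw [hG, hY, ← hc, ← hc, ← hpm, ← hpm, hgy]
  have hG1 : G * (Y * G * Y) = 1 := by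
    calc G * (Y * G * Y) = (G * Y * G) * Y := by noncomm_ring
      _ = 1 := by rw [hGYG, hYY]
  have hG2 : (Y * G * Y) * G = 1 := by
    calc (Y * G * Y) * G = Y * (G * Y * G) := by noncomm_ring
      _ = 1 := by rw [hGYG, hYY]
  have hGQ : ∀ v, Q (G v) = Q v := by
    intro v
    show Q (e ((g.prodMap LinearMap.id) (e.symm v))) = Q v
    rw [he]
    conv_rhs => rw [← e.apply_symm_apply v, he]
    rw [prodForm_apply, prodForm_apply]
    show Q1 (g (e.symm v).1) + Q0 (e.symm v).2 = _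
    rw [hg]
  have hYQ : ∀ v, Q (Y v) = Q v := by
    intro v
    show Q (e ((y.prodMap LinearMap.id) (e.symm v))) = Q v
    rw [he]
    conv_rhs => rw [← e.apply_symm_apply v, he]
    rw [prodForm_apply, prodForm_apply]
    show Q1 (y (e.symm v).1) + Q0 (e.symm v).2 = _
    rw [hy]
  obtain ⟨X, hX, hXm⟩ := exists_isoElt (⇑Q) hG1 hG2 hGQ
  obtain ⟨Z, hZ, hZm⟩ := exists_isoElt (⇑Q) hYY hYY hYQ
  refine ⟨X, Z, ?_, ?_, ?_⟩
  · rw [← Subgroup.orderOf_coe, ← orderOf_units, hXm]
    have h1 : orderOf (LinearMap.toMatrixAlgEquiv' G) = orderOf G :=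
      MulEquiv.orderOf_eq (LinearMap.toMatrixAlgEquiv' : _ ≃ₐ[F] Matrix ι ι F).toMulEquiv G
    rw [h1, hG, orderOf_conj, orderOf_prodMap, ho]
    have : orderOf (LinearMap.id : Module.End F (κ → F)) = 1 := orderOf_one
    rw [this, Nat.lcm_one_right]
  · apply Subtype.ext
    apply Units.ext
    show ((X : Matrix.GeneralLinearGroup ι F) : Matrix ι ι F) * ((Z : Matrix.GeneralLinearGroup ι F) : Matrix ι ι F) *
      ((X : Matrix.GeneralLinearGroup ι F) : Matrix ι ι F) = ((Z : Matrix.GeneralLinearGroup ι F) : Matrix ι ι F)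
    rw [hXm, hZm, ← map_mul, ← map_mul, hGYG]
  · intro w
    refine ⟨e (0, w), ?_, ?_⟩
    · rw [he, prodForm_apply, QuadraticMap.map_zero, zero_add]
    · rw [hX]
      show e ((g.prodMap LinearMap.id) (e.symm (e (0, w)))) = e (0, w)
      rw [e.symm_apply_apply]
      congr 1
      exact Prod.ext (map_zero g) rfl

/-- a reflection in a fixed vector commutes -/
theorem refl_comm (Q : QuadraticForm F (ι → F)) {v : ι → F} (hv : Q v ≠ 0) {X : Cfsg.isometryGroup F (⇑Q)}
    (hX : ((X : Matrix.GeneralLinearGroup ι F) : Matrix ι ι F) *ᵥ v = v) : X * reflIso Q v hv = reflIso Q v hv * X := by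
  have h1 := conj_reflIso Q v hv X (by rw [hX]; exact hv)
  rw [mul_inv_eq_iff_eq_mul] at h1
  rw [h1]
  congr 1
  apply Subtype.ext
  apply Units.ext
  show Cfsg.reflectionMatrix (⇑Q) _ = Cfsg.reflectionMatrix (⇑Q) v
  rw [hX]

theorem adjust_mul {G : Type*} [Group G] {X Y R : G} (h : X * Y * X = Y) (hR : X * R = R * X) :
    X * (Y * R) * X = Y * R := by
  calc X * (Y * R) * X = X * Y * (R * X) := by group
    _ = (X * Y * X) * R := by rw [← hR]; group
    _ = Y * R := by rw [h]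

/-- odd characteristic -/
theorem adjust_odd [Finite F] (h2 : (2 : F) ≠ 0) (Q : QuadraticForm F (ι → F))
    (hQ : (QuadraticMap.polarBilin Q).Nondegenerate) {X Y : Cfsg.isometryGroup F (⇑Q)} (hXY : X * Y * X = Y)
    {v w : ι → F} (hv : Q v = 1) (hw : Q w ≠ 0) (hw' : ¬ IsSquare (Q w))
    (hXv : ((X : Matrix.GeneralLinearGroup ι F) : Matrix ι ι F) *ᵥ v = v)
    (hXw : ((X : Matrix.GeneralLinearGroup ι F) : Matrix ι ι F) *ᵥ w = w) :
    ∃ Y' ∈ commutator (Cfsg.isometryGroup F (⇑Q)), X * Y' * X = Y' := by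
  have hv0 : Q v ≠ 0 := by rw [hv]; exact one_ne_zero
  have hRv := refl_comm Q hv0 hXv
  have hRw := refl_comm Q hw hXw
  have hvv := reflIso_mul_self Q v hv0
  have hww := reflIso_mul_self Q w hw
  have hmem : ∀ Z : Cfsg.isometryGroup F (⇑Q), Abelianization.of Z = 1 → Z ∈ commutator (Cfsg.isometryGroup F (⇑Q)) :=
    fun Z hZ => (QuotientGroup.eq_one_iff Z).1 hZ
  rcases Cfsg.Agent.ClassicalGeometry.OmegaIndex.abelianization_cases h2 Q hQ (one_ne_zero (α := F)) v w hv0 hw
    (by rw [hv, one_mul]; exact IsSquare.one) (by rw [one_mul]; exact hw') (Abelianization.of Y) with h | h | h | h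
  · exact ⟨Y, hmem Y h, hXY⟩
  · refine ⟨Y * reflIso Q v hv0, hmem _ ?_, adjust_mul hXY hRv⟩
    rw [map_mul, h, ← map_mul, hvv, map_one]
  · refine ⟨Y * reflIso Q w hw, hmem _ ?_, adjust_mul hXY hRw⟩
    rw [map_mul, h, ← map_mul, hww, map_one]
  · refine ⟨Y * reflIso Q w hw * reflIso Q v hv0, hmem _ ?_, adjust_mul (adjust_mul hXY hRw) hRv⟩
    (rewrite [map_mul, map_mul, h, mul_assoc (Abelianization.of (reflIso Q v hv0))]; (conv => enter [@2, @5, @6]; rw [← map_mul]); simp only [hww]; simp only [map_one]; rewrite [mul_one, ← map_mul, hvv, map_one]; with_reducible rfl)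

/-- characteristic two -/
theorem adjust_even [Finite F] (h2 : (2 : F) = 0) (Q : QuadraticForm F (ι → F))
    (hQ : (QuadraticMap.polarBilin Q).Nondegenerate) (hι : 5 ≤ Fintype.card ι)
    {X Y : Cfsg.isometryGroup F (⇑Q)} (hXY : X * Y * X = Y)
    {v : ι → F} (hv : Q v ≠ 0)
    (hXv : ((X : Matrix.GeneralLinearGroup ι F) : Matrix ι ι F) *ᵥ v = v) :
    ∃ Y' ∈ commutator (Cfsg.isometryGroup F (⇑Q)), X * Y' * X = Y' := by
  haveI : Nonempty ι := Fintype.card_pos_iff.1 (by omega)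
  have hg : (∃ θ : F, θ ≠ 0 ∧ θ ≠ 1) ∨ Fintype.card ι ≠ 4 := Or.inr (by omega)
  have hi := Cfsg.Agent.ClassicalGeometry.OrthDickson.index_commutator_two Q h2 hQ hg
  have hn := Cfsg.Agent.ClassicalGeometry.OrthDickson.refl_notMem_commutator Q hQ hg v hv
  by_cases hY : Y ∈ commutator (Cfsg.isometryGroup F (⇑Q))
  · exact ⟨Y, hY, hXY⟩
  · refine ⟨Y * reflIso Q v hv, ?_, adjust_mul hXY (refl_comm Q hv hXv)⟩
    exact (Subgroup.mul_mem_iff_of_index_two hi).2 (iff_of_false hY hn)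

end Iso

end Cfsg.Agent.H101.RO
end

-- part: H101/ROOrthRow
section
/-!
# `RealOdd` for `PΩ^±_{2n}(q)`: torus cases
-/

set_option autoImplicit false
set_option linter.style.haveILetI false
set_option linter.unusedSectionVars false

namespace Cfsg.Agent.H101.RO

open QuadraticMap Matrix Module Cfsg
open Cfsg.Agent.LieClassical.OrthCore Cfsg.Agent.LieClassical.OrthForms
open Cfsg.Agent.H182.Sign Cfsg.Agent.H403.Classify
open Cfsg.Agent.ClassicalGeometry.Reflection

variable {F : Type} [Field F] [Fintype F] {ι : Type} [Fintype ι] [DecidableEq ι]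

theorem two_le_card_of_sg {κ : Type} [Fintype κ] {Q0 : QuadraticForm F (κ → F)} {ε : ℤ} (h : Sg Q0 1 ε) :
    2 ≤ Fintype.card κ := by
  have := h.dim
  rw [Module.finrank_fintype_fun_eq_card] at this
  omega

/-- characteristic two -/
theorem pomega_even (h2 : (2 : F) = 0) {Q : QuadraticForm F (ι → F)} {n : ℕ} {ε : ℤ} (hn : 4 ≤ n) (hQ : Sg Q n ε)
    (hs : ∃ u : ι → F, u ≠ 0 ∧ Q u = 0) : RealOdd (POmega F (⇑Q)) := by
  have hnd : (polarBilin Q).Nondegenerate := nondegenerate_iff_nondeg.2 hQ.nondeg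
  have hdim := hQ.dim
  have hι : Fintype.card ι = 2 * n := by rw [← hdim]; simp only [_root_.Module.finrank_fintype_fun_eq_card]
  obtain ⟨m, rfl⟩ : ∃ m, n = m + 1 := ⟨n - 1, by omega⟩
  have key : ∀ (ε1 ε0 : ℤ) (hε0 : ε0 = 1 ∨ ε0 = -1) (hε : ε1 * ε0 = ε) (r : ℕ) (hr : r.Prime) (hr2 : r ≠ 2)
      (h : RElt F m ε1 r) (hf : ∀ g : POmega F (⇑Q), orderOf g ≠ 2 * r), RealOdd (POmega F (⇑Q)) := by
    intro ε1 ε0 hε0 hε r hr hr2 h hf
    obtain ⟨κ, hκ, Q0, hQ0⟩ := exists_sg F (n := 1) le_rfl hε0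
    obtain ⟨X, Y, hX, hXY, hv⟩ := exists_blocks hQ h hε hQ0
    classical
    haveI : Nonempty κ := Fintype.card_pos_iff.1 (by have := two_le_card_of_sg hQ0; omega)
    obtain ⟨w, hw⟩ := Cfsg.Agent.ClassicalGeometry.Universal.exists_map_ne_zero Q0 (nondegenerate_iff_nondeg.2 hQ0.nondeg)
    obtain ⟨v, hv1, hv2⟩ := hv w
    obtain ⟨Y', hY', hXY'⟩ := adjust_even h2 Q hnd (by omega) hXY (by rw [hv1]; exact hw) hv2
    exact realOdd_of_commutator hY' hXY' hr hr2 hX hf
  have hqe : Nat.card F = Fintype.card F := Nat.card_eq_fintype_card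
  by_cases h6 : Fintype.card F = 2 ∧ 2 * m = 6
  · obtain ⟨r, hr, hr2, hrF, hk, hrm⟩ := Cfsg.Agent.H150.exists_primitive_prime (F := F) (k := 3) le_rfl (by omega)
    have hm : m = 3 := by omega
    subst hm
    refine key 1 ε hQ.eps (one_mul ε) r hr hr2 (relt_tor_plus (by norm_num) (by rw [hqe]; exact (hrm 3).2 dvd_rfl)) ?_
    exact Cfsg.Agent.H150.gen_partial_even h2 Q hnd hdim hs hr hr2 hrF hn hk (Or.inl ⟨by decide, rfl⟩)
  · obtain ⟨r, hr, hr2, hrF, hk, hrm⟩ := Cfsg.Agent.H150.exists_primitive_prime (F := F) (k := 2 * m) (by omega) h6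
    refine key (-1) (-ε) ?_ (by ring) r hr hr2 (relt_tor_minus (by omega) ?_) ?_
    · rcases hQ.eps with h | h <;> rw [h] <;> simp
    · rw [hqe]; exact Cfsg.Agent.H150.dvd_pow_add_one_of_primitive hr (by omega) hrm
    · exact Cfsg.Agent.H150.gen_partial_even h2 Q hnd hdim hs hr hr2 hrF hn hk (Or.inr ⟨even_two_mul m, rfl⟩)

/-- odd characteristic, `q ^ n ≡ ε` modulo 4 -/
theorem pomega_odd_torus (h2 : (2 : F) ≠ 0) {Q : QuadraticForm F (ι → F)} {n : ℕ} {ε : ℤ} (hn : 4 ≤ n) (hQ : Sg Q n ε)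
    (hs : ∃ u : ι → F, u ≠ 0 ∧ Q u = 0) (hA : (4 : ℤ) ∣ (Nat.card F : ℤ) ^ n - ε) : RealOdd (POmega F (⇑Q)) := by
  have hnd : (polarBilin Q).Nondegenerate := nondegenerate_iff_nondeg.2 hQ.nondeg
  have hdim := hQ.dim
  have hsign : Cfsg.Agent.H377.HasSign (⇑Q) n ε := hQ.sign
  obtain ⟨m, rfl⟩ : ∃ m, n = m + 1 := ⟨n - 1, by omega⟩
  have key : ∀ (ε1 ε0 : ℤ) (hε0 : ε0 = 1 ∨ ε0 = -1) (hε : ε1 * ε0 = ε) (r : ℕ) (hr : r.Prime) (hr2 : r ≠ 2)
      (h : RElt F m ε1 r) (hf : ∀ g : POmega F (⇑Q), orderOf g ≠ 2 * r), RealOdd (POmega F (⇑Q)) := by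
    intro ε1 ε0 hε0 hε r hr hr2 h hf
    obtain ⟨κ, hκ, Q0, hQ0⟩ := exists_sg F (n := 1) le_rfl hε0
    obtain ⟨X, Y, hX, hXY, hv⟩ := exists_blocks hQ h hε hQ0
    classical
    obtain ⟨⟨w, hw⟩, w', hw', hw''⟩ := Cfsg.Agent.ClassicalGeometry.Universal.exists_isSquare_and_not h2 Q0
      (nondegenerate_iff_nondeg.2 hQ0.nondeg) (two_le_card_of_sg hQ0)
    obtain ⟨v, hv1, hv2⟩ := hv w
    obtain ⟨v', hv1', hv2'⟩ := hv w'
    obtain ⟨Y', hY', hXY'⟩ := adjust_odd h2 Q hnd hXY (v := v) (w := v') (by rw [hv1, hw]) (by rw [hv1']; exact hw')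
      (by rw [hv1']; exact hw'') hv2 hv2'
    exact realOdd_of_commutator hY' hXY' hr hr2 hX hf
  have hqe : Nat.card F = Fintype.card F := Nat.card_eq_fintype_card
  have hodd := natCard_odd_of_two h2
  have hq3 : 3 ≤ Nat.card F := by
    have : 1 < Nat.card F := Finite.one_lt_card
    omega
  have heps : ε = 1 ∨ ε = -1 := hQ.eps
  by_cases h4 : Nat.card F ^ m % 4 = 1
  · obtain ⟨r, hr, hr2, hrF, hk, hrm⟩ := Cfsg.Agent.H150.exists_primitive_prime (F := F) (k := 2 * m) (by omega)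
      (by omega)
    have hd : r ∣ Nat.card F ^ m + 1 := by
      rw [hqe]; exact Cfsg.Agent.H150.dvd_pow_add_one_of_primitive hr (by omega) hrm
    refine key (-1) (-ε) ?_ (by ring) r hr hr2 (relt_tor_minus (by omega) hd) ?_
    · rcases heps with h | h <;> rw [h] <;> simp
    · refine Cfsg.Agent.H150.gen_partial_irr h2 Q hnd hdim hs hr hr2 hrF (by omega) heps hsign hk hd h4 hA ?_
      have h5 : ((Nat.card F : ℤ) ^ m) % 4 = 1 := by exact_mod_cast h4
      have h6 : ((Nat.card F : ℤ) ^ (m + 1)) % 4 = (Nat.card F : ℤ) % 4 := by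
        rw [pow_succ, Int.mul_emod, h5, one_mul, Int.emod_emod_of_dvd _ (dvd_refl 4)]
      rcases heps with h | h <;> rw [h] at hA ⊢ <;> (clear * - hA h6; omega)
  · have hq3' : Nat.card F % 4 = 3 := by
      have : Nat.card F % 4 = 1 ∨ Nat.card F % 4 = 3 := by omega
      refine this.resolve_left fun h => h4 ?_
      rw [Nat.pow_mod, h, one_pow]
      rfl
    have hmodd : Odd m := by
      rw [← Nat.not_even_iff_odd]
      rintro ⟨t, rfl⟩
      apply h4
      rw [← two_mul, pow_mul, Nat.pow_mod, Nat.pow_mod _ 2, hq3']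
      norm_num
    have h43 : Nat.card F ^ m % 4 = 3 := by
      obtain ⟨c, rfl⟩ := hmodd
      rw [pow_succ, pow_mul, Nat.mul_mod, Nat.pow_mod, Nat.pow_mod _ 2, hq3']
      norm_num
    obtain ⟨r, hr, hr2, hrF, hk, hrm⟩ := Cfsg.Agent.H150.exists_primitive_prime (F := F) (k := m) (by omega)
      (by omega)
    refine key 1 ε heps (one_mul ε) r hr hr2 (relt_tor_plus (by omega) (by rw [hqe]; exact (hrm m).2 dvd_rfl)) ?_
    refine Cfsg.Agent.H150.gen_partial_odd h2 Q hnd hdim hs hr hr2 hrF (by omega) heps hsign hk hmodd hq3' hA ?_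
    have h5 : ((Nat.card F : ℤ) ^ m) % 4 = 3 := by exact_mod_cast h43
    have h7 : (Nat.card F : ℤ) % 4 = 3 := by exact_mod_cast hq3'
    have h6 : ((Nat.card F : ℤ) ^ (m + 1)) % 4 = 1 := by
      rw [pow_succ, Int.mul_emod, h5, h7]
      norm_num
    rcases heps with h | h <;> rw [h] at hA ⊢ <;> (clear * - hq3' hA h6; omega)

end Cfsg.Agent.H101.RO
end

-- part: H101/ROUniO
section
/-!
# `RealOdd` for `PΩ^±_{2n}(q)`, `q` odd, `q ^ n ≢ ε` modulo 4 : the unipotent case
-/

set_option autoImplicit false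
set_option linter.style.haveILetI false
set_option linter.unusedSectionVars false

namespace Cfsg.Agent.H101.RO

open QuadraticMap Matrix Module Cfsg
open Cfsg.Agent.LieClassical.OrthCore Cfsg.Agent.LieClassical.OrthForms
open Cfsg.Agent.H182.Sign Cfsg.Agent.H403.Classify
open Cfsg.Agent.ClassicalGeometry.Reflection

section Sign

variable {F : Type*} [Field F] [Finite F]

theorem sg_of_nondeg {V : Type*} [AddCommGroup V] [Module F V] [Finite V] {Q : QuadraticForm F V} (hQ : Nondeg Q) {n : ℕ}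
    (hn : finrank F V = 2 * n) : Sg Q n 1 ∨ Sg Q n (-1) := by
  haveI : FiniteDimensional F V := Module.Finite.of_finite
  rcases classify' Q hQ n hn with ⟨e, he⟩ | ⟨k, rfl, a, b, hab, e, he⟩
  · exact Or.inl ((sg_plusForm n).congr e he)
  · exact Or.inr ((sg_minusForm k hab).congr e he)

/-- the form `c t ^ 2` -/
def csq (c : F) : QuadraticForm F F := c • QuadraticMap.sq

theorem csq_apply (c t : F) : csq c t = c * (t * t) := rfl

theorem nondeg_prodForm {V W : Type*} [AddCommGroup V] [Module F V] [AddCommGroup W] [Module F W] {Q : QuadraticForm F V}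
    {Q' : QuadraticForm F W} (h : Nondeg Q) (h' : Nondeg Q') : Nondeg (prodForm Q Q') := by
  intro x hx
  refine Prod.ext (h _ fun v => ?_) (h' _ fun v => ?_)
  · have h1 : (Q (x.1 + v) + Q' (x.2 + 0)) - (Q x.1 + Q' x.2) - (Q v + Q' 0) = 0 := hx (v, 0)
    rw [add_zero, QuadraticMap.map_zero] at h1
    simp only [polar]
    linear_combination h1
  · have h1 : (Q (x.1 + 0) + Q' (x.2 + v)) - (Q x.1 + Q' x.2) - (Q 0 + Q' v) = 0 := hx (0, v)
    rw [add_zero, QuadraticMap.map_zero] at h1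
    simp only [polar]
    linear_combination h1

theorem nondeg_csq (h2 : (2 : F) ≠ 0) {c : F} (hc : c ≠ 0) : Nondeg (csq c) := by
  intro x hx
  have h1 := hx 1
  simp only [polar, csq_apply] at h1
  have h3 : 2 * c * x = 0 := by linear_combination h1
  exact (mul_eq_zero.1 h3).resolve_left (mul_ne_zero h2 hc)

/-- both signs occur -/
theorem exists_csq_sg (h2 : (2 : F) ≠ 0) {V : Type*} [AddCommGroup V] [Module F V] [Finite V] {Q : QuadraticForm F V}
    (hQ : Nondeg Q) {n : ℕ} (hn : finrank F V + 1 = 2 * n) {ε : ℤ} (hε : ε = 1 ∨ ε = -1) :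
    ∃ c : F, c ≠ 0 ∧ Sg (prodForm Q (csq c)) n ε := by
  classical
  by_contra hcon
  push Not at hcon
  haveI : FiniteDimensional F V := Module.Finite.of_finite
  letI : Fintype F := Fintype.ofFinite F
  have hdim : finrank F (V × F) = 2 * n := by rw [finrank_prod, finrank_self, hn]
  have hall : ∀ c : F, c ≠ 0 → Sg (prodForm Q (csq c)) n (-ε) := by
    intro c hc
    rcases sg_of_nondeg (nondeg_prodForm hQ (nondeg_csq h2 hc)) hdim with h | h <;> rcases hε with rfl | rfl
    · exact absurd h (hcon c hc)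
    · rw [neg_neg]; exact h
    · exact h
    · exact absurd h (hcon c hc)
  obtain ⟨ψ, hψ⟩ : ∃ ψ : AddChar F ℂ, ψ ≠ 1 := by
    haveI : Nontrivial (AddChar F ℂ) := by
      rw [← Finite.one_lt_card_iff_nontrivial, Nat.card_eq_fintype_card, AddChar.card_eq]
      exact Fintype.one_lt_card
    exact exists_ne 1
  have hgs : ∀ c : F, c ≠ 0 → gs ψ (⇑Q) * gs ψ (⇑(csq c)) = ((-ε : ℤ) : ℂ) * (Nat.card F : ℂ) ^ n := by
    intro c hc
    rw [← (hall c hc).sign ψ hψ, ← gs_prod]
    rfl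
  have hprim : ψ.IsPrimitive := AddChar.IsPrimitive.of_ne_one hψ
  have hsum : ∑ c ∈ Finset.univ.erase (0 : F), gs ψ (⇑(csq c)) = 0 := by
    have h1 : ∀ c : F, gs ψ (⇑(csq c)) = ∑ t : F, ψ (c * (t * t)) := fun c => gs_eq ψ _
    have h3 : ∑ c : F, gs ψ (⇑(csq c)) = (Fintype.card F : ℂ) := by
      simp only [h1]
      rw [Finset.sum_comm]
      simp only [AddChar.sum_mulShift _ hprim]
      rw [Finset.sum_eq_single 0]
      · simp
      · intro t _ ht
        rw [if_neg (mul_self_ne_zero.2 ht)]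
        simp
      · intro h; exact absurd (Finset.mem_univ _) h
    rw [← Finset.add_sum_erase _ _ (Finset.mem_univ (0 : F))] at h3
    have h4 : gs ψ (⇑(csq (0 : F))) = (Fintype.card F : ℂ) := by
      rw [h1]
      simp
    rw [h4] at h3
    linear_combination h3
  have h5 : ∑ c ∈ Finset.univ.erase (0 : F), gs ψ (⇑Q) * gs ψ (⇑(csq c)) = 0 := by
    rw [← Finset.mul_sum, hsum, mul_zero]
  rw [Finset.sum_congr rfl fun c hc => hgs c (Finset.ne_of_mem_erase hc), Finset.sum_const, nsmul_eq_mul] at h5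
  have h6 : ((Finset.univ.erase (0 : F)).card : ℂ) ≠ 0 := by
    rw [Nat.cast_ne_zero, Finset.card_ne_zero]
    exact ⟨1, Finset.mem_erase.2 ⟨one_ne_zero, Finset.mem_univ _⟩⟩
  have h7 : ((-ε : ℤ) : ℂ) ≠ 0 := by
    rcases hε with rfl | rfl <;> simp
  have h8 : (Nat.card F : ℂ) ^ n ≠ 0 := pow_ne_zero _ (Nat.cast_ne_zero.2 Finite.card_pos.ne')
  exact (mul_ne_zero h6 (mul_ne_zero h7 h8)) h5

end Sign

/-- adjusting by central-like elements -/
theorem adjust_gen {G : Type*} [Group G] {A : Type*} [CommRing A] (d : G →* Aˣ) (σ : G →* ℤˣ)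
    (hC : ∀ T, T ∈ commutator G ↔ d T = 1 ∧ σ T = 1) {X Y Z1 Z2 : G} (hXY : X * Y * X = Y) (h1 : X * Z1 = Z1 * X)
    (h3 : X * Z2 = Z2 * X) (hd1 : d Z1 = -1) (hd2 : d Z2 = 1) (hn2 : Z2 ∉ commutator G) (hdY : d Y = 1 ∨ d Y = -1) :
    ∃ Y' ∈ commutator G, X * Y' * X = Y' := by
  have hσ2 : σ Z2 = -1 := by
    rcases Int.units_eq_one_or (σ Z2) with h | h
    · exact absurd ((hC Z2).2 ⟨hd2, h⟩) hn2
    · exact h
  have key : ∀ W : G, X * W * X = W → d W = 1 → ∃ Y' ∈ commutator G, X * Y' * X = Y' := by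
    intro W hW hdW
    rcases Int.units_eq_one_or (σ W) with h | h
    · exact ⟨W, (hC W).2 ⟨hdW, h⟩, hW⟩
    · refine ⟨W * Z2, (hC _).2 ⟨by rw [map_mul, hdW, hd2, one_mul], by rw [map_mul, h, hσ2]; rfl⟩, adjust_mul hW h3⟩
  rcases hdY with h | h
  · exact key Y hXY h
  · refine key (Y * Z1) (adjust_mul hXY h1) ?_
    rw [map_mul, h, hd1, neg_mul_neg, one_mul]

/-- real elements of odd order lie in the commutator subgroup -/
theorem mem_commutator_of_real {G : Type*} [Group G] {X Y : G} (hXY : X * Y * X = Y) {r : ℕ} (hr : Odd r)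
    (hXr : X ^ r = 1) : X ∈ commutator G := by
  obtain ⟨m, hm⟩ := hr
  have h1 : Abelianization.of X ^ 2 = 1 := by
    have h2 := congrArg Abelianization.of hXY
    rw [map_mul, map_mul, mul_right_comm, ← pow_two, mul_eq_right] at h2
    exact h2
  have h2 : Abelianization.of X = 1 := by
    have h3 : Abelianization.of X ^ r = 1 := by rw [← map_pow, hXr, map_one]
    rwa [hm, pow_succ, pow_mul, h1, one_pow, one_mul] at h3
  exact (QuotientGroup.eq_one_iff X).1 h2

/-- **the unipotent case** -/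
theorem pomega_odd_unip {F : Type} [Field F] [Fintype F] {ι : Type} [Fintype ι] [DecidableEq ι] (h2 : (2 : F) ≠ 0)
    {Q : QuadraticForm F (ι → F)} {n : ℕ} {ε : ℤ} (hn : 2 ≤ n) (hQ : Sg Q n ε) (hs : ∃ u : ι → F, u ≠ 0 ∧ Q u = 0)
    (hneg : ¬ ∃ g : isometryGroup F (⇑Q), g ∈ Omega F (⇑Q) ∧ ((g : Matrix.GeneralLinearGroup ι F) : Matrix ι ι F) = -1) :
    RealOdd (POmega F (⇑Q)) := by
  have hnd : (polarBilin Q).Nondegenerate := nondegenerate_iff_nondeg.2 hQ.nondeg
  have hdim := hQ.dim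
  have hι : Fintype.card ι = 2 * n := by rw [← hdim]; simp only [_root_.Module.finrank_fintype_fun_eq_card]
  obtain ⟨p, hpc⟩ := CharP.exists F
  have hp : p.Prime := CharP.char_is_prime F p
  have hp2 : p ≠ 2 := by
    rintro rfl
    exact h2 (CharP.cast_eq_zero F 2)
  obtain ⟨N, hN⟩ : ∃ N, N + 1 = 2 * n := ⟨2 * n - 1, by omega⟩
  have hNodd : Odd N := ⟨n - 1, by omega⟩
  have hN1 : Even (N - 1) := ⟨n - 1, by omega⟩
  have hN0 : 0 < N := by omega
  haveI := Tr.finite F N
  obtain ⟨k, hk, hord⟩ := Tr.exists_order_lam F N hp h2 (by omega : 2 ≤ N)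
  have hpk : Odd (p ^ k) := (hp.odd_of_ne_two hp2).pow
  -- the form
  let B : LinearMap.BilinForm F (Tr F N) := (LinearMap.mul F (Tr F N)).compr₂ (Tr.l F N hN0) |>.compl₂ (Tr.D F N).toLinearMap
  have hB : ∀ u v, B u v = Tr.l F N hN0 (u * Tr.D F N v) := fun _ _ => rfl
  have hBs : ∀ u v, B u v = B v u := by
    intro u v
    rw [hB, hB]
    have := Tr.l_D F N hN0 (u * Tr.D F N v)
    rw [map_mul, Tr.D_D, hN1.neg_one_pow, one_mul, mul_comm] at this
    exact this.symm
  let QN : QuadraticForm F (Tr F N) := LinearMap.BilinMap.toQuadraticMap B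
  have hQN : ∀ u, QN u = Tr.l F N hN0 (u * Tr.D F N u) := fun _ => rfl
  have hQNnd : Nondeg QN := by
    intro u hu
    refine Tr.l_nondeg F N hN0 fun v => ?_
    have h1 := hu (Tr.D F N v)
    have h3 : polar QN u (Tr.D F N v) = 2 * B u (Tr.D F N v) := by
      show B (u + Tr.D F N v) (u + Tr.D F N v) - B u u - B (Tr.D F N v) (Tr.D F N v) = _
      rw [map_add B, LinearMap.add_apply, map_add, map_add, hBs (Tr.D F N v) u]
      ring
    rw [h3, hB, Tr.D_D] at h1
    exact (mul_eq_zero.1 h1).resolve_left h2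
  obtain ⟨c, hc, hsg⟩ := exists_csq_sg h2 hQNnd (by rw [Tr.finrank_eq, hN]) hQ.eps
  obtain ⟨e, he⟩ := hsg.exists_equiv hQ
  have hcj : ∀ f f' : Module.End F (Tr F N × F), e.conj (f * f') = e.conj f * e.conj f' := fun f f' =>
    (LinearEquiv.conjRingEquiv e).map_mul f f'
  have hcj1 : e.conj 1 = 1 := (LinearEquiv.conjRingEquiv e).map_one
  set! x : Module.End F (Tr F N × F) := LinearMap.mulLeft F ((Tr.lam F N, 1) : Tr F N × F) with hx
  set y : Module.End F (Tr F N × F) := LinearMap.prodMap (Tr.D F N).toLinearMap LinearMap.id with hy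
  set z : Module.End F (Tr F N × F) := LinearMap.prodMap ((-1 : F) • LinearMap.id) LinearMap.id with hz
  have hyy : y * y = 1 := by
    apply LinearMap.ext
    rintro ⟨u, t⟩
    exact Prod.ext (Tr.D_D F N u) rfl
  have hzz : z * z = 1 := by
    apply LinearMap.ext
    rintro ⟨u, t⟩
    refine Prod.ext ?_ rfl
    show (-1 : F) • ((-1 : F) • u) = u
    rw [smul_smul, neg_mul_neg, one_mul, one_smul]
  have hxy : x * y * x = y := by
    apply LinearMap.ext
    rintro ⟨u, t⟩
    refine Prod.ext ?_ ?_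
    · show Tr.lam F N * Tr.D F N (Tr.lam F N * u) = Tr.D F N u
      rw [map_mul (Tr.D F N), ← mul_assoc, Tr.lam_mul_D, one_mul]
    · show (1 : F) * (1 * t) = t
      rw [one_mul, one_mul]
  have hxz : x * z = z * x := by
    apply LinearMap.ext
    rintro ⟨u, t⟩
    refine Prod.ext ?_ rfl
    show Tr.lam F N * ((-1 : F) • u) = (-1 : F) • (Tr.lam F N * u)
    rw [mul_smul_comm]
  have hord' : ∀ j, x ^ j = 1 ↔ p ^ k ∣ j := by
    intro j
    rw [hx, mulLeft_pow_eq_one_iff, ← hord, Prod.ext_iff]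
    show Tr.lam F N ^ j = 1 ∧ (1 : F) ^ j = 1 ↔ _
    rw [one_pow, and_iff_left rfl]
  have hQx : ∀ v, prodForm QN (csq c) (x v) = prodForm QN (csq c) v := by
    rintro ⟨u, t⟩
    rw [prodForm_apply, prodForm_apply]
    show QN (Tr.lam F N * u) + csq c (1 * t) = QN u + csq c t
    rw [one_mul, hQN, hQN, map_mul (Tr.D F N)]
    have : Tr.lam F N * u * (Tr.D F N (Tr.lam F N) * Tr.D F N u) =
      (Tr.lam F N * Tr.D F N (Tr.lam F N)) * (u * Tr.D F N u) := by ring
    rw [this, Tr.lam_mul_D, one_mul]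
  have hQy : ∀ v, prodForm QN (csq c) (y v) = prodForm QN (csq c) v := by
    rintro ⟨u, t⟩
    rw [prodForm_apply, prodForm_apply]
    show QN (Tr.D F N u) + csq c t = QN u + csq c t
    rw [hQN, hQN, Tr.D_D, mul_comm]
  have hQz : ∀ v, prodForm QN (csq c) (z v) = prodForm QN (csq c) v := by
    rintro ⟨u, t⟩
    rw [prodForm_apply, prodForm_apply]
    show QN ((-1 : F) • u) + csq c t = QN u + csq c t
    rw [neg_smul, one_smul, QuadraticMap.map_neg]
  have htr : ∀ T : Module.End F (Tr F N × F), (∀ v, prodForm QN (csq c) (T v) = prodForm QN (csq c) v) →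
      ∀ v, Q (e.conj T v) = Q v := by
    intro T hT v
    show Q (e (T (e.symm v))) = Q v
    rw [he, hT, ← he, e.apply_symm_apply]
  have hx1 : x * (y * x * y) = 1 := by
    calc x * (y * x * y) = (x * y * x) * y := by noncomm_ring
      _ = 1 := by rw [hxy, hyy]
  have hx2 : (y * x * y) * x = 1 := by
    calc (y * x * y) * x = y * (x * y * x) := by noncomm_ring
      _ = 1 := by rw [hxy, hyy]
  obtain ⟨X, hX, hXm⟩ := exists_isoElt (⇑Q) (T := e.conj x) (T' := e.conj (y * x * y)) (by rw [← hcj, hx1, hcj1])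
    (by rw [← hcj, hx2, hcj1]) (htr x hQx)
  obtain ⟨Y, hY, hYm⟩ := exists_isoElt (⇑Q) (T := e.conj y) (T' := e.conj y) (by rw [← hcj, hyy, hcj1])
    (by rw [← hcj, hyy, hcj1]) (htr y hQy)
  obtain ⟨Z1, hZ1, hZ1m⟩ := exists_isoElt (⇑Q) (T := e.conj z) (T' := e.conj z) (by rw [← hcj, hzz, hcj1])
    (by rw [← hcj, hzz, hcj1]) (htr z hQz)
  have hnn : (-1 : Module.End F (ι → F)) * (-1 : Module.End F (ι → F)) = 1 := by
    apply LinearMap.ext
    intro v
    show -(-v) = v
    exact neg_neg v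
  obtain ⟨Z2, hZ2, hZ2m⟩ := exists_isoElt (⇑Q) (T := (-1 : Module.End F (ι → F))) (T' := (-1 : Module.End F (ι → F)))
    hnn hnn (fun v => by
      rw [LinearMap.neg_apply, Module.End.one_apply, QuadraticMap.map_neg])
  have hZ2m' : ((Z2 : Matrix.GeneralLinearGroup ι F) : Matrix ι ι F) = -1 := by rw [hZ2m, map_neg, map_one]
  have hext : ∀ A A' : isometryGroup F (⇑Q), ((A : Matrix.GeneralLinearGroup ι F) : Matrix ι ι F) =
      ((A' : Matrix.GeneralLinearGroup ι F) : Matrix ι ι F) → A = A' := fun A A' h => Subtype.ext (Units.ext h)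
  have hmm : ∀ A A' : isometryGroup F (⇑Q), (((A * A' : isometryGroup F (⇑Q)) : Matrix.GeneralLinearGroup ι F) :
      Matrix ι ι F) = ((A : Matrix.GeneralLinearGroup ι F) : Matrix ι ι F) *
        ((A' : Matrix.GeneralLinearGroup ι F) : Matrix ι ι F) := fun _ _ => rfl
  have hXY : X * Y * X = Y := hext _ _ (by simp only [hmm, hmm, hXm, hYm, ← map_mul, ← map_mul, ← hcj, ← hcj, hxy])
  have hXZ1 : X * Z1 = Z1 * X := hext _ _ (by
    (rewrite [hmm, hmm, hXm]; simp only [hZ1m]; (conv => enter [@2]; rw [← map_mul]); simp only [← hcj]; simp only [hxz]; simp only [hcj]; simp only [map_mul]))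
  have hXZ2 : X * Z2 = Z2 * X := hext _ _ (by rw [hmm, hmm, hZ2m', mul_neg, neg_mul, mul_one, one_mul])
  have hdetc : ∀ T : Module.End F (Tr F N × F), (LinearMap.toMatrixAlgEquiv' (e.conj T)).det = LinearMap.det T := by
    intro T
    have : (LinearMap.toMatrixAlgEquiv' (e.conj T)).det = LinearMap.det (e.conj T) := by
      exact LinearMap.det_toMatrix' (e.conj T)
    rw [this]
    exact LinearMap.det_conj T e
  have hdy : LinearMap.det y * LinearMap.det y = 1 := by rw [← map_mul, hyy, map_one]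
  -- adjust `Y`
  let d : isometryGroup F (⇑Q) →* Fˣ := Matrix.GeneralLinearGroup.det.comp (isometryGroup F (⇑Q)).subtype
  have hd : ∀ A : isometryGroup F (⇑Q), ((d A : Fˣ) : F) = ((A : Matrix.GeneralLinearGroup ι F) : Matrix ι ι F).det :=
    fun _ => rfl
  obtain ⟨Y', hY', hXY'⟩ := adjust_gen d (Cfsg.Agent.ClassicalGeometry.SpinorSign.spinorSign (⇑Q) 1) (X := X) (Y := Y)
    (Z1 := Z1) (Z2 := Z2) (fun T => by
      have h := Cfsg.Agent.ClassicalGeometry.OmegaIndex.mem_Omega_iff h2 Q hnd (by omega) one_ne_zero T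
      rw [← hd, Units.val_eq_one] at h
      exact h) hXY hXZ1 hXZ2
    (Units.ext (by
      rw [hd, hZ1m, hdetc, hz, LinearMap.det_prodMap, LinearMap.det_smul, LinearMap.det_id, LinearMap.det_id, Tr.finrank_eq,
        hNodd.neg_one_pow, mul_one, mul_one]
      rfl))
    (Units.ext (by
      rw [hd, hZ2m', Matrix.det_neg, Matrix.det_one, mul_one, hι, pow_mul, neg_one_sq, one_pow]
      rfl))
    (fun h => hneg ⟨Z2, h, hZ2m'⟩)
    (by
      rcases mul_self_eq_one_iff.1 hdy with h | h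
      · left; exact Units.ext (by rw [hd, hYm, hdetc, h]; rfl)
      · right; exact Units.ext (by rw [hd, hYm, hdetc, h]; rfl))
  have hXpow : X ^ (p ^ k) = 1 := by
    apply hext
    have h1 : ∀ j : ℕ, (((X ^ j : isometryGroup F (⇑Q)) : Matrix.GeneralLinearGroup ι F) : Matrix ι ι F) =
        LinearMap.toMatrixAlgEquiv' (e.conj (x ^ j)) := by
      intro j
      induction j with
      | zero => rw [pow_zero, pow_zero, hcj1, map_one]; rfl
      | succ j ih => simp only [pow_succ X j, hmm (X ^ j) X, ih, hXm, ← map_mul LinearMap.toMatrixAlgEquiv' (e.conj (x ^ j)) (e.conj x), ← hcj (x ^ j) x, ← pow_succ x j]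
    rw [h1, (hord' _).2 dvd_rfl, hcj1, map_one]
    rfl
  have hXmem : X ∈ commutator (isometryGroup F (⇑Q)) := mem_commutator_of_real hXY hpk hXpow
  -- the representation
  let ρ : commutator (isometryGroup F (⇑Q)) →* Module.End F (Tr F N × F) :=
    { toFun := fun A => e.symm.conj (Matrix.toLinAlgEquiv' ((A : isometryGroup F (⇑Q)) : Matrix.GeneralLinearGroup ι F).1)
      map_one' := by
        have : (((1 : commutator (isometryGroup F (⇑Q))) : isometryGroup F (⇑Q)) : Matrix.GeneralLinearGroup ι F).1 =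
          (1 : Matrix ι ι F) := rfl
        rw [this, map_one]
        exact (LinearEquiv.conjRingEquiv e.symm).map_one
      map_mul' := fun A A' => by
        have : (((A * A' : commutator (isometryGroup F (⇑Q))) : isometryGroup F (⇑Q)) : Matrix.GeneralLinearGroup ι F).1 =
          ((A : isometryGroup F (⇑Q)) : Matrix.GeneralLinearGroup ι F).1 *
            ((A' : isometryGroup F (⇑Q)) : Matrix.GeneralLinearGroup ι F).1 := rfl
        rw [this, map_mul]
        exact (LinearEquiv.conjRingEquiv e.symm).map_mul _ _ }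
  have hρ : ∀ A : commutator (isometryGroup F (⇑Q)), ρ A =
      e.symm.conj (Matrix.toLinAlgEquiv' ((A : isometryGroup F (⇑Q)) : Matrix.GeneralLinearGroup ι F).1) := fun _ => rfl
  have hmat : ∀ (A : commutator (isometryGroup F (⇑Q))) (T : Module.End F (Tr F N × F)),
      ((A : isometryGroup F (⇑Q)) : Matrix.GeneralLinearGroup ι F).1 = LinearMap.toMatrixAlgEquiv' (e.conj T) → ρ A = T := by
    intro A T h
    rw [hρ, h]
    have : Matrix.toLinAlgEquiv' (LinearMap.toMatrixAlgEquiv' (e.conj T)) = e.conj T :=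
      Matrix.toLinAlgEquiv'_toMatrixAlgEquiv' _
    rw [this]
    exact e.conj.symm_apply_apply T
  have hmat' : ∀ A : commutator (isometryGroup F (⇑Q)),
      ((A : isometryGroup F (⇑Q)) : Matrix.GeneralLinearGroup ι F).1 = LinearMap.toMatrixAlgEquiv' (e.conj (ρ A)) := by
    intro A
    rw [hρ]
    have h1 : e.conj (e.symm.conj (Matrix.toLinAlgEquiv' ((A : isometryGroup F (⇑Q)) : Matrix.GeneralLinearGroup ι F).1)) =
      Matrix.toLinAlgEquiv' ((A : isometryGroup F (⇑Q)) : Matrix.GeneralLinearGroup ι F).1 := e.conj.apply_symm_apply _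
    rw [h1]
    exact (LinearMap.toMatrixAlgEquiv'_toLinAlgEquiv' _).symm
  have hscal : ∀ (A : commutator (isometryGroup F (⇑Q))) (s : F), ρ A = s • 1 →
      ((A : isometryGroup F (⇑Q)) : Matrix.GeneralLinearGroup ι F).1 = s • (1 : Matrix ι ι F) := by
    intro A s h
    rw [hmat' A, h, map_smul, hcj1, map_smul, map_one]
  have hone : ∀ (A : commutator (isometryGroup F (⇑Q))) (s : F), ρ A = s • 1 → s = 1 ∨ s = -1 := by
    intro A s h
    have h1 := hscal A s h
    haveI : Nonempty ι := Fintype.card_pos_iff.1 (by omega)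
    obtain ⟨v, hv⟩ := Cfsg.Agent.ClassicalGeometry.Universal.exists_map_ne_zero Q hnd
    have h3 : Q (((A : isometryGroup F (⇑Q)) : Matrix.GeneralLinearGroup ι F).1 *ᵥ v) = Q v :=
      (A : isometryGroup F (⇑Q)).2 v v
    rw [h1, Matrix.smul_mulVec, Matrix.one_mulVec, QuadraticMap.map_smul, smul_eq_mul] at h3
    have h4 : (s * s - 1) * Q v = 0 := by linear_combination h3
    exact mul_self_eq_one_iff.1 (sub_eq_zero.1 ((mul_eq_zero.1 h4).resolve_right hv))
  have hcen : ∀ A, A ∈ Subgroup.center (commutator (isometryGroup F (⇑Q))) ↔ ∃ s : F, ρ A = s • 1 := by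
    intro A
    have h1 := Cfsg.Agent.LieClassical.OrthCenter.mem_center_omega_iff hnd (by omega) hs A
    constructor
    · intro hA
      rcases h1.1 hA with h | h
      · exact ⟨1, hmat A _ (h.trans (by rw [one_smul, hcj1, map_one]))⟩
      · exact ⟨-1, hmat A _ (h.trans (by rw [map_smul, hcj1, map_smul, map_one, neg_smul, one_smul]))⟩
    · rintro ⟨s, hA⟩
      apply h1.2
      rcases hone A s hA with rfl | rfl
      · left; exact (hscal A 1 hA).trans (one_smul _ _)
      · right; exact (hscal A (-1) hA).trans (by rw [neg_smul, one_smul])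
  have hρX : ρ ⟨X, hXmem⟩ = x := hmat _ _ hXm
  refine proj_crit ρ ?_ hcen (X := ⟨X, hXmem⟩) (Y := ⟨Y', hY'⟩) ?_ hp hp2 hk (by rw [hρX]; exact hord') ?_
  · intro A A' h
    apply Subtype.ext
    apply hext
    have h1 := hmat' A
    rw [h, ← hmat' A'] at h1
    exact h1
  · rw [← map_mul, ← map_mul]
    congr 1
    exact Subtype.ext hXY'
  · intro A s hcomm hsq
    rw [hρX] at hcomm
    have hs0 : s = 1 ∨ s = -1 := hone (A * A) s (by rw [map_mul, hsq])
    have hs1 : s ≠ 0 := by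
      rcases hs0 with h | h <;> rw [h]
      · exact one_ne_zero
      · exact neg_ne_zero.2 one_ne_zero
    have hdetA : LinearMap.det (ρ A) = 1 := by
      rw [← hdetc, ← hmat' A]
      exact Cfsg.Agent.LieClassical.OrthCenter.det_of_mem_omega (A : isometryGroup F (⇑Q)) A.2
    rcases Tr.jj_sq F hp h2 (by omega : 2 ≤ N) (fun v => LinearMap.congr_fun hcomm v) hs1 hsq with h | ⟨t, ht, hdt⟩
    · exact h
    · exfalso
      rcases hs0 with h | h
      · rw [hdetA, hNodd.neg_pow] at hdt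
        have h3 : t ^ (N + 1) = 1 := by
          rw [hN, pow_mul, pow_two, ht, h, one_pow]
        apply h2
        have h5 : t ^ (N + 1) = -1 := by rw [pow_succ]; linear_combination hdt
        rw [h3] at h5
        linear_combination h5
      · apply hneg
        refine ⟨(A * A : commutator (isometryGroup F (⇑Q))), (A * A).2, ?_⟩
        have h3 := hscal (A * A) s (by rw [map_mul, hsq])
        rw [h, neg_smul, one_smul] at h3
        exact h3

end Cfsg.Agent.H101.RO
end

-- part: H101/ROOddDim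
section
/-!
# `RealOdd` for `PΩ_{2n+1}(q)`, `q` odd
-/

set_option autoImplicit false
set_option linter.style.haveILetI false

namespace Cfsg.Agent.H101.RO

open Module Cfsg QuadraticMap
open Cfsg.Agent.H150 Cfsg.Agent.H182.Sign Cfsg.Agent.LieClassical.OrthCount

theorem pomega_dim_odd {F : Type} [Field F] [Fintype F] (h2 : (2 : F) ≠ 0) {n : ℕ} (hn : 3 ≤ n) {ε1 : ℤ} {r : ℕ}
    (hr : r.Prime) (hr2 : r ≠ 2) (h : RElt F n ε1 r) (hf : ∀ g : POmega F (quadFormOdd n F), orderOf g ≠ 2 * r) :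
    RealOdd (POmega F (quadFormOdd n F)) := by
  obtain ⟨d, Q1, g, y, hs, h88⟩ := h
  revert h88; rintro ⟨hg, hy, hyy, hgy, ho⟩
  have hQ1 : ND Q1 := hs.nondeg
  let Q0 : QuadraticForm F F := QuadraticMap.sq
  have hQ0a : ∀ t : F, Q0 t = t * t := fun _ => rfl
  have hsq : ND Q0 := by
    intro x hx
    have h1 := hx 1
    simp only [QuadraticMap.polar, hQ0a] at h1
    have h3 : 2 * x = 0 := by linear_combination h1
    exact (mul_eq_zero.1 h3).resolve_left h2
  have hQ : ND (Q1.prod Q0) := prod_nd _ _ hQ1 hsq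
  have hdim : finrank F ((Fin d → F) × F) = 2 * n + 1 := by rw [finrank_prod, hs.dim, finrank_self]
  obtain ⟨e⟩ := nonempty_pomega h2 (Q1.prod Q0) hQ (by omega : 1 ≤ n) hdim
  obtain ⟨σ, hσ⟩ := exists_spinor h2 (Q1.prod Q0) hQ (by omega)
  have hnn : ∀ (V : Type) [AddCommGroup V] [Module F V], (-1 : Module.End F V) ^ 2 = 1 := by
    intro V _ _
    rw [neg_one_sq]
  obtain ⟨g', hg'⟩ := exists_og Q1 g (N := r) hr.pos (by rw [← ho]; exact pow_orderOf_eq_one g) hg
  obtain ⟨y', hy'⟩ := exists_og Q1 y (N := 2) two_pos (by rw [pow_two, hyy]) hy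
  obtain ⟨m', hm'⟩ := exists_og Q1 (-1) (N := 2) two_pos (hnn _) (fun v => by
    rw [LinearMap.neg_apply, Module.End.one_apply, QuadraticMap.map_neg])
  obtain ⟨s', hs'⟩ := exists_og Q0 (-1) (N := 2) two_pos (hnn _) (fun v => by
    rw [LinearMap.neg_apply, Module.End.one_apply, QuadraticMap.map_neg])
  have hord : ∀ (V : Type) [AddCommGroup V] [Module F V] (Q' : QuadraticForm F V) (a : OG Q') (T : V →ₗ[F] V)
      (_ : ∀ v, (a : V ≃ₗ[F] V) v = T v), orderOf a = orderOf T := by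
    intro V _ _ Q' a T h
    rw [orderOf_eq_orderOf_iff]
    intro j
    exact og_pow_eq_one_iff a T h j
  have hgo : orderOf g' = r := by rw [hord _ Q1 g' g hg', ho]
  have hgy' : g' * y' * g' = y' := by
    apply Subtype.ext
    apply LinearEquiv.ext
    intro v
    show (g' : (Fin d → F) ≃ₗ[F] (Fin d → F)) ((y' : (Fin d → F) ≃ₗ[F] (Fin d → F))
      ((g' : (Fin d → F) ≃ₗ[F] (Fin d → F)) v)) = (y' : (Fin d → F) ≃ₗ[F] (Fin d → F)) v
    rw [hg', hy', hg', hy']
    exact LinearMap.congr_fun hgy v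
  have hgm : g' * m' = m' * g' := by
    apply Subtype.ext
    apply LinearEquiv.ext
    intro v
    show (g' : (Fin d → F) ≃ₗ[F] (Fin d → F)) ((m' : (Fin d → F) ≃ₗ[F] (Fin d → F)) v) =
      (m' : (Fin d → F) ≃ₗ[F] (Fin d → F)) ((g' : (Fin d → F) ≃ₗ[F] (Fin d → F)) v)
    rw [hm', hm', hg', hg', LinearMap.neg_apply, LinearMap.neg_apply, Module.End.one_apply, Module.End.one_apply, map_neg]
  set! X := prodHom Q1 Q0 (g', 1) with hX
  set! Y := prodHom Q1 Q0 (y', 1) with hY
  set! Z1 := prodHom Q1 Q0 (1, s') with hZ1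
  set! Z2 := prodHom Q1 Q0 (m', 1) with hZ2
  have hXY : X * Y * X = Y := by
    rw [hX, hY, ← map_mul, ← map_mul]
    congr 1
    exact Prod.ext hgy' (by simp)
  have hXZ1 : X * Z1 = Z1 * X := by
    rw [hX, hZ1, ← map_mul, ← map_mul]
    simp only [Prod.mk_mul_mk, Prod.mk_mul_mk, mul_one, one_mul, one_mul, mul_one]
  have hXZ2 : X * Z2 = Z2 * X := by
    rw [hX, hZ2, ← map_mul, ← map_mul]
    congr 1
    exact Prod.ext hgm (by simp)
  have hXo : orderOf X = r := by rw [hX, orderOf_prodHom, hgo, orderOf_one, Nat.lcm_one_right]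
  have hXmem : X ∈ commutator (OG (Q1.prod Q0)) := mem_commutator_of_real hXY (hr.odd_of_ne_two hr2)
    (by rw [← hXo]; exact pow_orderOf_eq_one X)
  have hV : ∃ v : Fin d → F, v ≠ 0 := by
    haveI : Nontrivial (Fin d → F) := Module.nontrivial_of_finrank_pos (R := F) (by rw [hs.dim]; omega)
    exact exists_ne 0
  have hmo : orderOf m' = 2 := by
    apply orderOf_eq_prime
    · rw [og_pow_eq_one_iff m' _ hm']; exact hnn _
    · intro h
      obtain ⟨v, hv⟩ := hV
      have h1 : (m' : (Fin d → F) ≃ₗ[F] (Fin d → F)) v = v := by rw [h]; rfl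
      rw [hm', LinearMap.neg_apply, Module.End.one_apply] at h1
      have h3 : (2 : F) • v = 0 := by
        rw [two_smul]
        nth_rewrite 1 [← h1]
        exact neg_add_cancel v
      exact hv ((smul_eq_zero.1 h3).resolve_left h2)
  have hZ2n : Z2 ∉ commutator (OG (Q1.prod Q0)) := by
    intro h
    have ho2 : orderOf Z2 = 2 := by rw [hZ2, orderOf_prodHom, hmo, orderOf_one, Nat.lcm_one_right]
    have ho3 : orderOf (Z2 * X) = 2 * r := by
      rw [(show Commute Z2 X from hXZ2.symm).orderOf_mul_eq_mul_orderOf_of_coprime (by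
        rw [ho2, hXo]; exact (Nat.coprime_primes Nat.prime_two hr).2 hr2.symm), ho2, hXo]
    apply hf (e ⟨Z2 * X, mul_mem h hXmem⟩)
    rw [MulEquiv.orderOf_eq, Subgroup.orderOf_mk, ho3]
  let δ : OG (Q1.prod Q0) →* Fˣ := LinearEquiv.det.comp (OG (Q1.prod Q0)).subtype
  have hδ : ∀ A : OG (Q1.prod Q0), ((δ A : Fˣ) : F) =
      LinearMap.det ((A : ((Fin d → F) × F) ≃ₗ[F] ((Fin d → F) × F)) : ((Fin d → F) × F) →ₗ[F] ((Fin d → F) × F)) :=
    fun A => LinearEquiv.coe_det _
  obtain ⟨Y', hY', hXY'⟩ := adjust_gen δ σ (X := X) (Y := Y) (Z1 := Z1) (Z2 := Z2) (fun T => by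
      have h := hσ T
      rw [← hδ, Units.val_eq_one] at h
      exact h) hXY hXZ1 hXZ2
    (Units.ext (by
      rw [hδ]
      have h1 : ((Z1 : ((Fin d → F) × F) ≃ₗ[F] ((Fin d → F) × F)) : ((Fin d → F) × F) →ₗ[F] ((Fin d → F) × F)) =
        LinearMap.prodMap LinearMap.id ((-1 : F) • LinearMap.id) := by
        apply LinearMap.ext
        rintro ⟨v, t⟩
        refine Prod.ext rfl ((hs' t).trans ?_)
        show -t = (-1 : F) • t
        rw [neg_smul, one_smul]
      rw [h1, LinearMap.det_prodMap, LinearMap.det_id, one_mul, LinearMap.det_smul, finrank_self, LinearMap.det_id,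
        pow_one, mul_one]
      rfl))
    (Units.ext (by
      rw [hδ]
      have h1 : ((Z2 : ((Fin d → F) × F) ≃ₗ[F] ((Fin d → F) × F)) : ((Fin d → F) × F) →ₗ[F] ((Fin d → F) × F)) =
        LinearMap.prodMap ((-1 : F) • LinearMap.id) LinearMap.id := by
        apply LinearMap.ext
        rintro ⟨v, t⟩
        refine Prod.ext ((hm' v).trans ?_) rfl
        show -v = (-1 : F) • v
        rw [neg_smul, one_smul]
      rw [h1, LinearMap.det_prodMap, LinearMap.det_id, mul_one, LinearMap.det_smul, hs.dim, LinearMap.det_id,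
        mul_one, pow_mul, neg_one_sq, one_pow]
      rfl))
    hZ2n
    (by
      have h1 : Y * Y = 1 := by
        rw [hY, ← map_mul]
        have : ((y', 1) : OG Q1 × OG Q0) * (y', 1) = 1 := by
          refine Prod.ext ?_ (by simp only [_root_.Prod.mk_mul_mk, _root_.mul_one, _root_.Prod.snd_one])
          show y' * y' = 1
          rw [← pow_two, og_pow_eq_one_iff y' y hy', pow_two, hyy]
        rw [this, map_one]
      have h3 : ((δ Y : Fˣ) : F) * ((δ Y : Fˣ) : F) = 1 := by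
        rw [← Units.val_mul, ← map_mul, h1, map_one, Units.val_one]
      have hob_ := mul_self_eq_one_iff.1 h3
      rcases hob_ with h | h
      · left; exact Units.ext (by rw [h]; rfl)
      · right; exact Units.ext (by rw [h]; rfl))
  have hYX : Y' * X * Y'⁻¹ = X⁻¹ := by
    have h1 : X⁻¹ * (X * Y' * X) = X⁻¹ * Y' := by rw [hXY']
    have h2 : X⁻¹ * (X * Y' * X) = Y' * X := by group
    rw [← h2, h1]; group
  refine RealOdd.of_far hr hr2 (x := e ⟨X, hXmem⟩) (y := e ⟨Y', hY'⟩) ?_ ?_ hf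
  · rw [MulEquiv.orderOf_eq, Subgroup.orderOf_mk, hXo]
  · simp only [← map_mul, ← map_inv, ← map_mul, ← map_inv]
    congr 1
    exact Subtype.ext hYX

/-- **`PΩ_{2n+1}(q)`** -/
theorem pomegaOdd_row {G : Type*} [Group G] (h : Cfsg.IsPOmegaOdd G) : RealOdd G := by
  classical
  obtain ⟨F, _, _, n, hn, hodd, ⟨e⟩⟩ := h
  refine RealOdd.congr e.symm ?_
  have h2 : (2 : F) ≠ 0 := by
    intro h
    have : CharP F 2 := CharTwo.of_one_ne_zero_of_two_eq_zero one_ne_zero h
    have h2q : 2 ∣ Fintype.card F := by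
      obtain ⟨m, -, hm⟩ := FiniteField.card F 2
      rw [hm]
      exact dvd_pow_self _ (PNat.ne_zero m)
    exact (Nat.not_even_iff_odd.2 hodd) (even_iff_two_dvd.2 h2q)
  have hqe : Nat.card F = Fintype.card F := Nat.card_eq_fintype_card
  have hq3 : 3 ≤ Fintype.card F := by
    have h1 := Fintype.one_lt_card (α := F)
    obtain ⟨m, hm⟩ := hodd
    omega
  have tr : ∀ {r : ℕ} (hr : r.Prime) (hr2 : r ≠ 2), (∀ g : PSp n F, orderOf g ≠ 2 * r) →
      ∀ g : POmega F (quadFormOdd n F), orderOf g ≠ 2 * r := by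
    intro r hr hr2 hg g hgo
    obtain ⟨g', hg'⟩ := (Cfsg.Agent.S2474.result hodd n hn 2 r Nat.prime_two hr hr2.symm).1 ⟨g, hgo⟩
    exact hg g' hg'
  by_cases hcase : Nat.card F ^ n % 4 = 1
  · obtain ⟨r, hr, hr2, hrF, hk, hrm⟩ := exists_primitive_prime (F := F) (k := 2 * n) (by omega) (by omega)
    have hd : r ∣ Fintype.card F ^ n + 1 := dvd_pow_add_one_of_primitive hr (by omega) hrm
    rw [← hqe] at hd
    exact pomega_dim_odd h2 hn hr hr2 (relt_tor_minus (by omega) hd)
      (tr hr hr2 (psp_far_plus h2 (by omega) hr hr2 hrF hk hd hcase))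
  · have hq4 : Nat.card F % 4 = 3 := by
      rw [hqe] at hcase ⊢
      have hq2 : Fintype.card F % 2 = 1 := Nat.odd_iff.1 hodd
      have : Fintype.card F % 4 = 1 ∨ Fintype.card F % 4 = 3 := by omega
      refine this.resolve_left fun h => hcase ?_
      rw [Nat.pow_mod, h, one_pow]; rfl
    have hnodd : Odd n := by
      rw [← Nat.not_even_iff_odd]
      rintro ⟨t, rfl⟩
      apply hcase
      rw [← two_mul, pow_mul, Nat.pow_mod, Nat.pow_mod _ 2, hq4]
      norm_num
    obtain ⟨r, hr, hr2, hrF, hk, hrm⟩ := exists_primitive_prime (F := F) (k := n) (by omega) (by omega)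
    have hd : r ∣ Nat.card F ^ n - 1 := by
      rw [hqe]; exact (hrm n).2 dvd_rfl
    exact pomega_dim_odd h2 hn hr hr2 (relt_tor_plus (by omega) hd)
      (tr hr hr2 (psp_far_minus h2 (by omega) hr hr2 hrF hk hnodd hq4))

end Cfsg.Agent.H101.RO
end

-- part: H101/ROSTorus
section
/-!
# `RealOdd` for `PSU_n(q)`: hermitian algebras
-/

set_option autoImplicit false
set_option linter.style.haveILetI false
set_option linter.unusedSectionVars false

namespace Cfsg.Agent.H101.RO

open Module Cfsg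
open Cfsg.Agent.LieClassical.HermBasic Cfsg.Agent.LieClassical.SUBasic

/-- a commutative algebra with an involution `D`, a conjugation `J`, a functional `l` and a generator `lam` inverted by
both -/
structure HermAlg (F : Type*) [Field F] (q : ℕ) (R : Type*) [CommRing R] [Algebra F R] where
  J : R →+* R
  D : R →ₐ[F] R
  l : R →ₗ[F] F
  lam : R
  J_alg : ∀ c : F, J (algebraMap F R c) = algebraMap F R (c ^ q)
  J_J : ∀ v, J (J v) = v
  D_D : ∀ v, D (D v) = v
  D_J : ∀ v, D (J v) = J (D v)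
  l_J : ∀ w, l (J w) = l w ^ q
  l_D : ∀ w, l (D w) = l w
  nondeg : ∀ u, (∀ v, l (u * v) = 0) → u = 0
  lam_J : lam * J lam = 1
  lam_D : lam * D lam = 1
  gen : Algebra.adjoin F {lam} = ⊤

namespace HermAlg

variable {F : Type*} [Field F] {q : ℕ} {R : Type*} [CommRing R] [Algebra F R]

/-- the algebra `R × F` -/
noncomputable def prod [Fintype F] (hF : Fintype.card F = q ^ 2) (H : HermAlg F q R) {N : ℕ} (hN : 1 ≤ N)
    (hu : (H.lam - 1) ^ N = 1) : HermAlg F q (R × F) where
  J := (H.J.comp (RingHom.fst R F)).prod ((conj hF).toRingHom.comp (RingHom.snd R F))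
  D := (H.D.comp (AlgHom.fst F R F)).prod (AlgHom.snd F R F)
  l := H.l ∘ₗ LinearMap.fst F R F + LinearMap.snd F R F
  lam := (H.lam, 1)
  J_alg c := Prod.ext (H.J_alg c) rfl
  J_J v := Prod.ext (H.J_J v.1) (pow_q_pow_q hF v.2)
  D_D v := Prod.ext (H.D_D v.1) rfl
  D_J v := Prod.ext (H.D_J v.1) rfl
  l_J w := by
    show H.l (H.J w.1) + w.2 ^ q = (H.l w.1 + w.2) ^ q
    rw [add_pow_q hF, H.l_J]
  l_D w := by
    show H.l (H.D w.1) + w.2 = H.l w.1 + w.2
    rw [H.l_D]
  nondeg u hu := by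
    refine Prod.ext (H.nondeg _ fun v => ?_) ?_
    · have := hu (v, 0)
      have h2 : H.l (u.1 * v) + u.2 * 0 = 0 := this
      rwa [mul_zero, add_zero] at h2
    · have := hu (0, 1)
      have h2 : H.l (u.1 * 0) + u.2 * 1 = 0 := this
      rwa [mul_zero, map_zero, zero_add, mul_one] at h2
  lam_J := Prod.ext H.lam_J (by show (1 : F) * 1 ^ q = 1; rw [one_pow, one_mul])
  lam_D := Prod.ext H.lam_D (by show (1 : F) * 1 = 1; rw [one_mul])
  gen := adjoin_prod_one H.gen hN hu

end HermAlg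

/-- **The criterion from a hermitian algebra** -/
theorem psu_of_hermAlg {F : Type*} [Field F] [Fintype F] {q n : ℕ} (hF : Fintype.card F = q ^ 2) (hn : 3 ≤ n)
    {R : Type*} [CommRing R] [Algebra F R] (H : HermAlg F q R) (hfin : finrank F R = n) {ζ : F} (hζ : ζ ^ (q + 1) = 1)
    (hdet : ζ ^ n * LinearMap.det H.D.toLinearMap = 1)
    {p k : ℕ} (hp : p.Prime) (hp2 : p ≠ 2) (hk : 1 ≤ k) (hord : ∀ j, H.lam ^ j = 1 ↔ p ^ k ∣ j)
    (hc : ∀ (a : R) (s : F), s * s ^ q = 1 → a * H.J a = 1 → LinearMap.det (LinearMap.mulLeft F a) = 1 →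
      a * a = algebraMap F R s → ∃ t : F, a = algebraMap F R t) : RealOdd (PSU n F q) := by
  refine psu_alg hF hn hfin H.J H.J_alg H.J_J H.l H.l_J H.nondeg H.lam_J H.gen (y := ζ • H.D.toLinearMap) ?_ ?_ ?_
    hp hp2 hk hord hc
  · rw [LinearMap.det_smul, hfin, hdet]
  · intro u v
    show H.l ((ζ • H.D u) * H.J (ζ • H.D v)) = H.l (u * H.J v)
    have h1 : (ζ • H.D u) * H.J (ζ • H.D v) = ζ ^ (q + 1) • H.D (u * H.J v) := by
      rw [Algebra.smul_def ζ (H.D v), map_mul, H.J_alg, ← Algebra.smul_def, smul_mul_smul_comm, ← H.D_J, ← map_mul,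
        pow_succ']
    rw [h1, hζ, one_smul, H.l_D]
  · intro v
    show H.lam * (ζ • H.D (H.lam * v)) = ζ • H.D v
    rw [mul_smul_comm, map_mul, ← mul_assoc, H.lam_D, one_mul]

/-- characteristic two -/
theorem psu_two {F : Type*} [Field F] [Fintype F] {q n : ℕ} (hF : Fintype.card F = q ^ 2) (hn : 3 ≤ n)
    (h2 : (2 : F) = 0) {R : Type*} [CommRing R] [Algebra F R] (H : HermAlg F q R) (hfin : finrank F R = n)
    {p k : ℕ} (hp : p.Prime) (hp2 : p ≠ 2) (hk : 1 ≤ k) (hord : ∀ j, H.lam ^ j = 1 ↔ p ^ k ∣ j)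
    (hred : ∀ a : R, a * a = 0 → a = 0) : RealOdd (PSU n F q) := by
  refine psu_of_hermAlg hF hn H hfin (ζ := 1) (one_pow _) ?_ hp hp2 hk hord (fun a s _ _ _ h => eq_of_sq_two h2 hred h)
  rw [one_pow, one_mul]
  refine det_invol_two h2 ?_
  ext v
  exact H.D_D v

/-! ### the algebra `M × M` -/

section MM

variable {F : Type*} [Field F] [Finite F] {M : Type*} [Field M] [Finite M] [Algebra F M]

/-- the conjugation of `M × M` -/
def JJ (τ τ' : M →+* M) : M × M →+* M × M := (τ.comp (RingHom.snd M M)).prod (τ'.comp (RingHom.fst M M))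

/-- the functional of `M × M` -/
noncomputable def ll (F : Type*) [Field F] (M : Type*) [Field M] [Algebra F M] : M × M →ₗ[F] F :=
  Algebra.trace F M ∘ₗ LinearMap.fst F M M + Algebra.trace F M ∘ₗ LinearMap.snd F M M

theorem ll_apply (u v : M) : ll F M (u, v) = Algebra.trace F M u + Algebra.trace F M v := rfl

theorem trace_nondeg {u : M} (hu : ∀ v, Algebra.trace F M (u * v) = 0) : u = 0 := by
  haveI : Module.Finite F M := inferInstance
  obtain ⟨t, ht⟩ := Algebra.trace_surjective F M 1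
  by_contra hu0
  have := hu (u⁻¹ * t)
  rw [← mul_assoc, mul_inv_cancel₀ hu0, one_mul, ht] at this
  exact one_ne_zero this

theorem ll_nondeg (u : M × M) (hu : ∀ v, ll F M (u * v) = 0) : u = 0 := by
  refine Prod.ext (trace_nondeg (F := F) fun v => ?_) (trace_nondeg (F := F) fun v => ?_)
  · have := hu (v, 0)
    rw [← Prod.mk.eta (p := u), Prod.mk_mul_mk, ll_apply, mul_zero, map_zero, add_zero] at this
    exact this
  · have := hu (0, v)
    rw [← Prod.mk.eta (p := u), Prod.mk_mul_mk, ll_apply, mul_zero, map_zero, zero_add] at this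
    exact this

/-- the hermitian algebra `M × M` -/
noncomputable def mm {q : ℕ} (h2 : ∀ x y : F, (x + y) ^ q = x ^ q + y ^ q) (τ τ' : M →+* M) (h1 : ∀ v, τ (τ' v) = v)
    (h1' : ∀ v, τ' (τ v) = v) (ha : ∀ c : F, τ (algebraMap F M c) = algebraMap F M (c ^ q))
    (ha' : ∀ c : F, τ' (algebraMap F M c) = algebraMap F M (c ^ q))
    (ht : ∀ v, Algebra.trace F M (τ v) = Algebra.trace F M v ^ q)
    (ht' : ∀ v, Algebra.trace F M (τ' v) = Algebra.trace F M v ^ q)
    (D : M × M →ₐ[F] M × M) (hDD : ∀ v, D (D v) = v) (hDJ : ∀ v, D (JJ τ τ' v) = JJ τ τ' (D v))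
    (hlD : ∀ v, ll F M (D v) = ll F M v) (a b : M) (hab : a * τ b = 1) (hba : b * τ' a = 1)
    (hD : (a, b) * D (a, b) = 1) (hgen : Algebra.adjoin F {((a, b) : M × M)} = ⊤) : HermAlg F q (M × M) where
  J := JJ τ τ'
  D := D
  l := ll F M
  lam := (a, b)
  J_alg c := Prod.ext (ha c) (ha' c)
  J_J v := Prod.ext (h1 v.1) (h1' v.2)
  D_D := hDD
  D_J := hDJ
  l_J w := by
    show Algebra.trace F M (τ w.2) + Algebra.trace F M (τ' w.1) = (Algebra.trace F M w.1 + Algebra.trace F M w.2) ^ q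
    rw [ht, ht', h2, add_comm]
  l_D := hlD
  nondeg := ll_nondeg
  lam_J := Prod.ext hab hba
  lam_D := hD
  gen := hgen

/-- the determinant of a multiplication of `M × M` by a pair of scalars -/
theorem det_mul_pair (c d : F) : LinearMap.det (LinearMap.mulLeft F ((algebraMap F M c, algebraMap F M d) : M × M)) =
    c ^ finrank F M * d ^ finrank F M := by
  haveI : Module.Finite F M := inferInstance
  have : LinearMap.mulLeft F ((algebraMap F M c, algebraMap F M d) : M × M) =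
      LinearMap.prodMap (c • LinearMap.id) (d • LinearMap.id) := by
    apply LinearMap.ext
    rintro ⟨u, v⟩
    refine Prod.ext ?_ ?_
    · show algebraMap F M c * u = c • u
      rw [Algebra.smul_def]
    · show algebraMap F M d * v = d • v
      rw [Algebra.smul_def]
  rw [this, LinearMap.det_prodMap, LinearMap.det_smul, LinearMap.det_smul, LinearMap.det_id, mul_one, mul_one]

/-- **the centraliser condition in odd characteristic** -/
theorem mm_cond {F : Type*} [Field F] [Fintype F] {M : Type*} [Field M] [Finite M] [Algebra F M] {q : ℕ}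
    (hF : Fintype.card F = q ^ 2) (h2 : (2 : F) ≠ 0) {τ τ' : M →+* M}
    (ha : ∀ c : F, τ (algebraMap F M c) = algebraMap F M (c ^ q))
    (hbad : ∀ t : F, t ^ (q + 1) = -1 → (-1) ^ finrank F M * t ^ (2 * finrank F M) ≠ 1)
    (a : M × M) (s : F) (hs : s * s ^ q = 1) (haJ : a * JJ τ τ' a = 1)
    (hdet : LinearMap.det (LinearMap.mulLeft F a) = 1) (hsq : a * a = algebraMap F (M × M) s) :
    ∃ t : F, a = algebraMap F (M × M) t := by
  have hinj : Function.Injective (algebraMap F M) := (algebraMap F M).injective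
  have hs0 : s ≠ 0 := by rintro rfl; rw [zero_mul] at hs; exact zero_ne_one hs
  have hqodd : q % 2 = 1 := by
    have h3 := natCard_odd_of_two h2
    rw [Nat.card_eq_fintype_card, hF] at h3
    by_contra h
    have : q % 2 = 0 := by omega
    rw [Nat.pow_mod, this] at h3
    norm_num at h3
  obtain ⟨t, ht⟩ : ∃ t, t * t = s := by
    have hr : ringChar F ≠ 2 := fun h => h2 (by
      haveI := ringChar.of_eq h
      exact CharP.cast_eq_zero F 2)
    have h3 : IsSquare s := by
      rw [FiniteField.isSquare_iff hr hs0, hF]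
      obtain ⟨c, hc⟩ : ∃ c, q = 2 * c + 1 := ⟨q / 2, by omega⟩
      have h4 : q ^ 2 / 2 = (q + 1) * c := by
        have : q ^ 2 = 2 * ((q + 1) * c) + 1 := by rw [hc]; ring
        omega
      rw [h4, pow_mul, pow_succ', hs, one_pow]
    obtain ⟨t, ht⟩ := h3
    exact ⟨t, ht.symm⟩
  obtain ⟨u, v⟩ := a
  have h3 : u * u = algebraMap F M t * algebraMap F M t := by
    rw [← map_mul, ht]; exact congrArg Prod.fst hsq
  have h4 : v * v = algebraMap F M t * algebraMap F M t := by
    rw [← map_mul, ht]; exact congrArg Prod.snd hsq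
  obtain ⟨t1, ht1⟩ : ∃ t1 : F, u = algebraMap F M t1 := by
    rcases mul_self_eq_mul_self_iff.1 h3 with h | h
    · exact ⟨t, h⟩
    · exact ⟨-t, by rw [h, map_neg]⟩
  have h5 : v = u ∨ v = -u := mul_self_eq_mul_self_iff.1 (h4.trans h3.symm)
  rcases h5 with h5 | h5
  · exact ⟨t1, by rw [h5, ht1]; rfl⟩
  · exfalso
    have h6 : v = algebraMap F M (-t1) := by rw [h5, ht1, map_neg]
    have h7 : u * τ v = 1 := congrArg Prod.fst haJ
    rw [h6, ha, ht1, ← map_mul, ← map_one (algebraMap F M)] at h7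
    have h8 := hinj h7
    have h9 : t1 ^ (q + 1) = -1 := by
      have : (-t1) ^ q = - t1 ^ q := Odd.neg_pow (Nat.odd_iff.2 hqodd) t1
      rw [this] at h8
      rw [pow_succ']
      linear_combination -h8
    apply hbad t1 h9
    rw [ht1, h6, det_mul_pair] at hdet
    rw [neg_pow t1] at hdet
    rw [two_mul, pow_add]
    linear_combination hdet

end MM

/-! ### the two types -/

theorem trace_pow {F : Type*} [Field F] [Fintype F] {M : Type*} [Field M] [Finite M] [Algebra F M] {r : ℕ} [CharP F r]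
    (hr : r.Prime) (e : ℕ) (v : M) : Algebra.trace F M (v ^ r ^ e) = Algebra.trace F M v ^ r ^ e := by
  haveI : Fact r.Prime := ⟨hr⟩
  haveI : CharP M r := charP_of_injective_algebraMap (algebraMap F M).injective r
  haveI : ExpChar M r := ExpChar.prime hr
  haveI : Module.Finite F M := inferInstance
  apply (algebraMap F M).injective
  rw [map_pow (algebraMap F M), FiniteField.algebraMap_trace_eq_sum_pow, FiniteField.algebraMap_trace_eq_sum_pow,
    sum_pow_char_pow]
  refine Finset.sum_congr rfl fun i _ => ?_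
  rw [← pow_mul, ← pow_mul, mul_comm]

/-- the data of a conjugation -/
theorem exists_tau {F : Type*} [Field F] [Fintype F] {q : ℕ} (hF : Fintype.card F = q ^ 2) {M : Type*} [Field M] [Finite M]
    [Algebra F M] {j : ℕ} (hj : Odd j) : ∃ τ : M →+* M, (∀ v, τ v = v ^ q ^ j) ∧
      (∀ c : F, τ (algebraMap F M c) = algebraMap F M (c ^ q)) ∧ ∀ v, Algebra.trace F M (τ v) = Algebra.trace F M v ^ q := by
  obtain ⟨r, hrc⟩ := CharP.exists F
  have hr : r.Prime := CharP.char_is_prime F r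
  haveI : Fact r.Prime := ⟨hr⟩
  haveI : CharP M r := charP_of_injective_algebraMap (algebraMap F M).injective r
  haveI : ExpChar M r := ExpChar.prime hr
  obtain ⟨f, hf⟩ : ∃ f, q = r ^ f := by
    obtain ⟨m, -, hm⟩ := FiniteField.card F r
    have h1 : q ∣ r ^ (m : ℕ) := by rw [← hm, hF]; exact dvd_pow_self q (by norm_num)
    obtain ⟨f, -, hf⟩ := (Nat.dvd_prime_pow hr).1 h1
    exact ⟨f, hf⟩
  have hqj : q ^ j = r ^ (f * j) := by rw [hf, ← pow_mul]
  have hcq : ∀ c : F, c ^ q ^ j = c ^ q := by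
    obtain ⟨i, rfl⟩ := hj
    intro c
    rw [pow_succ, pow_mul, pow_mul]
    congr 1
    have h1 : ∀ i : ℕ, c ^ (q ^ 2) ^ i = c := by
      intro i
      induction i with
      | zero => rw [pow_zero, pow_one]
      | succ i ih => rw [pow_succ, pow_mul, ih, ← hF, FiniteField.pow_card]
    exact h1 i
  refine ⟨iterateFrobenius M r (f * j), fun v => ?_, fun c => ?_, fun v => ?_⟩
  · rw [iterateFrobenius_def, hqj]
  · rw [iterateFrobenius_def, ← hqj, ← map_pow, hcq]
  · rw [iterateFrobenius_def, trace_pow hr, ← hqj, hcq]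

/-- the determinant of the exchange -/
theorem det_swap {F : Type*} [Field F] (h2 : (2 : F) ≠ 0) {M : Type*} [AddCommGroup M] [Module F M] [FiniteDimensional F M] :
    LinearMap.det (LinearMap.prod (LinearMap.snd F M M) (LinearMap.fst F M M)) = (-1) ^ finrank F M := by
  set s : Module.End F (M × M) := LinearMap.prod (LinearMap.snd F M M) (LinearMap.fst F M M) with hs
  set T : Module.End F (M × M) := LinearMap.prod (LinearMap.fst F M M + LinearMap.snd F M M)
    (LinearMap.fst F M M - LinearMap.snd F M M) with hT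
  set d : Module.End F (M × M) := LinearMap.prodMap LinearMap.id ((-1 : F) • LinearMap.id) with hd
  have h1 : T * s = d * T := by
    apply LinearMap.ext
    rintro ⟨u, v⟩
    refine Prod.ext ?_ ?_
    · show v + u = u + v
      rw [add_comm]
    · show v - u = (-1 : F) • (u - v)
      rw [neg_smul, one_smul, neg_sub]
  have h3 : T * T = (2 : F) • 1 := by
    apply LinearMap.ext
    rintro ⟨u, v⟩
    refine Prod.ext ?_ ?_
    · show (u + v) + (u - v) = (2 : F) • u
      rw [two_smul]; abel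
    · show (u + v) - (u - v) = (2 : F) • v
      rw [two_smul]; abel
  have h4 : LinearMap.det T ≠ 0 := by
    intro h
    have h5 := congrArg LinearMap.det h3
    rw [map_mul, h, mul_zero, LinearMap.det_smul, map_one, mul_one] at h5
    exact pow_ne_zero _ h2 h5.symm
  have h5 := congrArg LinearMap.det h1
  rw [map_mul, map_mul, mul_comm] at h5
  have h6 := mul_right_cancel₀ h4 h5
  rw [h6, hd, LinearMap.det_prodMap, LinearMap.det_id, LinearMap.det_smul, LinearMap.det_id, one_mul, mul_one]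

/-- **type B** : `m` odd -/
theorem exists_B {F : Type} [Field F] [Fintype F] {q : ℕ} (hF : Fintype.card F = q ^ 2) {m : ℕ} (hm : Odd m) {p : ℕ}
    (hp : p.Prime) (hp2 : p ≠ 2) (hd : ∀ j, p ∣ q ^ j - 1 ↔ m ∣ j) :
    ∃ (M : Type) (_ : Field M) (_ : Finite M) (_ : Algebra F M) (τ τ' : M →+* M) (H : HermAlg F q (M × M)),
      finrank F M = m ∧ H.J = JJ τ τ' ∧ (∀ c : F, τ (algebraMap F M c) = algebraMap F M (c ^ q)) ∧
      H.D.toLinearMap = LinearMap.prod (LinearMap.snd F M M) (LinearMap.fst F M M) ∧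
      (∀ j, H.lam ^ j = 1 ↔ p ^ 1 ∣ j) ∧ ∃ N, 1 ≤ N ∧ (H.lam - 1) ^ N = 1 := by
  have hcardF : Nat.card F = q ^ 2 := by rw [Nat.card_eq_fintype_card, hF]
  have hd' : ∀ j, p ∣ Nat.card F ^ j - 1 ↔ m ∣ j := by
    intro j
    rw [hcardF, ← pow_mul, hd]
    exact Nat.Coprime.dvd_mul_left (Nat.coprime_two_right.2 hm)
  obtain ⟨M, _, _, _, a, hfin, hord, ha0, hgen⟩ := exists_split F hm hp hp2 hd'
  haveI : Module.Finite F M := inferInstance
  have hcardM : Nat.card M = q ^ (2 * m) := by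
    rw [pow_mul, ← hcardF, ← hfin]; exact Module.natCard_eq_pow_finrank
  obtain ⟨τ, hτ, hτa, hτt⟩ := exists_tau (M := M) hF hm
  have hττ : ∀ v, τ (τ v) = v := by
    intro v
    rw [hτ, hτ, ← pow_mul, ← pow_add, ← two_mul, ← hcardM]
    haveI : Fintype M := Fintype.ofFinite M
    rw [Nat.card_eq_fintype_card]
    exact FiniteField.pow_card v
  have hfix : τ a = a := by
    have h1 : a ^ (q ^ m - 1) = 1 := (hord _).2 ((hd m).2 dvd_rfl)
    have hq : 1 ≤ q ^ m := Nat.one_le_pow _ _ (q_pos hF)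
    rw [hτ]
    conv_lhs => rw [show q ^ m = q ^ m - 1 + 1 by omega]
    rw [pow_succ, h1, one_mul]
  have hab : a * τ a⁻¹ = 1 := by rw [map_inv₀, hfix, mul_inv_cancel₀ ha0]
  have hba : a⁻¹ * τ a = 1 := by rw [hfix, inv_mul_cancel₀ ha0]
  have ha1 : a ≠ 1 := by
    intro h
    have h1 := Nat.le_of_dvd one_pos ((hord 1).1 (by rw [h, one_pow]))
    exact absurd hp.one_lt (by omega)
  let H : HermAlg F q (M × M) := mm (fun x y => add_pow_q hF x y) τ τ hττ hττ hτa hτa hτt hτt
    ((AlgHom.snd F M M).prod (AlgHom.fst F M M)) (fun _ => rfl) (fun _ => rfl)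
    (fun v => by rw [← Prod.mk.eta (p := v)]; exact add_comm _ _) a a⁻¹ hab hba
    (Prod.ext (mul_inv_cancel₀ ha0) (inv_mul_cancel₀ ha0)) hgen
  refine ⟨M, inferInstance, inferInstance, inferInstance, τ, τ, H, hfin, rfl, hτa, rfl, ?_, ?_⟩
  · intro j
    rw [pow_one, ← hord]
    show ((a, a⁻¹) : M × M) ^ j = 1 ↔ _
    rw [Prod.ext_iff]
    show a ^ j = 1 ∧ a⁻¹ ^ j = 1 ↔ _
    rw [inv_pow, inv_eq_one, and_self]
  · obtain ⟨N, hN, hN1⟩ := exists_pow_eq_one (sub_ne_zero.2 ha1)
    obtain ⟨N', hN', hN1'⟩ := exists_pow_eq_one (sub_ne_zero.2 (inv_ne_one.2 ha1))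
    refine ⟨N * N', Nat.mul_pos hN hN', ?_⟩
    show (((a, a⁻¹) : M × M) - 1) ^ (N * N') = 1
    refine Prod.ext ?_ ?_
    · show (a - 1) ^ (N * N') = 1
      rw [pow_mul, hN1, one_pow]
    · show (a⁻¹ - 1) ^ (N * N') = 1
      rw [mul_comm, pow_mul, hN1', one_pow]

/-- **type C** : `m` even -/
theorem exists_C {F : Type} [Field F] [Fintype F] {q : ℕ} (hF : Fintype.card F = q ^ 2) {m : ℕ} (hm : Even m)
    (hm0 : 1 ≤ m) {p k : ℕ} (hp : p.Prime) (hk : 1 ≤ k) (hd : ∀ j, p ^ k ∣ q ^ j - 1 ↔ 2 * m ∣ j)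
    (hdp : p ^ k ∣ q ^ m + 1) (hpq : ¬ p ∣ q) :
    ∃ (M : Type) (_ : Field M) (_ : Finite M) (_ : Algebra F M) (τ τ' : M →+* M) (H : HermAlg F q (M × M)),
      finrank F M = m ∧ H.J = JJ τ τ' ∧ (∀ c : F, τ (algebraMap F M c) = algebraMap F M (c ^ q)) ∧
      (∃ δ : Module.End F M, δ * δ = 1 ∧ H.D.toLinearMap = LinearMap.prodMap δ δ) ∧
      (∀ j, H.lam ^ j = 1 ↔ p ^ k ∣ j) ∧ ∃ N, 1 ≤ N ∧ (H.lam - 1) ^ N = 1 := by
  have hcardF : Nat.card F = q ^ 2 := by rw [Nat.card_eq_fintype_card, hF]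
  have hP1 : 1 < p ^ k := Nat.one_lt_pow (by omega) hp.one_lt
  have hq1 : 1 ≤ q := q_pos hF
  have hcop : Nat.Coprime (p ^ k) q := Nat.Coprime.pow_left k ((Nat.Prime.coprime_iff_not_dvd hp).2 hpq)
  have hd' : ∀ j, p ^ k ∣ Nat.card F ^ j - 1 ↔ m ∣ j := by
    intro j
    rw [hcardF, ← pow_mul, hd]
    exact Nat.mul_dvd_mul_iff_left (by norm_num)
  obtain ⟨r, hrc⟩ := CharP.exists F
  haveI hrp : Fact r.Prime := ⟨CharP.char_is_prime F r⟩
  haveI : NeZero m := ⟨by omega⟩
  let M := FiniteField.Extension F r m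
  have hcard : Nat.card M = Nat.card F ^ m := FiniteField.natCard_extension F r m
  have hfin : finrank F M = m := FiniteField.finrank_extension F r m
  have hcardM : Nat.card M = q ^ (2 * m) := by rw [hcard, hcardF, ← pow_mul]
  haveI : Fintype M := Fintype.ofFinite M
  have hpowM : ∀ v : M, v ^ q ^ (2 * m) = v := by
    intro v
    rw [← hcardM, Nat.card_eq_fintype_card]
    exact FiniteField.pow_card v
  obtain ⟨a, ha0, hord⟩ := exists_order (K := M) (P := p ^ k) (by rw [hcard]; exact (hd' _).2 dvd_rfl)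
  obtain ⟨τ, hτ, hτa, hτt⟩ := exists_tau (M := M) (j := 1) hF odd_one
  obtain ⟨τ', hτ', hτa', hτt'⟩ := exists_tau (M := M) (j := 2 * m - 1) hF (by
    rw [Nat.odd_iff]; omega)
  have hadd : 2 * m - 1 + 1 = 2 * m := by omega
  have h1 : ∀ v, τ (τ' v) = v := by
    intro v
    rw [hτ, hτ', ← pow_mul, ← pow_add, hadd, hpowM]
  have h1' : ∀ v, τ' (τ v) = v := by
    intro v
    rw [hτ', hτ, ← pow_mul, ← pow_add, add_comm, hadd, hpowM]
  set b : M := τ' a⁻¹ with hb
  have hb0 : b ≠ 0 := by rw [hb, Ne, map_eq_zero]; exact inv_ne_zero ha0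
  have hordb : ∀ j, b ^ j = 1 ↔ p ^ k ∣ j := by
    intro j
    rw [← hord, hb, ← map_pow, map_eq_one_iff τ' τ'.injective, inv_pow, inv_eq_one]
  have hgena : Algebra.adjoin F {a} = ⊤ := adjoin_eq_top ha0 hfin hord hd'
  have hgenb : Algebra.adjoin F {b} = ⊤ := adjoin_eq_top hb0 hfin hordb hd'
  have hgen : Algebra.adjoin F {((a, b) : M × M)} = ⊤ := by
    refine adjoin_pair hgena hgenb ?_
    intro σ hσ
    obtain ⟨i, hi, rfl⟩ := FiniteField.Extension.exists_frob_pow_eq F r m σ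
    have h3 : a ^ (q ^ (2 * i)) = b := by
      rw [← hσ]
      have := FiniteField.Extension.frob_iterate_apply F r m i (x := a)
      rw [hcardF, ← pow_mul] at this
      exact this.symm
    have h4 : a ^ (q ^ (2 * i) + q ^ (2 * m - 1)) = 1 := by
      rw [pow_add, h3, hb, hτ', ← mul_pow, inv_mul_cancel₀ ha0, one_pow]
    have h5 := (hord _).1 h4
    have h6 : q ^ (2 * i) + q ^ (2 * m - 1) = q ^ (2 * i) * (q ^ (2 * m - 1 - 2 * i) + 1) := by
      rw [mul_add, ← pow_add, mul_one, add_comm]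
      congr 2
      omega
    rw [h6] at h5
    have h7 : p ^ k ∣ q ^ (2 * m - 1 - 2 * i) + 1 := (hcop.pow_right _).dvd_of_dvd_mul_left h5
    have h8 : p ^ k ∣ q ^ (2 * (2 * m - 1 - 2 * i)) - 1 := by
      have h9 : q ^ (2 * (2 * m - 1 - 2 * i)) - 1 = (q ^ (2 * m - 1 - 2 * i) + 1) * (q ^ (2 * m - 1 - 2 * i) - 1) := by
        have := Nat.sq_sub_sq (q ^ (2 * m - 1 - 2 * i)) 1
        rw [one_pow] at this
        rw [mul_comm 2 (2 * m - 1 - 2 * i), pow_mul, this]
      rw [h9]
      exact h7.mul_right _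
    rw [hd] at h8
    obtain ⟨c, hc⟩ := h8
    obtain ⟨m', rfl⟩ := hm
    have h10 : 2 * (m' + m') - 1 - 2 * i = (m' + m') * c := by
      have : 2 * ((m' + m') * c) = 2 * (m' + m') * c := by ring
      omega
    have h11 : (m' + m') * c = 2 * (m' * c) := by ring
    omega
  have hab : a * τ b = 1 := by rw [hb, h1, mul_inv_cancel₀ ha0]
  have hba : b * τ' a = 1 := by rw [hb, ← map_mul, inv_mul_cancel₀ ha0, map_one]
  have ha1 : a ≠ 1 := by
    intro h
    have h1 := Nat.le_of_dvd one_pos ((hord 1).1 (by rw [h, one_pow]))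
    omega
  have hb1 : b ≠ 1 := by
    intro h
    have h1 := Nat.le_of_dvd one_pos ((hordb 1).1 (by rw [h, one_pow]))
    omega
  -- the automorphism `D`
  let δ : M ≃ₐ[F] M := FiniteField.Extension.frob F r m ^ (m / 2)
  have hδ : ∀ v : M, δ v = v ^ q ^ m := by
    intro v
    have h3 := FiniteField.Extension.frob_iterate_apply F r m (m / 2) (x := v)
    rw [hcardF, ← pow_mul, Nat.mul_div_cancel' hm.two_dvd] at h3
    exact h3
  have hδδ : ∀ v : M, δ (δ v) = v := by
    intro v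
    rw [hδ, hδ, ← pow_mul, ← pow_add, ← two_mul, hpowM]
  have hδt : ∀ v : M, Algebra.trace F M (δ v) = Algebra.trace F M v := fun v => Algebra.trace_eq_of_algEquiv δ v
  have hδτ : ∀ v, δ (τ v) = τ (δ v) := fun v => by rw [hδ, hδ, map_pow]
  have hδτ' : ∀ v, δ (τ' v) = τ' (δ v) := fun v => by rw [hδ, hδ, map_pow]
  have haδ : a * δ a = 1 := by rw [hδ, ← pow_succ']; exact (hord _).2 hdp
  have hbδ : b * δ b = 1 := by rw [hδ, ← pow_succ']; exact (hordb _).2 hdp
  let H : HermAlg F q (M × M) := mm (fun x y => add_pow_q hF x y) τ τ' h1 h1' hτa hτa' hτt hτt'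
    ((δ.toAlgHom.comp (AlgHom.fst F M M)).prod (δ.toAlgHom.comp (AlgHom.snd F M M)))
    (fun v => Prod.ext (hδδ v.1) (hδδ v.2))
    (fun v => Prod.ext (hδτ v.2) (hδτ' v.1))
    (fun v => by
      show Algebra.trace F M (δ v.1) + Algebra.trace F M (δ v.2) = Algebra.trace F M v.1 + Algebra.trace F M v.2
      rw [hδt, hδt]) a b hab hba (Prod.ext haδ hbδ) hgen
  refine ⟨M, inferInstance, inferInstance, inferInstance, τ, τ', H, hfin, rfl, hτa, ⟨δ.toLinearMap, ?_, rfl⟩, ?_, ?_⟩
  · ext v; exact hδδ v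
  · intro j
    show ((a, b) : M × M) ^ j = 1 ↔ _
    rw [Prod.ext_iff]
    show a ^ j = 1 ∧ b ^ j = 1 ↔ _
    rw [hord, hordb, and_self]
  · obtain ⟨N, hN, hN1⟩ := exists_pow_eq_one (sub_ne_zero.2 ha1)
    obtain ⟨N', hN', hN1'⟩ := exists_pow_eq_one (sub_ne_zero.2 hb1)
    refine ⟨N * N', Nat.mul_pos hN hN', ?_⟩
    show (((a, b) : M × M) - 1) ^ (N * N') = 1
    refine Prod.ext ?_ ?_
    · show (a - 1) ^ (N * N') = 1
      rw [pow_mul, hN1, one_pow]
    · show (b - 1) ^ (N * N') = 1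
      rw [mul_comm, pow_mul, hN1', one_pow]

end Cfsg.Agent.H101.RO
end

-- part: H101/ROSURow
section
/-!
# `RealOdd` for `PSU_n(q)`: the row of the classification
-/

set_option autoImplicit false
set_option linter.style.haveILetI false

namespace Cfsg.Agent.H101.RO

open Module Cfsg
open Cfsg.Agent.LieClassical.HermBasic

theorem exists_odd_primitive {q m : ℕ} (hq : 2 ≤ q) (hm : Odd m) (hqm : m = 1 → Even q ∧ q ≠ 2) :
    ∃ p : ℕ, p.Prime ∧ p ≠ 2 ∧ ∀ j, p ∣ q ^ j - 1 ↔ m ∣ j := by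
  by_cases h1 : m = 1
  · subst h1
    obtain ⟨he, hq2⟩ := hqm rfl
    obtain ⟨c, hc⟩ := he
    obtain ⟨p, hp, hpd⟩ := Nat.exists_prime_and_dvd (n := q - 1) (by omega)
    refine ⟨p, hp, ?_, fun j => ⟨fun _ => one_dvd j, fun _ => hpd.trans ?_⟩⟩
    · rintro rfl
      omega
    · simpa only [_root_.one_pow] using Nat.sub_dvd_pow_sub_pow q 1 j
  · have hm3 : 3 ≤ m := by
      obtain ⟨t, rfl⟩ := hm
      omega
    obtain ⟨r, hr, hm', hd, -⟩ := Cfsg.Agent.Lib.Zsigmondy.exists_primitive (a := q) (n := m) hq (by omega)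
      (fun h => by omega) (fun h => by
        obtain ⟨t, rfl⟩ := hm
        omega)
    refine ⟨r, hr, ?_, hm'⟩
    rintro rfl
    have := Nat.le_of_dvd (by norm_num) hd
    omega

theorem psu_row_two {F : Type} [Field F] [Fintype F] {q n : ℕ} (hF : Fintype.card F = q ^ 2) (hn : 3 ≤ n)
    (hsmall : ¬ (n = 3 ∧ q = 2)) (h2 : (2 : F) = 0) : RealOdd (PSU n F q) := by
  have hq2 : 2 ≤ q := two_le hF
  have hqe : Even q := by
    have h3 := even_card_two h2
    rw [Nat.card_eq_fintype_card, hF] at h3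
    exact even_iff_two_dvd.2 (Nat.prime_two.dvd_of_dvd_pow h3)
  obtain ⟨m, hm⟩ : ∃ m, n = 2 * m ∨ n = 2 * m + 1 := ⟨n / 2, by omega⟩
  have hred : ∀ (M : Type) [Field M] (a : M × M), a * a = 0 → a = 0 := fun M _ a ha =>
    Prod.ext (mul_self_eq_zero.1 (congrArg Prod.fst ha)) (mul_self_eq_zero.1 (congrArg Prod.snd ha))
  have key : ∃ (M : Type) (_ : Field M) (_ : Finite M) (_ : Algebra F M) (H : HermAlg F q (M × M)) (p k : ℕ),
      finrank F M = m ∧ p.Prime ∧ p ≠ 2 ∧ 1 ≤ k ∧ (∀ j, H.lam ^ j = 1 ↔ p ^ k ∣ j) ∧ ∃ N, 1 ≤ N ∧ (H.lam - 1) ^ N = 1 := by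
    rcases Nat.even_or_odd m with hme | hmo
    · obtain ⟨p, k, hp, hp2, hk, hd, hdp, hpq⟩ := exists_primpow (q := q) (m := m) hq2 (by omega) (fun h => by
        rw [h] at hme
        exact absurd hme (by decide))
      obtain ⟨M, i1, i2, i3, τ, h88⟩ := exists_C hF hme (by omega) hp hk hd hdp hpq
      revert h88; rintro ⟨τ', H, hfin, -, -, h88⟩
      revert h88; rintro ⟨-, hord, hN⟩
      exact ⟨M, i1, i2, i3, H, p, k, hfin, hp, hp2, hk, hord, hN⟩
    · obtain ⟨p, hp, hp2, hd⟩ := exists_odd_primitive hq2 hmo (fun h => ⟨hqe, fun h' => hsmall ⟨by omega, h'⟩⟩)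
      obtain ⟨M, i1, i2, i3, τ, h88⟩ := exists_B hF hmo hp hp2 hd
      revert h88; rintro ⟨τ', H, hfin, -, -, h88⟩
      revert h88; rintro ⟨-, hord, hN⟩
      exact ⟨M, i1, i2, i3, H, p, 1, hfin, hp, hp2, le_rfl, hord, hN⟩
  obtain ⟨M, _, _, _, H, h88⟩ := key
  revert h88; rintro ⟨p, k, hfin, hp, hp2, h88⟩
  revert h88; rintro ⟨hk, hord, N, hN, hN1⟩
  haveI : Module.Finite F M := inferInstance
  have hfin' : finrank F (M × M) = 2 * m := by rw [Module.finrank_prod, hfin, two_mul]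
  rcases hm with rfl | rfl
  · exact psu_two hF hn h2 H hfin' hp hp2 hk hord (hred M)
  · refine psu_two hF hn h2 (H.prod hF hN hN1) (by rw [Module.finrank_prod, hfin', Module.finrank_self]) hp hp2 hk ?_ ?_
    · intro j
      rw [← hord]
      show ((H.lam, 1) : (M × M) × F) ^ j = 1 ↔ _
      rw [Prod.ext_iff]
      show H.lam ^ j = 1 ∧ (1 : F) ^ j = 1 ↔ _
      rw [one_pow, and_iff_left rfl]
    · intro a ha
      exact Prod.ext (hred M _ (congrArg Prod.fst ha)) (mul_self_eq_zero.1 (congrArg Prod.snd ha))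

theorem psu_row_odd {F : Type} [Field F] [Fintype F] {q n : ℕ} (hF : Fintype.card F = q ^ 2) (hn : 3 ≤ n)
    (h2 : (2 : F) ≠ 0) : RealOdd (PSU n F q) := by
  have hq2 : 2 ≤ q := two_le hF
  have hcard : Nat.card F = q ^ 2 := by rw [Nat.card_eq_fintype_card, hF]
  have hqodd : q % 2 = 1 := by
    have h3 := natCard_odd_of_two h2
    rw [hcard] at h3
    by_contra h
    have : q % 2 = 0 := by omega
    rw [Nat.pow_mod, this] at h3
    norm_num at h3
  obtain ⟨i, hi⟩ : ∃ i : F, i ^ 2 = -1 := (exists_i_iff h2).2 (by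
    rw [hcard, Nat.pow_mod]
    have : q % 4 = 1 ∨ q % 4 = 3 := by omega
    rcases this with h | h <;> rw [h])
  have hone : (-1 : F) ≠ 1 := fun h => h2 (by linear_combination -h)
  rcases Nat.even_or_odd n with hne | hno
  · -- `n` even
    have hn1 : Odd (n - 1) := by
      obtain ⟨c, hc⟩ := hne
      exact ⟨c - 1, by omega⟩
    by_cases hq4 : q % 4 = 1
    · refine psu_unip hF hn h2 ⟨i, ?_, ?_⟩
      · obtain ⟨c, hc⟩ : ∃ c, q + 1 = 2 * (2 * c + 1) := ⟨q / 4, by omega⟩
        rw [hc, pow_mul, hi, hn1.neg_one_pow, Odd.neg_one_pow ⟨c, rfl⟩]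
      · have : n = 2 * (n / 2) := by
          obtain ⟨c, hc⟩ := hne
          omega
        conv_lhs => rw [this]
        rw [pow_mul, hi, Nat.mul_div_cancel_left _ (by norm_num), ← mul_pow, neg_one_mul, neg_neg, one_pow]
    · obtain ⟨a, u, hu, hau⟩ := Nat.exists_eq_two_pow_mul_odd (n := q + 1) (by omega)
      have ha2 : 2 ≤ a := by
        by_contra h
        have : a = 0 ∨ a = 1 := by omega
        obtain ⟨w, rfl⟩ := hu
        rcases this with rfl | rfl
        · rw [pow_zero] at hau; omega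
        · rw [pow_one] at hau; (clear * - hq4 hau; omega)
      by_cases hna : 2 ^ (a + 1) ∣ n
      · -- unipotent
        have hdq : 2 ^ (a + 1) ∣ Nat.card F - 1 := by
          have h3 : Nat.card F - 1 = (q + 1) * (q - 1) := by
            have := Nat.sq_sub_sq q 1
            rw [one_pow] at this
            rw [hcard, this]
          rw [h3, hau, pow_succ, mul_assoc]
          refine mul_dvd_mul_left _ (dvd_mul_of_dvd_right ?_ _)
          omega
        obtain ⟨γ, hγ0, hγ⟩ := exists_order hdq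
        have hγ1 : γ ^ 2 ^ a = -1 := by
          have h3 : γ ^ 2 ^ a * γ ^ 2 ^ a = 1 := by
            rw [← pow_add, ← two_mul, ← pow_succ']
            exact (hγ _).2 dvd_rfl
          refine (mul_self_eq_one_iff.1 h3).resolve_left fun h => ?_
          have h4 := Nat.le_of_dvd (by positivity) ((hγ _).1 h)
          rw [pow_succ] at h4
          have : 0 < 2 ^ a := by positivity
          omega
        refine psu_unip hF hn h2 ⟨γ, ?_, ?_⟩
        · rw [hau, pow_mul, hγ1, hu.neg_one_pow, hn1.neg_one_pow]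
        · rw [(hγ n).2 hna, one_mul]
          apply Even.neg_one_pow
          have h8 : 2 ^ 2 ∣ n := (pow_dvd_pow 2 (by omega)).trans hna
          obtain ⟨c, hc⟩ := h8
          exact ⟨c, by omega⟩
      · -- the tori
        obtain ⟨m, hm⟩ : ∃ m, n = 2 * m := by
          obtain ⟨c, hc⟩ := hne
          exact ⟨c, by omega⟩
        subst hm
        rcases Nat.even_or_odd m with hme | hmo
        · obtain ⟨p, k, hp, hp2, hk, hd, hdp, hpq⟩ := exists_primpow (q := q) (m := m) hq2 (by omega) (fun h => by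
            rw [h] at hme
            exact absurd hme (by decide))
          obtain ⟨M, _, _, _, τ, h88⟩ := exists_C hF hme (by omega) hp hk hd hdp hpq
          revert h88; rintro ⟨τ', H, hfin, hJ, hτ, h88⟩
          revert h88; rintro ⟨⟨δ, hδ, hD⟩, hord, -⟩
          haveI : Module.Finite F M := inferInstance
          have hfin' : finrank F (M × M) = 2 * m := by rw [Module.finrank_prod, hfin, two_mul]
          refine psu_of_hermAlg hF hn H hfin' (ζ := 1) (one_pow _) ?_ hp hp2 hk hord ?_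
          · rw [one_pow, one_mul, hD, LinearMap.det_prodMap, ← map_mul, hδ, map_one]
          · rw [hJ]
            refine mm_cond hF h2 hτ ?_
            intro t ht h3
            rw [hfin, hme.neg_one_pow, one_mul] at h3
            obtain ⟨b, v, hv, hbv⟩ := Nat.exists_eq_two_pow_mul_odd (n := 2 * m) (by omega)
            have hba : b ≤ a := by
              by_contra h
              apply hna
              rw [hbv]
              exact (pow_dvd_pow 2 (by omega)).mul_right _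
            obtain ⟨c, rfl⟩ := Nat.exists_eq_add_of_le hba
            have h4 : t ^ ((q + 1) * v) = -1 := by rw [pow_mul, ht, hv.neg_one_pow]
            have h5 : (q + 1) * v = 2 * m * (2 ^ c * u) := by rw [hau, hbv, pow_add]; ring
            rw [h5, pow_mul, h3, one_pow] at h4
            exact hone h4.symm
        · obtain ⟨p, hp, hp2, hd⟩ := exists_odd_primitive hq2 hmo (fun h => absurd h (by omega))
          obtain ⟨M, _, _, _, τ, h88⟩ := exists_B hF hmo hp hp2 hd
          revert h88; rintro ⟨τ', H, hfin, hJ, hτ, h88⟩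
          revert h88; rintro ⟨hD, hord, -⟩
          haveI : Module.Finite F M := inferInstance
          have hfin' : finrank F (M × M) = 2 * m := by rw [Module.finrank_prod, hfin, two_mul]
          obtain ⟨c, hc⟩ : ∃ c, q + 1 = 4 * c := ⟨(q + 1) / 4, by (clear * - hqodd hq4; omega)⟩
          have hi4 : i ^ 4 = 1 := by
            have : i ^ 4 = (i ^ 2) ^ 2 := by ring
            rw [this, hi]; ring
          refine psu_of_hermAlg hF hn H hfin' (ζ := i) ?_ ?_ hp hp2 le_rfl hord ?_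
          · rw [hc, pow_mul, hi4, one_pow]
          · rw [hD, det_swap h2, hfin, pow_mul, hi, ← mul_pow, neg_one_mul, neg_neg, one_pow]
          · rw [hJ]
            refine mm_cond hF h2 hτ ?_
            intro t ht h3
            rw [hfin, hmo.neg_one_pow, neg_one_mul] at h3
            have h4 : t ^ (2 * m) = -1 := by linear_combination -h3
            have h5 : (t ^ (2 * m)) ^ (2 * c) = (t ^ (q + 1)) ^ m := by
              rw [← pow_mul, ← pow_mul]; congr 1; rw [hc]; ring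
            rw [h4, ht, hmo.neg_one_pow, Even.neg_one_pow ⟨c, by ring⟩] at h5
            exact hone h5.symm
  · -- `n` odd
    obtain ⟨c, hc⟩ := exists_scalar_det (F := F) (n := n) (Or.inl (by
      obtain ⟨t, rfl⟩ := hno
      omega))
    have hn1 : Even (n - 1) := by
      obtain ⟨t, rfl⟩ := hno
      exact ⟨t, by omega⟩
    refine psu_unip hF hn h2 ⟨(-1) ^ (n / 2), ?_, ?_⟩
    · rw [hn1.neg_one_pow, ← pow_mul]
      apply Even.neg_one_pow
      exact Even.mul_left (by rw [Nat.even_iff]; omega) _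
    · rw [← pow_mul, ← pow_add]
      apply Even.neg_one_pow
      have : n / 2 * n + n / 2 = n / 2 * (n + 1) := by ring
      rw [this]
      exact Even.mul_left (by
        obtain ⟨t, rfl⟩ := hno
        exact ⟨t + 1, by ring⟩) _

/-- **`PSU_n(q)`** -/
theorem psu_row {G : Type*} [Group G] (h : Cfsg.IsPSU G) : RealOdd G := by
  obtain ⟨F, _, _, n, q, hF, hn, hsmall, ⟨e⟩⟩ := h
  refine RealOdd.congr e.symm ?_
  by_cases h2 : (2 : F) = 0
  · exact psu_row_two hF hn hsmall h2
  · exact psu_row_odd hF hn h2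

end Cfsg.Agent.H101.RO
end

private theorem dce_5a00d092afb5 : _root_.True := by
  try have : _root_.True := by simp only [_root_.Cfsg.Agent.H182.Sign.gs.congr_simp]
  try have : _root_.True := by simp only [_root_.Cfsg.Agent.H182.Sign.Sg.congr_simp]
  exact _root_.True.intro
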