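import Mathlib
import Cfsg.Prelude.Def_LieRecognition
import Cfsg.Prelude.Def_LieExceptional
import Cfsg.Agent.H101.SzGeo
import Cfsg.Agent.S1136
import Cfsg.Agent.S1163
import Cfsg.Agent.ThreePrime.OrderThree
import Cfsg.Agent.OddCyclic.T1SzFacts
import Cfsg.Agent.OddCyclic.ClaimC.SzIso
import Cfsg.Agent.S0331
import Cfsg.Agent.S0324
import Cfsg.Agent.Characters.CNBasic
set_option linter.all false

-- part: H101/SzRankOne
section
/-!
# Identification of the groups `Geo` with order prime to `3`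
-/

set_option autoImplicit false

namespace Cfsg.Agent.H101.SzRankOne

open MulAction Cfsg.Agent.H101.SzAbs Cfsg.Agent.H101.SzAbs.Geo

variable {G Ω : Type*} [Group G] [MulAction G Ω] {P : Ω → Subgroup G}

/-- The set `pts P` as an invariant set. -/
def act (h : Geo G Ω P) : SubMulAction G Ω where
  carrier := pts P
  smul_mem' := fun g _ ha => h.smul_mem_pts g ha

theorem two_transitive [Finite G] [Finite Ω] (h : Geo G Ω P)
    (h2 : ∃ a ∈ pts P, ∃ b ∈ pts P, a ≠ b) {a : Ω}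
    (ha : a ∈ pts P) (hi : Nat.card (inv P a) ≠ 1) : IsMultiplyPretransitive G (act h) 2 := by
  rw [is_two_pretransitive_iff]
  rintro ⟨x, hx⟩ ⟨y, hy⟩ ⟨z, hz⟩ ⟨w, hw⟩ hxy hzw
  have hxy' : x ≠ y := fun h' => hxy (Subtype.ext h')
  have hzw' : z ≠ w := fun h' => hzw (Subtype.ext h')
  obtain ⟨g, hg⟩ := h.exists_smul h2 hx hz
  have hzy : z ≠ g • y := by
    rw [← hg]
    exact fun h' => hxy' (smul_left_cancel g h')
  obtain ⟨k, hk, hk'⟩ := h.stab_transitive h2 hz (h.smul_mem_pts g hy) hw hzy hzw' (by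
    rwa [← h.card_inv_eq h2 ha hz])
  refine ⟨k * g, ?_, ?_⟩
  · apply Subtype.ext
    show (k * g) • x = z
    rw [mul_smul, hg, hk]
  · apply Subtype.ext
    show (k * g) • y = w
    rw [mul_smul, hk']

theorem card_act (h : Geo G Ω P) : Nat.card (act h) = Nat.card (pts P) := rfl

theorem exists_setup [Finite G] [Finite Ω] (h : Geo G Ω P)
    (h2 : ∃ a ∈ pts P, ∃ b ∈ pts P, a ≠ b) {a : Ω}
    (ha : a ∈ pts P) (hi : Nat.card (inv P a) ≠ 1) :
    ∃ t : G, Cfsg.IsRankOneSetup G (act h) ⟨a, ha⟩ t (P a) := by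
  obtain ⟨b, hb, hab⟩ : ∃ b ∈ pts P, a ≠ b := by
    obtain ⟨c, hc, d, hd, hcd⟩ := h2
    by_cases hca : a = c
    · exact ⟨d, hd, fun hda => hcd (hca.symm.trans hda)⟩
    · exact ⟨c, hc, hca⟩
  obtain ⟨t, ht2, ht1, htab⟩ := h.exists_swap h2 ha hb
  have hst : stabilizer G (⟨a, ha⟩ : act h) = stabilizer G a := by
    ext g
    rw [mem_stabilizer_iff, mem_stabilizer_iff]
    exact ⟨fun hg => congrArg Subtype.val hg, fun hg => Subtype.ext hg⟩
  have hst2 : stabilizer G (t • (⟨a, ha⟩ : act h)) = stabilizer G b := by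
    ext g
    rw [mem_stabilizer_iff, mem_stabilizer_iff]
    have e : ((t • (⟨a, ha⟩ : act h) : act h) : Ω) = b := htab
    constructor
    · intro hg
      have := congrArg Subtype.val hg
      rw [SetLike.val_smul, e] at this
      exact this
    · intro hg
      apply Subtype.ext
      rw [SetLike.val_smul, e]
      exact hg
  have hodd := h.odd_two (G := G) hab
  have hinf : P a ⊓ stabilizer G b = ⊥ := by
    rw [eq_bot_iff]
    rintro x ⟨hx, hxb⟩
    rw [Subgroup.mem_bot]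
    by_contra hx1
    exact hab (h.free a b x hx hxb hx1).symm
  have heven : Even (Nat.card (P a)) := by
    obtain ⟨u, hu, hu2, hu1⟩ := ha
    rw [even_iff_two_dvd]
    have : orderOf (⟨u, hu⟩ : P a) = 2 := by
      apply orderOf_eq_prime
      · rw [pow_two]; exact Subtype.ext hu2
      · exact fun h' => hu1 (congrArg Subtype.val h')
    rw [← this]
    exact orderOf_dvd_natCard _
  refine ⟨t, ?_, ht2, ht1, ?_, ?_, ?_, ?_, ?_, heven, ?_⟩
  · exact two_transitive h h2 ha hi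
  · rw [hst, mem_stabilizer_iff, htab]
    exact fun h' => hab h'.symm
  · rw [hst]
    exact fun x hx => h.le a x hx
  · rw [hst]
    intro g hg x hx
    have := h.conj g a x hx
    rwa [show g • a = a from hg] at this
  · rw [hst2, hinf]
  · rw [hst, hst2]
    apply Subgroup.eq_of_le_of_card_ge
    · exact sup_le (fun x hx => h.le a x hx) inf_le_left
    · rw [h.card_stab h2 ha, ← h.card_two h2 ha hb hab]
      have h3 : Disjoint (P a) (stabilizer G a ⊓ stabilizer G b) := by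
        rw [disjoint_iff, eq_bot_iff, ← hinf]
        exact inf_le_inf_left _ inf_le_right
      have hinj : Function.Injective (fun x : P a × (stabilizer G a ⊓ stabilizer G b : Subgroup G) =>
          (⟨(x.1 : G) * (x.2 : G), Subgroup.mul_mem_sup x.1.2 x.2.2⟩ :
            (P a ⊔ (stabilizer G a ⊓ stabilizer G b) : Subgroup G))) := by
        rintro ⟨x, y⟩ ⟨x', y'⟩ hxy
        have := (Subgroup.mul_injective_of_disjoint h3) (a₁ := (x, y)) (a₂ := (x', y'))
          (congrArg Subtype.val hxy)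
        exact this
      have := Nat.card_le_card_of_injective _ hinj
      rwa [Nat.card_prod] at this
  · rw [hst, hst2]
    exact hodd

theorem faithful [Finite G] [Finite Ω] (h : Geo G Ω P)
    (h2 : ∃ a ∈ pts P, ∃ b ∈ pts P, a ≠ b) {a : Ω}
    (ha : a ∈ pts P) (hi : Nat.card (inv P a) ≠ 1) : FaithfulSMul G (act h) := by
  have hcard : 3 ≤ Nat.card (pts P) := by
    rw [h.card_pts h2 ha hi]
    have : inv P a ⊆ (P a : Set G) \ {1} := fun t ht => ⟨ht.1, ht.2.2⟩
    have h3 := Set.ncard_le_ncard this (Set.toFinite _)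
    have h4 : ((P a : Set G) \ {1}).ncard + 1 = (P a : Set G).ncard :=
      Set.ncard_sdiff_singleton_add_one (P a).one_mem (Set.toFinite _)
    rw [← Nat.card_coe_set_eq] at h3
    have h5 : (P a : Set G).ncard = Nat.card (P a) := (Nat.card_coe_set_eq _).symm
    have h6 : 0 < Nat.card (inv P a) := by
      obtain ⟨t, ht⟩ := ha
      have : Nonempty (inv P a) := ⟨⟨t, ht⟩⟩
      exact Nat.card_pos
    omega
  obtain ⟨x, hx, y, hy, z, hz, hxy, hxz, hyz⟩ : ∃ x ∈ pts P, ∃ y ∈ pts P, ∃ z ∈ pts P,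
      x ≠ y ∧ x ≠ z ∧ y ≠ z := by
    rw [Nat.card_coe_set_eq] at hcard
    obtain ⟨x, y, z, hx, hy, hz, hxy, hxz, hyz⟩ := (Set.two_lt_ncard_iff (Set.toFinite _)).1 hcard
    exact ⟨x, hx, y, hy, z, hz, hxy, hxz, hyz⟩
  constructor
  intro g k hgk
  have key : k⁻¹ * g = 1 := by
    have hf : ∀ w (hw : w ∈ pts P), (k⁻¹ * g) • w = w := by
      intro w hw
      have := congrArg Subtype.val (hgk ⟨w, hw⟩)
      have h' : g • w = k • w := this
      rw [mul_smul, h', inv_smul_smul]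
    exact h.three _ x y z hxy hyz hxz (hf x hx) (hf y hy) (hf z hz)
  exact (inv_mul_eq_one.1 key).symm

/-- **Identification.** -/
theorem classify [Finite G] [Finite Ω] (h : Geo G Ω P)
    (h2 : ∃ a ∈ pts P, ∃ b ∈ pts P, a ≠ b) (h3 : ¬ 3 ∣ Nat.card G) {a : Ω}
    (ha : a ∈ pts P) (hi : Nat.card (inv P a) ≠ 1) :
    ∃ (K : Type) (_ : Field K) (_ : Fintype K) (k : ℕ), 1 ≤ k ∧ Fintype.card K = 2 ^ (2 * k + 1) ∧
      Nonempty (G ≃* ↥(Cfsg.Sz K k)) ∧ Nat.card (inv P a) + 1 = 2 ^ (2 * k + 1) := by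
  classical
  have hfact : Fact (Nat.Prime 2) := ⟨Nat.prime_two⟩
  obtain ⟨t, hS⟩ := exists_setup h h2 ha hi
  have hf := faithful h h2 ha hi
  have hinvpos : 0 < Nat.card (inv P a) := by
    obtain ⟨t, ht⟩ := ha
    have : Nonempty (inv P a) := ⟨⟨t, ht⟩⟩
    exact Nat.card_pos
  have hcomm : ∃ x y : G, x ≠ 1 ∧ y ≠ 1 ∧ x ≠ y ∧ x * x = 1 ∧ y * y = 1 ∧ x * y = y * x := by
    have h1 : 1 < Nat.card (inv P a) := by omega
    rw [Finite.one_lt_card_iff_nontrivial] at h1
    obtain ⟨⟨x, hx⟩, ⟨y, hy⟩, hxy⟩ := h1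
    exact ⟨x, y, hx.2.2, hy.2.2, fun h' => hxy (Subtype.ext h'), hx.2.1, hy.2.1,
      h.central a x hx.1 hx.2.1 y hy.1⟩
  obtain ⟨L, hLn, hLodd, hL⟩ := Cfsg.Agent.S1136.result hS hcomm
  have hLdvd : Nat.card L ∣ Nat.card G := Subgroup.card_subgroup_dvd_card L
  have hSz : Cfsg.Lie.IsoSuzuki L := by
    rcases hL with ⟨F, i1, i2, -, ⟨e⟩⟩ | hL | ⟨F, i1, i2, n, hn, hq, ⟨e⟩⟩
    · exfalso
      apply h3
      refine dvd_trans ?_ hLdvd
      rw [Nat.card_congr e.toEquiv]
      exact Cfsg.Agent.ThreePrime.OrderThree.three_dvd_card_psl F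
    · exact hL
    · exfalso
      apply h3
      refine dvd_trans ?_ hLdvd
      rw [Nat.card_congr e.toEquiv]
      refine Cfsg.Agent.ThreePrime.OrderThree.three_dvd_card_psu F (2 ^ n) hq ?_
      calc 2 = 2 ^ 1 := by norm_num
        _ ≤ 2 ^ n := Nat.pow_le_pow_right (by norm_num) (by omega)
  -- the 2-group `P a` lies in `L`
  have hPL : P a ≤ L := by
    intro x hx
    obtain ⟨k, hk⟩ := h.two a ⟨x, hx⟩
    have hk' : x ^ 2 ^ k = 1 := congrArg Subtype.val hk
    have h4 : (x : G ⧸ L) ^ 2 ^ k = 1 := by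
      rw [← QuotientGroup.mk_pow, hk', QuotientGroup.mk_one]
    have h5 : orderOf (x : G ⧸ L) ∣ 2 ^ k := orderOf_dvd_of_pow_eq_one h4
    have h6 : orderOf (x : G ⧸ L) ∣ L.index := orderOf_dvd_natCard _
    have h7 : orderOf (x : G ⧸ L) = 1 := by
      have hcop : Nat.Coprime (2 ^ k) L.index := Nat.Coprime.pow_left _ hLodd.coprime_two_left
      exact Nat.eq_one_of_dvd_coprimes hcop h5 h6
    rw [orderOf_eq_one_iff] at h7
    exact (QuotientGroup.eq_one_iff x).1 h7
  obtain ⟨b, hb, hab⟩ : ∃ b ∈ pts P, a ≠ b := by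
    obtain ⟨c, hc, d, hd, hcd⟩ := h2
    by_cases hca : a = c
    · exact ⟨d, hd, fun hda => hcd (hca.symm.trans hda)⟩
    · exact ⟨c, hc, hca⟩
  have hodd := h.odd_two (G := G) hab
  rw [h.card_two h2 ha hb hab] at hodd
  obtain ⟨n, hn⟩ := IsPGroup.iff_card.1 (h.two a)
  -- orders
  have hcardG : Nat.card G = (Nat.card (P a) + 1) * (Nat.card (P a) * Nat.card (inv P a)) := by
    have htr : IsPretransitive G (act h) := by
      constructor
      rintro ⟨x, hx⟩ ⟨y, hy⟩
      obtain ⟨g, hg⟩ := h.exists_smul h2 hx hy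
      exact ⟨g, Subtype.ext hg⟩
    have h4 := MulAction.index_stabilizer G (⟨a, ha⟩ : act h)
    have h5 := (stabilizer G (⟨a, ha⟩ : act h)).card_mul_index
    have hst : stabilizer G (⟨a, ha⟩ : act h) = stabilizer G a := by
      ext g
      rw [mem_stabilizer_iff, mem_stabilizer_iff]
      exact ⟨fun hg => congrArg Subtype.val hg, fun hg => Subtype.ext hg⟩
    rw [h4, MulAction.orbit_eq_univ, Set.ncard_univ, card_act, h.card_pts h2 ha hi, hst,
      h.card_stab h2 ha] at h5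
    rw [← h5, mul_comm]
  -- the Sylow subgroup of `L`
  have hPLc : Nat.card ((P a).subgroupOf L) = Nat.card (P a) :=
    Nat.card_congr (Subgroup.subgroupOfEquivOfLe hPL).toEquiv
  have hfacG : (Nat.card G).factorization 2 = n := by
    have hPpos : 0 < Nat.card (P a) := Nat.card_pos
    have h8 : 2 ∣ Nat.card (P a) := by
      obtain ⟨u, hu, hu2, hu1⟩ := ha
      have : orderOf (⟨u, hu⟩ : P a) = 2 := by
        apply orderOf_eq_prime
        · rw [pow_two]; exact Subtype.ext hu2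
        · exact fun h' => hu1 (congrArg Subtype.val h')
      rw [← this]
      exact orderOf_dvd_natCard _
    have e1 : (Nat.card (P a) + 1).factorization 2 = 0 :=
      Nat.factorization_eq_zero_of_not_dvd (by omega)
    have e2 : (Nat.card (inv P a)).factorization 2 = 0 :=
      Nat.factorization_eq_zero_of_not_dvd (by
        rw [← even_iff_two_dvd]; exact Nat.not_even_iff_odd.2 hodd)
    rw [hcardG, Nat.factorization_mul (by omega) (by positivity),
      Nat.factorization_mul (by omega) (by omega), Finsupp.add_apply, Finsupp.add_apply, e1, e2,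
      hn, Nat.Prime.factorization_pow Nat.prime_two]
    simp
  have hfacL : (Nat.card L).factorization 2 = n := by
    have h9 := L.card_mul_index
    have h10 : L.index ≠ 0 := by
      intro h0; rw [h0] at hLodd; exact absurd hLodd (by decide)
    have e3 : L.index.factorization 2 = 0 :=
      Nat.factorization_eq_zero_of_not_dvd (by
        rw [← even_iff_two_dvd]; exact Nat.not_even_iff_odd.2 hLodd)
    rw [← h9, Nat.factorization_mul Nat.card_pos.ne' h10, Finsupp.add_apply, e3, add_zero] at hfacG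
    exact hfacG
  have hsyl : Nat.card ((P a).subgroupOf L) = 2 ^ (Nat.card L).factorization 2 := by
    rw [hPLc, hn, hfacL]
  have hmore := Cfsg.Agent.OddCyclic.T1SzFacts.szMore hSz (Sylow.ofCard _ hsyl)
  have hcoe : ((Sylow.ofCard _ hsyl : Sylow 2 L) : Subgroup L) = (P a).subgroupOf L := rfl
  rw [hcoe] at hmore
  -- number of involutions
  have hZ : Nat.card ((P a).subgroupOf L ⊓ Subgroup.centralizer ((P a).subgroupOf L : Set L) :
      Subgroup L) = Nat.card (inv P a) + 1 := by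
    have e4 : Nat.card (inv P a) + 1 = Nat.card {x : G | x ∈ P a ∧ x * x = 1} := by
      rw [Nat.card_coe_set_eq, Nat.card_coe_set_eq]
      have : inv P a = {x : G | x ∈ P a ∧ x * x = 1} \ {1} := by
        ext x
        constructor
        · rintro ⟨h1, h2, h3⟩; exact ⟨⟨h1, h2⟩, h3⟩
        · rintro ⟨⟨h1, h2⟩, h3⟩; exact ⟨h1, h2, h3⟩
      rw [this]
      exact Set.ncard_sdiff_singleton_add_one ⟨(P a).one_mem, one_mul 1⟩ (Set.toFinite _)
    rw [e4]
    apply Nat.card_eq_of_bijective (fun x : ((P a).subgroupOf L ⊓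
      Subgroup.centralizer ((P a).subgroupOf L : Set L) : Subgroup L) =>
        (⟨((x : L) : G), x.2.1, by
          have := (hmore.sq_iff x x.2.1).2 (fun y hy => (Subgroup.mem_centralizer_iff.1 x.2.2 y hy).symm)
          exact congrArg Subtype.val this⟩ : {x : G | x ∈ P a ∧ x * x = 1}))
    constructor
    · intro x y hxy
      have h11 : ((x : L) : G) = ((y : L) : G) :=
        congrArg (fun z : {x : G | x ∈ P a ∧ x * x = 1} => (z : G)) hxy
      exact Subtype.ext (Subtype.ext h11)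
    · rintro ⟨x, hx, hx2⟩
      have hxL : x ∈ L := hPL hx
      refine ⟨⟨⟨x, hxL⟩, hx, ?_⟩, rfl⟩
      show (⟨x, hxL⟩ : L) ∈ Subgroup.centralizer ((P a).subgroupOf L : Set L)
      rw [Subgroup.mem_centralizer_iff]
      intro y hy
      exact ((hmore.sq_iff ⟨x, hxL⟩ hx).1 (Subtype.ext hx2) y hy).symm
  have hsq : Nat.card (P a) = (Nat.card (inv P a) + 1) ^ 2 := by
    rw [← hPLc, hmore.card_eq, hZ]
  -- the order of `L`
  obtain ⟨K, iK, iK', k, hk, hKc, ⟨e⟩⟩ := hSz
  have hLc : Nat.card L = (2 ^ (2 * k + 1)) ^ 2 * (2 ^ (2 * k + 1) - 1) * ((2 ^ (2 * k + 1)) ^ 2 + 1) := by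
    rw [Nat.card_congr e.toEquiv, (Cfsg.Agent.S1163.result hk hKc).1]
  have hpos : 1 ≤ 2 ^ (2 * k + 1) := Nat.one_le_two_pow
  have heven : 2 ∣ 2 ^ (2 * k + 1) := dvd_pow_self 2 (by omega)
  have hlt : 2 ≤ 2 ^ (2 * k + 1) := Nat.le_of_dvd (by omega) heven
  have hs : (2 ^ (2 * k + 1)) ^ 2 = Nat.card (P a) := by
    rw [hn, ← hfacL, hLc]
    have f1 : (2 ^ (2 * k + 1) - 1).factorization 2 = 0 :=
      Nat.factorization_eq_zero_of_not_dvd (by omega)
    have f2 : ((2 ^ (2 * k + 1)) ^ 2 + 1).factorization 2 = 0 := by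
      apply Nat.factorization_eq_zero_of_not_dvd
      have : 2 ∣ (2 ^ (2 * k + 1)) ^ 2 := dvd_pow heven (by norm_num)
      omega
    rw [Nat.factorization_mul (mul_ne_zero (by positivity) (by omega)) (by omega),
      Nat.factorization_mul (by positivity) (by omega), Finsupp.add_apply, Finsupp.add_apply, f1, f2,
      ← pow_mul, Nat.Prime.factorization_pow Nat.prime_two]
    simp
  have hs' : 2 ^ (2 * k + 1) = Nat.card (inv P a) + 1 := by
    rw [hsq] at hs
    exact Nat.pow_left_injective (by norm_num) hs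
  have hLG : Nat.card L = Nat.card G := by
    rw [hLc, hcardG, hs, hs']
    have : Nat.card (inv P a) + 1 - 1 = Nat.card (inv P a) := by omega
    rw [this]
    ring
  have htop : L = ⊤ := by
    apply Subgroup.eq_top_of_card_eq
    exact hLG
  refine ⟨K, iK, iK', k, hk, hKc, ?_, hs'.symm⟩
  obtain ⟨ε⟩ := Cfsg.Agent.OddCyclic.ClaimC.SzIso.iso hk hKc
  rw [htop] at e
  exact ⟨(Subgroup.topEquiv.symm.trans e).trans ε.symm⟩

end Cfsg.Agent.H101.SzRankOne
end

-- part: H101/SzSub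
section
/-!
# The subgroups of the Suzuki groups
-/

set_option autoImplicit false

namespace Cfsg.Agent.H101.SzSub

open MulAction Cfsg.Agent.H101.SzAbs Cfsg.Agent.H101.SzGeo Cfsg.Agent.H101.SzAbs.Geo
open Cfsg.Agent.LieExceptional Cfsg.Agent.LieExceptional.SuzukiBasic
open Cfsg.Agent.LieExceptional.SuzukiSylow Cfsg.Agent.LieExceptional.SuzukiCN

variable {F : Type*} [Field F] [Fintype F] {m : ℕ}

/-- `3` does not divide the order. -/
theorem three_not_dvd (hm : 1 ≤ m) (hF : Fintype.card F = 2 ^ (2 * m + 1)) :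
    ¬ 3 ∣ Nat.card (Cfsg.Sz F m) := by
  have hfin := finite_ovoid F m
  exact (SuzukiHyp.hyp hm hF).three_not_dvd

/-- The stabiliser normalises `P a`, as a Sylow subgroup. -/
theorem exists_sylow (hm : 1 ≤ m) (hF : Fintype.card F = 2 ^ (2 * m + 1))
    (a : Cfsg.suzukiOvoid F m) : ∃ S : Sylow 2 (Cfsg.Sz F m), (S : Subgroup (Cfsg.Sz F m)) = P hF a ∧
      stabilizer (Cfsg.Sz F m) a ≤ Subgroup.normalizer ((S : Subgroup (Cfsg.Sz F m)) : Set _) := by
  obtain ⟨g, rfl⟩ := exists_smul_inf hF a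
  have e : ((g • sylowQ hm hF : Sylow 2 (Cfsg.Sz F m)) : Subgroup (Cfsg.Sz F m)) =
      P hF (g • inf F m) := by
    ext x
    rw [Sylow.coe_subgroup_smul, Subgroup.mem_pointwise_smul_iff_inv_smul_mem, coe_sylowQ,
      mem_P_smul hm hF]
    have e' : (MulAut.conj g)⁻¹ • x = g⁻¹ * x * g := by
      rw [← map_inv]
      simp
    rw [e']
  refine ⟨g • sylowQ hm hF, e, ?_⟩
  intro x hx
  rw [e, Subgroup.mem_normalizer_iff]
  intro y
  have hx' : x • (g • inf F m) = g • inf F m := hx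
  constructor
  · intro hy
    have := conj_mem_P hm hF x _ y hy
    rwa [hx'] at this
  · intro hy
    have := conj_mem_P hm hF x⁻¹ _ _ hy
    rw [inv_smul_eq_iff.2 hx'.symm] at this
    have e2 : x⁻¹ * (x * y * x⁻¹) * x⁻¹⁻¹ = y := by group
    rwa [e2] at this

/-- **Solvable subgroups.** -/
theorem solvable_case (hm : 1 ≤ m) (hF : Fintype.card F = 2 ^ (2 * m + 1))
    (M : Subgroup (Cfsg.Sz F m)) (hM : Group.IsSolvable M) :
    (∃ P : Sylow 2 ↥(Cfsg.Sz F m), M ≤ Subgroup.normalizer ((P : Subgroup ↥(Cfsg.Sz F m)) : Set ↥(Cfsg.Sz F m))) ∨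
    (∃ U : Subgroup ↥(Cfsg.Sz F m), IsCyclic ↥U ∧ Nat.card ↥U ∈ ({2 ^ (2 * m + 1) - 1, 2 ^ (2 * m + 1) + 2 ^ (m + 1) + 1, 2 ^ (2 * m + 1) - 2 ^ (m + 1) + 1} : Set ℕ) ∧
      M ≤ Subgroup.normalizer (U : Set ↥(Cfsg.Sz F m))) := by
  rcases subsingleton_or_nontrivial M with hs | hn
  · left
    have hbot : M = ⊥ := Subgroup.eq_bot_of_subsingleton M
    obtain ⟨S⟩ : Nonempty (Sylow 2 (Cfsg.Sz F m)) := inferInstance
    exact ⟨S, by rw [hbot]; exact bot_le⟩
  · obtain ⟨q, hq, A, hAn, hA1, hAc, -⟩ :=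
      Cfsg.Agent.Characters.CNBasic.exists_normal_elementary M
    obtain ⟨a, ha, ha1⟩ := (Subgroup.nontrivial_iff_exists_ne_one A).1
      ((Subgroup.nontrivial_iff_ne_bot A).2 hA1)
    have ha0 : (a : Cfsg.Sz F m) ≠ 1 := fun h => ha1 (Subtype.ext h)
    -- conjugates of `a` under `M` commute with `a`
    have hconj : ∀ x : M, (x : Cfsg.Sz F m) * a * (x : Cfsg.Sz F m)⁻¹ * a =
        a * ((x : Cfsg.Sz F m) * a * (x : Cfsg.Sz F m)⁻¹) := by
      intro x
      have h1 : x * a * x⁻¹ ∈ A := hAn.conj_mem a ha x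
      exact congrArg Subtype.val (hAc _ h1 _ ha)
    have hne : ∀ x : M, (x : Cfsg.Sz F m) * a * (x : Cfsg.Sz F m)⁻¹ ≠ 1 := by
      intro x h1
      apply ha0
      calc (a : Cfsg.Sz F m) = (x : Cfsg.Sz F m)⁻¹ * ((x : Cfsg.Sz F m) * a * (x : Cfsg.Sz F m)⁻¹) *
            (x : Cfsg.Sz F m) := by group
        _ = 1 := by rw [h1]; group
    rcases trichotomy hm hF ha0 with ⟨b, hb⟩ | ⟨U, haU, hUc, hUn, hUcent⟩
    · left
      obtain ⟨S, -, hS2⟩ := exists_sylow hm hF b
      refine ⟨S, fun x hx => hS2 ?_⟩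
      have h2 : (x * a * x⁻¹ : Cfsg.Sz F m) ∈ P hF b :=
        (geo hm hF).cent b a hb ha0 _ (hconj ⟨x, hx⟩)
      have h3 : (x * a * x⁻¹ : Cfsg.Sz F m) ∈ P hF (x • b) := conj_mem_P hm hF x b a hb
      exact ((geo hm hF).free b (x • b) _ h2 ((geo hm hF).le _ _ h3) (hne ⟨x, hx⟩))
    · right
      refine ⟨U, hUc, hUn, fun x hx => ?_⟩
      have h2 : (x * a * x⁻¹ : Cfsg.Sz F m) ∈ U := by
        rw [← hUcent a haU ha0, Subgroup.mem_centralizer_singleton_iff]
        exact hconj ⟨x, hx⟩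
      have h3 := hUcent _ h2 (hne ⟨x, hx⟩)
      rw [Subgroup.mem_normalizer_iff]
      intro y
      constructor
      · intro hy
        rw [← h3, Subgroup.mem_centralizer_singleton_iff]
        have hy' : y * a = a * y := by
          rw [← hUcent a haU ha0] at hy
          exact Subgroup.mem_centralizer_singleton_iff.1 hy
        calc x * y * x⁻¹ * (x * a * x⁻¹) = x * (y * a) * x⁻¹ := by group
          _ = x * (a * y) * x⁻¹ := by rw [hy']
          _ = _ := by group
      · intro hy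
        rw [← hUcent a haU ha0, Subgroup.mem_centralizer_singleton_iff]
        rw [← h3, Subgroup.mem_centralizer_singleton_iff] at hy
        calc y * a = x⁻¹ * (x * y * x⁻¹ * (x * a * x⁻¹)) * x := by group
          _ = x⁻¹ * (x * a * x⁻¹ * (x * y * x⁻¹)) * x := by rw [hy]
          _ = _ := by group

/-- Equal squares in `P a`. -/
theorem sq_eq (hm : 1 ≤ m) (hF : Fintype.card F = 2 ^ (2 * m + 1)) (a : Cfsg.suzukiOvoid F m)
    {x y : Cfsg.Sz F m} (hx : x ∈ P hF a) (hy : y ∈ P hF a) (h : x * x = y * y) :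
    (x * y⁻¹) * (x * y⁻¹) = 1 := by
  obtain ⟨g, rfl⟩ := exists_smul_inf hF a
  rw [mem_P_smul hm hF] at hx hy
  obtain ⟨a₁, b₁, h₁⟩ := exists_qu hF (⟨_, hx⟩ : Q hF)
  obtain ⟨a₂, b₂, h₂⟩ := exists_qu hF (⟨_, hy⟩ : Q hF)
  have e : (⟨g⁻¹ * x * g, hx⟩ : Q hF) ^ 2 = (⟨g⁻¹ * y * g, hy⟩ : Q hF) ^ 2 := by
    apply Subtype.ext
    show (g⁻¹ * x * g) ^ 2 = (g⁻¹ * y * g) ^ 2
    calc (g⁻¹ * x * g) ^ 2 = g⁻¹ * (x * x) * g := by rw [pow_two]; group
      _ = g⁻¹ * (y * y) * g := by rw [h]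
      _ = (g⁻¹ * y * g) ^ 2 := by rw [pow_two]; group
  rw [h₁, h₂, qu_sq, qu_sq, qu_eq_iff] at e
  have ha : a₁ = a₂ := by
    have e2 := e.2
    by_cases h0 : a₂ = 0
    · subst h0
      have h3 : a₁ ^ 2 ^ (m + 1) * a₁ = 0 := by rw [e2]; simp
      rcases mul_eq_zero.1 h3 with h4 | h4
      · exact pow_eq_zero_iff (by positivity) |>.1 h4
      · exact h4
    · have h5 : (a₁ / a₂) ^ (2 ^ (m + 1) + 1) = 1 := by
        rw [pow_succ, div_pow, div_mul_div_comm, e2]
        exact div_self (mul_ne_zero (pow_ne_zero _ h0) h0)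
      have h6 := eq_one_of_pow_sigma_add_one hF h5
      rwa [div_eq_one_iff_eq h0] at h6
  subst ha
  have e3 : ((⟨g⁻¹ * x * g, hx⟩ : Q hF) * (⟨g⁻¹ * y * g, hy⟩ : Q hF)⁻¹) ^ 2 = 1 := by
    have h2 := SuzukiBasic.add_self hF a₁
    rw [h₁, h₂, qu_inv, qu_mul, qu_sq, ← qu_zero_zero hF, qu_eq_iff, h2]
    simp
  have e4 : ((g⁻¹ * x * g) * (g⁻¹ * y * g)⁻¹) ^ 2 = 1 := congrArg Subtype.val e3
  calc (x * y⁻¹) * (x * y⁻¹) = g * ((g⁻¹ * x * g) * (g⁻¹ * y * g)⁻¹) ^ 2 * g⁻¹ := by
        rw [pow_two]; group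
    _ = 1 := by rw [e4]; group

/-- fourth powers in `P a` -/
theorem pow_four (hm : 1 ≤ m) (hF : Fintype.card F = 2 ^ (2 * m + 1)) (a : Cfsg.suzukiOvoid F m)
    {x : Cfsg.Sz F m} (hx : x ∈ P hF a) : (x * x) * (x * x) = 1 := by
  obtain ⟨g, rfl⟩ := exists_smul_inf hF a
  rw [mem_P_smul hm hF] at hx
  obtain ⟨a₁, b₁, h₁⟩ := exists_qu hF (⟨_, hx⟩ : Q hF)
  have e := qu_pow_four hF a₁ b₁
  rw [← h₁] at e
  have e' : (g⁻¹ * x * g) ^ 4 = 1 := congrArg Subtype.val e
  calc (x * x) * (x * x) = g * (g⁻¹ * x * g) ^ 4 * g⁻¹ := by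
        simp only [pow_succ, pow_zero, one_mul]; group
    _ = 1 := by rw [e']; group

/-- A subgroup of `P a` with just one involution is cyclic. -/
theorem cyclic_of_one (hm : 1 ≤ m) (hF : Fintype.card F = 2 ^ (2 * m + 1))
    (a : Cfsg.suzukiOvoid F m) (T : Subgroup (Cfsg.Sz F m)) (hT : T ≤ P hF a)
    {z : Cfsg.Sz F m} (hz : z ∈ T)
    (h1 : ∀ x ∈ T, x * x = 1 → x = 1 ∨ x = z) : IsCyclic T := by
  by_cases h : ∃ x ∈ T, x ≠ 1 ∧ x ≠ z
  · obtain ⟨x, hx, hx1, hxz⟩ := h
    have key : ∀ y ∈ T, y ≠ 1 → y ≠ z → y * y = z := by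
      intro y hy hy1 hyz
      rcases h1 (y * y) (T.mul_mem hy hy) (pow_four hm hF a (hT hy)) with h2 | h2
      · rcases h1 y hy h2 with h3 | h3
        · exact absurd h3 hy1
        · exact absurd h3 hyz
      · exact h2
    have hxx := key x hx hx1 hxz
    rw [Subgroup.isCyclic_iff_exists_zpowers_eq_top]
    refine ⟨x, ?_⟩
    apply le_antisymm
    · rwa [Subgroup.zpowers_le]
    · intro y hy
      have hzm : z ∈ Subgroup.zpowers x := by
        rw [← hxx]
        exact mul_mem (Subgroup.mem_zpowers x) (Subgroup.mem_zpowers x)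
      by_cases hy1 : y = 1
      · rw [hy1]; exact one_mem _
      by_cases hyz : y = z
      · rw [hyz]; exact hzm
      have hyy := key y hy hy1 hyz
      have h4 := sq_eq hm hF a (hT hy) (hT hx) (by rw [hxx, hyy])
      have h5 : y = (y * x⁻¹) * x := by group
      rcases h1 _ (T.mul_mem hy (T.inv_mem hx)) h4 with h6 | h6
      · rw [h5, h6, one_mul]; exact Subgroup.mem_zpowers x
      · rw [h5, h6]; exact mul_mem hzm (Subgroup.mem_zpowers x)
  · push Not at h
    rw [Subgroup.isCyclic_iff_exists_zpowers_eq_top]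
    refine ⟨z, ?_⟩
    apply le_antisymm
    · rwa [Subgroup.zpowers_le]
    · intro y hy
      by_cases hy1 : y = 1
      · rw [hy1]; exact one_mem _
      · rw [h y hy hy1]; exact Subgroup.mem_zpowers z

/-- The point stabilisers are solvable. -/
theorem solvable_stab (hm : 1 ≤ m) (hF : Fintype.card F = 2 ^ (2 * m + 1))
    (a : Cfsg.suzukiOvoid F m) : Group.IsSolvable (stabilizer (Cfsg.Sz F m) a) := by
  obtain ⟨g, rfl⟩ := exists_smul_inf hF a
  -- reduce to the point at infinity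
  have hinf : Group.IsSolvable (stabilizer (Cfsg.Sz F m) (inf F m)) := by
    let B := stabilizer (Cfsg.Sz F m) (inf F m)
    have hQB : Q hF ≤ B := fun x hx => by
      have := (geo hm hF).le (inf F m) x (by rw [P_inf hm hF]; exact hx)
      exact this
    have hn : ((Q hF).subgroupOf B).Normal := by
      constructor
      intro x hx y
      have hx' : (x : Cfsg.Sz F m) ∈ Q hF := hx
      have := conj_mem_P hm hF (y : Cfsg.Sz F m) (inf F m) x (by rw [P_inf hm hF]; exact hx')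
      rw [show (y : Cfsg.Sz F m) • inf F m = inf F m from y.2, P_inf hm hF] at this
      exact this
    have hdec : ∀ x : B, ∃ s : T hF, ∃ u ∈ Q hF, (x : Cfsg.Sz F m) = u * s := by
      intro x
      obtain ⟨c, d, k, hk⟩ := eq_U_mul_H_of_fix_infinity hm hF (x : Cfsg.Sz F m).2
        (congrArg Subtype.val (show (x : Cfsg.Sz F m) • inf F m = inf F m from x.2))
      refine ⟨⟨⟨H m k, H_mem hF k⟩, (mem_T hm hF _).2 ⟨k, rfl⟩⟩, u hF c d,
        (mem_Q_iff hF _).2 ⟨c, d, rfl⟩, ?_⟩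
      exact Subtype.ext hk
    have hTc : ∀ s t : T hF, (s : Cfsg.Sz F m) * t = t * s := by
      intro s t
      obtain ⟨k, hk⟩ := (mem_T hm hF _).1 s.2
      obtain ⟨l, hl⟩ := (mem_T hm hF _).1 t.2
      apply Subtype.ext
      show ((s : Cfsg.Sz F m) : Matrix.SpecialLinearGroup (Fin 4) F) *
        ((t : Cfsg.Sz F m) : Matrix.SpecialLinearGroup (Fin 4) F) = _ * _
      rw [hk, hl, H_mul, H_mul, mul_comm]
    have hTB : T hF ≤ B := inf_le_left
    have hab : ∀ x y : B ⧸ (Q hF).subgroupOf B, x * y = y * x := by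
      intro x y
      obtain ⟨x, rfl⟩ := QuotientGroup.mk_surjective x
      obtain ⟨y, rfl⟩ := QuotientGroup.mk_surjective y
      obtain ⟨s, u, hu, hx⟩ := hdec x
      obtain ⟨t, v, hv, hy⟩ := hdec y
      have hs : (QuotientGroup.mk x : B ⧸ (Q hF).subgroupOf B) =
          QuotientGroup.mk (⟨s, hTB s.2⟩ : B) := by
        have e : x = (⟨u, hQB hu⟩ : B) * ⟨s, hTB s.2⟩ := Subtype.ext hx
        rw [e, QuotientGroup.mk_mul, (QuotientGroup.eq_one_iff (⟨u, hQB hu⟩ : B)).2 hu, one_mul]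
      have ht : (QuotientGroup.mk y : B ⧸ (Q hF).subgroupOf B) =
          QuotientGroup.mk (⟨t, hTB t.2⟩ : B) := by
        have e : y = (⟨v, hQB hv⟩ : B) * ⟨t, hTB t.2⟩ := Subtype.ext hy
        rw [e, QuotientGroup.mk_mul, (QuotientGroup.eq_one_iff (⟨v, hQB hv⟩ : B)).2 hv, one_mul]
      rw [hs, ht, ← QuotientGroup.mk_mul, ← QuotientGroup.mk_mul]
      congr 1
      exact Subtype.ext (hTc s t)
    have h1 : Group.IsSolvable ((Q hF).subgroupOf B) := by
      have hfact : Fact (Nat.Prime 2) := ⟨Nat.prime_two⟩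
      have hp : IsPGroup 2 ((Q hF).subgroupOf B) := by
        have := (isPGroup_Q hF).comap_of_injective B.subtype B.subtype_injective
        exact this
      have := hp.isNilpotent
      exact IsNilpotent.to_isSolvable
    have h2 : Group.IsSolvable (B ⧸ (Q hF).subgroupOf B) := Group.isSolvable_of_comm hab
    exact Group.isSolvable_of_ker_le_range ((Q hF).subgroupOf B).subtype
      (QuotientGroup.mk' ((Q hF).subgroupOf B)) (by
      rw [QuotientGroup.ker_mk', Subgroup.range_subtype])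
  rw [MulAction.stabilizer_smul_eq_stabilizer_map_conj]
  have e := (stabilizer (Cfsg.Sz F m) (inf F m)).equivMapOfInjective
    (MulAut.conj g).toMonoidHom (MulAut.conj g).injective
  exact Group.isSolvable_of_surjective (f := e.toMonoidHom) e.surjective

/-- Odd order `p`-subgroups are cyclic. -/
theorem isCyclic_of_isPGroup (hm : 1 ≤ m) (hF : Fintype.card F = 2 ^ (2 * m + 1))
    {p : ℕ} (hp : p.Prime) (hp2 : p ≠ 2) (R : Subgroup (Cfsg.Sz F m)) (hR : IsPGroup p R) :
    IsCyclic R := by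
  have := Fact.mk hp
  obtain ⟨S, hS⟩ := hR.exists_le_sylow
  have hc := Cfsg.Agent.S0331.result hm hF hp2 S
  exact Subgroup.isCyclic_of_le hS

/-- If all the `2`-subgroups of `M` are cyclic then `M` is solvable. -/
theorem solvable_of_two (hm : 1 ≤ m) (hF : Fintype.card F = 2 ^ (2 * m + 1))
    (M : Subgroup (Cfsg.Sz F m)) (h2 : ∀ S : Sylow 2 M, IsCyclic S) : Group.IsSolvable M := by
  have hz : IsZGroup M := by
    refine ⟨fun p hp R => ?_⟩
    by_cases hp2 : p = 2
    · subst hp2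
      exact h2 R
    · have h1 : IsPGroup p ((R : Subgroup M).map M.subtype) := R.isPGroup'.map _
      have h3 := isCyclic_of_isPGroup hm hF hp hp2 _ h1
      have e := (R : Subgroup M).equivMapOfInjective M.subtype M.subtype_injective
      exact isCyclic_of_surjective e.symm.toMonoidHom e.symm.surjective
  infer_instance

/-- **The subgroup theorem.** -/
theorem main (hm : 1 ≤ m) (hF : Fintype.card F = 2 ^ (2 * m + 1))
    (M : Subgroup (Cfsg.Sz F m)) (hM : M ≠ ⊤) :
    (∃ P : Sylow 2 ↥(Cfsg.Sz F m), M ≤ Subgroup.normalizer ((P : Subgroup ↥(Cfsg.Sz F m)) : Set ↥(Cfsg.Sz F m))) ∨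
    (∃ U : Subgroup ↥(Cfsg.Sz F m), IsCyclic ↥U ∧ Nat.card ↥U ∈ ({2 ^ (2 * m + 1) - 1, 2 ^ (2 * m + 1) + 2 ^ (m + 1) + 1, 2 ^ (2 * m + 1) - 2 ^ (m + 1) + 1} : Set ℕ) ∧
      M ≤ Subgroup.normalizer (U : Set ↥(Cfsg.Sz F m))) ∨
    (∃ (K : Type) (_ : Field K) (_ : Fintype K) (k : ℕ), 1 ≤ k ∧ k < m ∧ Fintype.card K = 2 ^ (2 * k + 1) ∧ 2 * k + 1 ∣ 2 * m + 1 ∧
      Nonempty (↥M ≃* ↥(Cfsg.Sz K k))) := by
  classical
  have hfact : Fact (Nat.Prime 2) := ⟨Nat.prime_two⟩
  by_cases hsol : Group.IsSolvable M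
  · rcases solvable_case hm hF M hsol with h | h
    · exact Or.inl h
    · exact Or.inr (Or.inl h)
  right; right
  have hfin := finite_ovoid F m
  have hgeo := geo hm hF
  have h := hgeo.restrict M
  set P' : Cfsg.suzukiOvoid F m → Subgroup M := fun a => (P hF a).subgroupOf M with hP'
  -- there is an involution
  have hne : ∃ a, a ∈ pts P' := by
    by_contra hcon
    apply hsol
    apply solvable_of_two hm hF M
    intro S
    have hS : (S : Subgroup M) = ⊥ := by
      by_contra hS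
      have hn : Nontrivial S := (Subgroup.nontrivial_iff_ne_bot _).2 hS
      have hd : 2 ∣ Nat.card S := by
        obtain ⟨n, hn0, hn⟩ := (IsPGroup.nontrivial_iff_card S.isPGroup').1 hn
        rw [hn]; exact dvd_pow_self 2 (by omega)
      obtain ⟨t, ht⟩ := exists_prime_orderOf_dvd_card' (G := (S : Subgroup M)) 2 hd
      have ht2 : (t : M) * t = 1 := by
        have := pow_orderOf_eq_one t
        rw [ht, pow_two] at this
        exact congrArg Subtype.val this
      have ht1 : (t : M) ≠ 1 := by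
        intro h1
        have : t = 1 := Subtype.ext h1
        rw [this, orderOf_one] at ht
        omega
      obtain ⟨a, ha⟩ := h.fix t ht2 ht1
      exact hcon ⟨a, ⟨t, ha, ht2, ht1⟩⟩
    rw [hS]
    infer_instance
  obtain ⟨a, ha⟩ := hne
  -- at least two points
  have h2 : ∃ a ∈ pts P', ∃ b ∈ pts P', a ≠ b := by
    by_contra hcon
    push Not at hcon
    apply hsol
    have hle : M ≤ stabilizer (Cfsg.Sz F m) a := by
      intro x hx
      exact (hcon _ (h.smul_mem_pts ⟨x, hx⟩ ha) a ha)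
    have := solvable_stab hm hF a
    exact Group.isSolvable_of_isSolvable_injective (Subgroup.inclusion_injective hle)
  -- Sylow subgroup
  have hsyl : ∃ S : Sylow 2 M, (S : Subgroup M) = P' a := by
    obtain ⟨S, hS⟩ := (h.two a).exists_le_sylow
    refine ⟨S, le_antisymm ?_ hS⟩
    obtain ⟨t, ht, ht2, ht1⟩ := ha
    have hn : Nontrivial S := (Subgroup.nontrivial_iff_exists_ne_one _).2 ⟨t, hS ht, ht1⟩
    have hcn := S.isPGroup'.center_nontrivial
    have hcp : IsPGroup 2 (Subgroup.center S) := S.isPGroup'.to_subgroup _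
    have hd : 2 ∣ Nat.card (Subgroup.center S) := by
      obtain ⟨n, hn0, hn⟩ := (IsPGroup.nontrivial_iff_card hcp).1 hcn
      rw [hn]; exact dvd_pow_self 2 (by omega)
    obtain ⟨z, hz⟩ := exists_prime_orderOf_dvd_card' (G := Subgroup.center S) 2 hd
    have hz1 : ((z : S) : M) ≠ 1 := by
      intro h1
      have : z = 1 := Subtype.ext (Subtype.ext h1)
      rw [this, orderOf_one] at hz
      omega
    have hcomm : ∀ x : S, (x : M) * ((z : S) : M) = ((z : S) : M) * x := by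
      intro x
      exact congrArg Subtype.val (Subgroup.mem_center_iff.1 z.2 x)
    have hzP : ((z : S) : M) ∈ P' a := h.cent a t ht ht1 _ (hcomm ⟨t, hS ht⟩).symm
    intro x hx
    exact h.cent a _ hzP hz1 x (hcomm ⟨x, hx⟩)
  -- more than one involution
  have hi : Nat.card (inv P' a) ≠ 1 := by
    intro hone
    apply hsol
    apply solvable_of_two hm hF M
    obtain ⟨S, hS⟩ := hsyl
    obtain ⟨z, hz, hz2, hz1⟩ := ha
    have hcyc : IsCyclic ((P' a).map M.subtype) := by
      have hzm : (z : Cfsg.Sz F m) ∈ (P' a).map M.subtype := ⟨z, hz, rfl⟩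
      apply cyclic_of_one hm hF a _ _ hzm
      · rintro _ ⟨x, hx, rfl⟩ hx2
        by_cases hx1 : (x : Cfsg.Sz F m) = 1
        · left; exact hx1
        · right
          rw [Nat.card_eq_one_iff_unique] at hone
          have := hone.1.elim (⟨x, hx, Subtype.ext hx2, fun h' => hx1 (congrArg Subtype.val h')⟩ : inv P' a)
            ⟨z, hz, hz2, hz1⟩
          exact congrArg (fun w : inv P' a => ((w : M) : Cfsg.Sz F m)) this
      · rintro _ ⟨x, hx, rfl⟩
        exact hx
    intro R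
    obtain ⟨g, hg⟩ := MulAction.exists_smul_eq M S R
    have e1 := (P' a).equivMapOfInjective M.subtype M.subtype_injective
    have e2 : S ≃* R := by
      rw [← hg]
      exact Sylow.equivSMul S g
    have hcS : IsCyclic S := by
      rw [hS]
      exact isCyclic_of_surjective e1.symm.toMonoidHom e1.symm.surjective
    exact isCyclic_of_surjective e2.toMonoidHom e2.surjective
  have h3 : ¬ 3 ∣ Nat.card M := fun h' =>
    three_not_dvd hm hF (h'.trans (Subgroup.card_subgroup_dvd_card M))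
  obtain ⟨K, iK, iK', k, hk, hKc, ⟨e⟩, hinv⟩ := SzRankOne.classify h h2 h3 ha hi
  obtain ⟨b, hb, hab⟩ : ∃ b ∈ pts P', a ≠ b := by
    obtain ⟨c, hc, d, hd, hcd⟩ := h2
    by_cases hca : a = c
    · exact ⟨d, hd, fun hda => hcd (hca.symm.trans hda)⟩
    · exact ⟨c, hc, hca⟩
  -- divisibility
  have hdvd : 2 ^ (2 * k + 1) - 1 ∣ 2 ^ (2 * m + 1) - 1 := by
    have h4 := h.card_two h2 ha hb hab
    have h5 : Nat.card (stabilizer (Cfsg.Sz F m) a ⊓ stabilizer (Cfsg.Sz F m) b : Subgroup (Cfsg.Sz F m))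
        = 2 ^ (2 * m + 1) - 1 := by
      obtain ⟨y, hy1, hy2⟩ := exists_smul_pair hF hab
      rw [← (T_cyclic hm hF).2, ← hy1, ← hy2, MulAction.stabilizer_smul_eq_stabilizer_map_conj,
        MulAction.stabilizer_smul_eq_stabilizer_map_conj,
        ← Subgroup.map_inf_eq _ _ _ (MulAut.conj y).injective]
      exact (Nat.card_congr ((T hF).equivMapOfInjective (MulAut.conj y).toMonoidHom
        (MulAut.conj y).injective).toEquiv).symm
    rw [← hinv, Nat.add_sub_cancel, ← h4, ← h5]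
    have e3 : (stabilizer M a ⊓ stabilizer M b : Subgroup M) =
        (stabilizer (Cfsg.Sz F m) a ⊓ stabilizer (Cfsg.Sz F m) b : Subgroup (Cfsg.Sz F m)).subgroupOf M := by
      ext x
      rfl
    rw [e3]
    apply Subgroup.card_dvd_of_injective
      (f := ((M.subtype).comp ((stabilizer (Cfsg.Sz F m) a ⊓ stabilizer (Cfsg.Sz F m) b :
        Subgroup (Cfsg.Sz F m)).subgroupOf M).subtype).codRestrict _ (fun x => x.2))
    intro x y hxy
    apply Subtype.ext
    apply Subtype.ext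
    have := congrArg (fun w : (stabilizer (Cfsg.Sz F m) a ⊓ stabilizer (Cfsg.Sz F m) b :
      Subgroup (Cfsg.Sz F m)) => (w : Cfsg.Sz F m)) hxy
    exact this
  have hdvd' : 2 * k + 1 ∣ 2 * m + 1 := by
    have h6 := Nat.pow_sub_one_gcd_pow_sub_one 2 (2 * k + 1) (2 * m + 1)
    rw [Nat.gcd_eq_left hdvd] at h6
    have h7 : 2 ^ (2 * k + 1) = 2 ^ ((2 * k + 1).gcd (2 * m + 1)) := by
      have a1 : 1 ≤ 2 ^ (2 * k + 1) := Nat.one_le_two_pow
      have a2 : 1 ≤ 2 ^ ((2 * k + 1).gcd (2 * m + 1)) := Nat.one_le_two_pow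
      omega
    have h8 := Nat.pow_right_injective le_rfl h7
    rw [h8]
    exact Nat.gcd_dvd_right _ _
  have hkm : k < m := by
    have hle : 2 * k + 1 ≤ 2 * m + 1 := Nat.le_of_dvd (by omega) hdvd'
    rcases Nat.lt_or_ge k m with h9 | h9
    · exact h9
    · exfalso
      have hkm' : k = m := by omega
      subst hkm'
      apply hM
      apply Subgroup.eq_top_of_card_eq
      rw [Nat.card_congr e.toEquiv, Cfsg.Agent.S0324.result hm hKc, Cfsg.Agent.S0324.result hm hF]
  exact ⟨K, iK, iK', k, hk, hkm, hKc, hdvd', ⟨e⟩⟩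

end Cfsg.Agent.H101.SzSub
end
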