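import Cfsg.Agent.H129.RealT_m3
import Cfsg.Agent.H296.FFourFix
import Cfsg.Agent.S1068
import Cfsg.Agent.FastGrp
import Cfsg.Agent.Prune
set_option linter.all false
prune_inst 0x7f00000000000000000000000000000000000000000000000000000000000000000000000000000000000000000000000000000000000000000000000000000000000000000000000000000000000000003fffffffffffffffffffffffffffbeffbdffffffff
open scoped Cfsg.Agent.FastGrp

/-!
# `RealOdd` for the large Ree groups

Real elements of `F₄(q)` of order `r` (a prime divisor of `q⁴ - q² + 1`) fixed by the graph-field involution are real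
in the fixed point group.
-/

set_option autoImplicit false

namespace Cfsg.Agent.H101.RO

open Subgroup
open scoped Pointwise

section Gen

variable {G : Type*} [Group G] [Finite G]

/-- every element of order `r` is conjugate into `T` -/
theorem conj_into_torus {T : Subgroup G} (hc : IsCyclic ↥T) {r : ℕ} (hr : r.Prime) (hrT : r ∣ Nat.card ↥T)
    (hcent : ∀ y ∈ T, orderOf y = r → Subgroup.centralizer {y} ≤ T) (x : G) (hx : orderOf x = r) :
    ∃ g : G, g * x * g⁻¹ ∈ T := by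
  classical
  have := Fact.mk hr
  obtain ⟨y, hy⟩ := exists_prime_orderOf_dvd_card' r hrT
  have hy' : orderOf (y : G) = r := by rw [Subgroup.orderOf_coe, hy]
  have hyG : IsPGroup r (zpowers (y : G)) := IsPGroup.of_card (n := 1) (by rw [Nat.card_zpowers, hy', pow_one])
  obtain ⟨P, hP⟩ := hyG.exists_le_sylow
  have hxG : IsPGroup r (zpowers x) := IsPGroup.of_card (n := 1) (by rw [Nat.card_zpowers, hx, pow_one])
  obtain ⟨Q, hQ⟩ := hxG.exists_le_sylow
  obtain ⟨g, hg⟩ := MulAction.exists_smul_eq G Q P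
  have hgx : g * x * g⁻¹ ∈ (P : Subgroup G) := by
    rw [← hg]
    have h1 : ((g • Q : Sylow r G) : Subgroup G) = MulAut.conj g • (Q : Subgroup G) := rfl
    rw [h1]
    exact Subgroup.smul_mem_pointwise_smul x (MulAut.conj g) _ (hQ (mem_zpowers x))
  refine ⟨g, ?_⟩
  -- `P ≤ T`
  have hPT : (P : Subgroup G) ≤ T := by
    -- the centre of `P` lies in `T`
    have hyP : (y : G) ∈ (P : Subgroup G) := hP (mem_zpowers _)
    have hPn : Nontrivial (P : Subgroup G) := ⟨⟨⟨y, hyP⟩, 1, fun h => by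
      have h1 : (y : G) = 1 := congrArg Subtype.val h
      rw [h1, orderOf_one] at hy'
      exact hr.one_lt.ne hy'⟩⟩
    have hZn : Nontrivial (center (P : Subgroup G)) := P.isPGroup'.center_nontrivial
    have hZp : IsPGroup r (center (P : Subgroup G)) := P.isPGroup'.to_subgroup _
    obtain ⟨k, hk⟩ := IsPGroup.iff_card.1 hZp
    have hk0 : k ≠ 0 := by
      rintro rfl
      have h1 := Finite.one_lt_card (α := center (P : Subgroup G))
      rw [hk, pow_zero] at h1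
      exact lt_irrefl _ h1
    obtain ⟨z, hz⟩ := exists_prime_orderOf_dvd_card' (G := center (P : Subgroup G)) r (by
      rw [hk]; exact dvd_pow_self r hk0)
    have hz' : orderOf ((z : (P : Subgroup G)) : G) = r := by
      rw [Subgroup.orderOf_coe, Subgroup.orderOf_coe, hz]
    have hzT : ((z : (P : Subgroup G)) : G) ∈ T := by
      apply hcent _ y.2 hy'
      rw [mem_centralizer_singleton_iff]
      exact congrArg Subtype.val ((mem_center_iff.1 z.2 ⟨y, hyP⟩).symm)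
    intro w hw
    apply hcent _ hzT hz'
    rw [mem_centralizer_singleton_iff]
    exact congrArg Subtype.val (mem_center_iff.1 z.2 ⟨w, hw⟩)
  exact hPT hgx

/-- an involutory automorphism fixing `x` fixes an element inverting `x` -/
theorem exists_fixed_inv {σ : MulAut G} (hσ : σ * σ = 1) {x : G} (hx : σ x = x) (hC : Odd (Nat.card (centralizer ({x} : Set G))))
    (hr : ∃ g : G, g * x * g⁻¹ = x⁻¹) : ∃ g : G, σ g = g ∧ g * x * g⁻¹ = x⁻¹ := by
  classical
  obtain ⟨g₀, hg₀⟩ := hr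
  let S := {g : G // g * x * g⁻¹ = x⁻¹}
  have hcard : Nat.card S = Nat.card (centralizer ({x} : Set G)) := by
    refine Nat.card_congr ⟨fun g => ⟨g₀⁻¹ * g.1, ?_⟩, fun c => ⟨g₀ * c.1, ?_⟩, fun g => ?_, fun c => ?_⟩
    · rw [mem_centralizer_singleton_iff]
      have h1 : g.1 * x = x⁻¹ * g.1 := mul_inv_eq_iff_eq_mul.1 g.2
      have h2 : g₀ * x = x⁻¹ * g₀ := mul_inv_eq_iff_eq_mul.1 hg₀
      calc g₀⁻¹ * g.1 * x = g₀⁻¹ * (g.1 * x) := by group
        _ = g₀⁻¹ * x⁻¹ * g.1 := by rw [h1]; group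
        _ = x * g₀⁻¹ * g.1 := by
          congr 1
          calc g₀⁻¹ * x⁻¹ = g₀⁻¹ * (x⁻¹ * g₀) * g₀⁻¹ := by group
            _ = g₀⁻¹ * (g₀ * x) * g₀⁻¹ := by rw [h2]
            _ = x * g₀⁻¹ := by group
        _ = x * (g₀⁻¹ * g.1) := by group
    · have h1 := mem_centralizer_singleton_iff.1 c.2
      calc g₀ * c.1 * x * (g₀ * c.1)⁻¹ = g₀ * (c.1 * x) * c.1⁻¹ * g₀⁻¹ := by group
        _ = g₀ * (x * c.1) * c.1⁻¹ * g₀⁻¹ := by rw [h1]
        _ = g₀ * x * g₀⁻¹ := by group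
        _ = x⁻¹ := hg₀
    · exact Subtype.ext (by simp)
    · exact Subtype.ext (by simp)
  have : Fintype S := Fintype.ofFinite S
  have hmap : ∀ g : G, g * x * g⁻¹ = x⁻¹ → σ g * x * (σ g)⁻¹ = x⁻¹ := by
    intro g hg
    have := congrArg σ hg
    rwa [map_mul, map_mul, map_inv, map_inv, hx] at this
  have hσ2 : ∀ g, σ (σ g) = g := fun g => by
    rw [← MulAut.mul_apply, hσ, MulAut.one_apply]
  let π : Equiv.Perm S :=
    { toFun := fun g => ⟨σ g.1, hmap g.1 g.2⟩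
      invFun := fun g => ⟨σ g.1, hmap g.1 g.2⟩
      left_inv := fun g => Subtype.ext (hσ2 g.1)
      right_inv := fun g => Subtype.ext (hσ2 g.1) }
  have : Fact (Nat.Prime 2) := ⟨Nat.prime_two⟩
  obtain ⟨a, ha⟩ := Equiv.Perm.exists_fixed_point_of_prime (p := 2) (n := 1) (α := S) (by
    rw [← Nat.card_eq_fintype_card, hcard]
    exact fun h => (Nat.not_even_iff_odd.2 hC) (even_iff_two_dvd.2 h)) (σ := π) (by
      ext g
      rw [pow_one, pow_two]
      exact hσ2 g.1)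
  exact ⟨a.1, congrArg Subtype.val ha, a.2⟩

end Gen

section FFour

open Cfsg Cfsg.Agent.H129 Cfsg.Agent.Nodes.RGDChev Cfsg.Agent.H129.TorusTw Cfsg.Agent.H129.RealT

universe u

/-- the torus of order `q⁴ - q² + 1` of `F₄(q)` -/
theorem f4_torus {F : Type u} [Field F] [Fintype F] {q : ℕ} (hF : Fintype.card F = q) :
    ∃ (r : ℕ) (T : Subgroup ↥(Cfsg.Lie.chevF4.group F)), r.Prime ∧ r ≠ 2 ∧ r ∣ q ^ 4 - q ^ 2 + 1 ∧ IsCyclic ↥T ∧
      r ∣ Nat.card ↥T ∧ Odd (Nat.card ↥T) ∧ (∀ y ∈ T, orderOf y = r → Subgroup.centralizer {y} ≤ T) ∧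
      (∃ y : ↥(Cfsg.Lie.chevF4.group F), ∀ b ∈ T, y * b ^ (q ^ 1) * y⁻¹ = b) ∧ r ∣ (q ^ 1) ^ 6 + 1 := by
  have hq2 : 2 ≤ q := by rw [← hF]; exact Fintype.one_lt_card
  have hp : IsType Cfsg.Lie.chevF4 4 CoxeterMatrix.F₄ := by simp
  have hW : Nat.card CoxeterMatrix.F₄.Group = 1152 :=
    Cfsg.Agent.S1092.result (⟨4, CoxeterMatrix.F₄⟩, 1152) (by simp)
  have : Finite CoxeterMatrix.F₄.Group := Nat.finite_of_card_ne_zero (by rw [hW]; norm_num)
  have h0 : q ^ 2 ≤ q ^ 4 := Nat.pow_le_pow_right (by omega) (by norm_num)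
  have hN : ((q ^ 4 - q ^ 2 + 1 : ℕ) : ℤ) = 1 - (q : ℤ) ^ 2 + (q : ℤ) ^ 4 := by
    push_cast [Nat.cast_sub h0]; ring
  obtain ⟨r, hr, hrq, hr2, hr3, hr5, hr7⟩ := S2373.exists_prime hq2
  have hrN : r ∣ q ^ 4 - q ^ 2 + 1 := by
    have h1 := hrq
    rw [← hN] at h1
    exact Int.natCast_dvd_natCast.1 h1
  have hrW : ¬ r ∣ Nat.card CoxeterMatrix.F₄.Group := by
    rw [hW, show (1152 : ℕ) = 2 ^ 7 * 3 ^ 2 * 5 ^ 0 * 7 ^ 0 by norm_num]
    exact not_dvd_of hr hr2 hr3 hr5 hr7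
  have hG : ∀ s, ¬ (r : ℤ) ∣ Gq DataF4h.B (q : ℤ) (DataF4h.R s) := by
    intro s hs
    rcases DataF4h.dvd_of_G hrq s hs with h1 | h1
    · exact hr.one_lt.ne' (Nat.dvd_one.1 (by exact_mod_cast h1))
    · exact hr2 ((Nat.prime_dvd_prime_iff_eq hr Nat.prime_two).1 (by exact_mod_cast h1))
  obtain ⟨T, h1, h3, h4, h5, h6⟩ := UntwT.untw_T hp CoxeterMatrix.F₄.toCoxeterSystem (by norm_num) hF
    TorusChar.invC_F4 one_ne_zero DataF4h.hA DataF4h.chainOK DataF4h.cycOK DataF4h.rootOK (N := q ^ 4 - q ^ 2 + 1)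
    (by rw [DataF4h.fN_eq, hN]) (UntwData.coprime_of_eq (a := -(q : ℤ) + (q : ℤ) ^ 3) (by rw [hN]; ring)) (d := 1)
    (Or.inl rfl)
  refine ⟨r, T, hr, hr2, hrN, h1, dvd_of_dvd_mul hr hrN (fun h => hr.one_lt.ne' (Nat.dvd_one.1 h)) h4,
    odd_of_dvd h3 ?_, h5 r hr hrW hG, h6 r hr hrN hrW hG, ?_⟩
  · refine (Nat.even_sub h0 |>.2 ?_).add_one
    simp [Nat.even_pow]
  · have h7 : (r : ℤ) ∣ (((q ^ 1) ^ 6 + 1 : ℕ) : ℤ) := by
      push_cast
      have e : ((q : ℤ) ^ 1) ^ 6 + 1 = (1 - (q : ℤ) ^ 2 + (q : ℤ) ^ 4) * (q ^ 2 + 1) := by ring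
      rw [e]
      exact hrq.mul_right _
    exact Int.natCast_dvd_natCast.1 h7

open Cfsg.Agent.H296.FFour in
/-- the graph-field automorphism is an involution -/
theorem sg_sq {F : Type u} [Field F] [Fintype F] [CharP F 2] [PerfectRing F 2] {m : ℕ}
    (hK : Fintype.card F = 2 ^ (2 * m + 1)) {τ : F ≃+* F} (hτ : ∀ a, τ a = a ^ 2 ^ m) : sg τ * sg τ = 1 := by
  apply aut_ext4
  intro r hr t
  rw [MulAut.mul_apply, sg_xS τ hr, sg_xS τ (tab r hr).1, (tab r hr).2.1, MulAut.one_apply]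
  congr 1
  rw [map_pow, ← pow_mul, (tab r hr).2.2, hτ, hτ, ← pow_mul, ← pow_mul]
  have h1 : 2 ^ m * (2 ^ m * 2) = Fintype.card F := by rw [hK]; ring
  rw [h1, FiniteField.pow_card]

open Cfsg.Agent.H296.FFour in
/-- **large Ree groups** -/
theorem twF4_odd_real {F : Type u} [Field F] [Fintype F] {m : ℕ} (hK : Fintype.card F = 2 ^ (2 * m + 1)) :
    RealOdd ↥(Cfsg.Lie.twistedF4 F (2 ^ m)) := by
  classical
  have hch : CharP F 2 := Cfsg.Agent.ChevalleyStructure.TwF4.Twisted.charP_two hK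
  have : Fact (Nat.Prime 2) := ⟨Nat.prime_two⟩
  have : PerfectRing F 2 := inferInstance
  have : Finite ↥(Cfsg.Lie.chevF4.group F) := inferInstance
  let τ : F ≃+* F := iterateFrobeniusEquiv F 2 m
  have hτ : ∀ a, τ a = a ^ 2 ^ m := fun a => iterateFrobeniusEquiv_def F 2 m a
  obtain ⟨r, T, hr, hr2, hrN, hc, hrT, hodd, hcent, ⟨y, hy⟩, hQ⟩ := f4_torus hK
  have := Fact.mk hr
  -- an element of order `r`
  have hrG : r ∣ Nat.card ↥(Cfsg.Lie.twistedF4 F (2 ^ m)) := by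
    rw [Cfsg.Agent.S1068.result hK]
    refine dvd_mul_of_dvd_right ?_ _
    have h1 : (2 ^ (2 * m + 1)) ^ 6 + 1 = ((2 ^ (2 * m + 1)) ^ 1) ^ 6 + 1 := by rw [pow_one]
    rw [h1]
    exact hQ
  obtain ⟨x, hx⟩ := exists_prime_orderOf_dvd_card' r hrG
  obtain ⟨a, ha, haf⟩ := le_fix hK hτ x.2
  have hao : orderOf a = r := by
    rw [← hx, ← Subgroup.orderOf_coe a, ← Subgroup.orderOf_coe x, ha]
  obtain ⟨g, hg⟩ := conj_into_torus hc hr hrT hcent a hao
  have hgo : orderOf (g * a * g⁻¹) = r := by rw [← hao]; exact (MulAut.conj g).orderOf_eq a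
  have hinv := inv_of_act hQ hy hg (by rw [hgo])
  have hreal : ∃ c, c * a * c⁻¹ = a⁻¹ := by
    refine ⟨g⁻¹ * y ^ 6 * g, ?_⟩
    calc g⁻¹ * y ^ 6 * g * a * (g⁻¹ * y ^ 6 * g)⁻¹ = g⁻¹ * (y ^ 6 * (g * a * g⁻¹) * (y ^ 6)⁻¹) * g := by group
      _ = g⁻¹ * (g * a * g⁻¹)⁻¹ * g := by rw [hinv]
      _ = a⁻¹ := by group
  have hCodd : Odd (Nat.card (centralizer ({a} : Set ↥(Cfsg.Lie.chevF4.group F)))) := by
    have h1 := centralizer_eq hc hcent hg hgo
    have h2 : Nat.card (centralizer ({a} : Set ↥(Cfsg.Lie.chevF4.group F))) ∣ Nat.card ↥T := by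
      have h3 : (centralizer ({a} : Set ↥(Cfsg.Lie.chevF4.group F))).map (MulAut.conj g).toMonoidHom ≤ T := by
        rintro _ ⟨c, hc', rfl⟩
        rw [← h1, mem_centralizer_singleton_iff]
        have h4 := mem_centralizer_singleton_iff.1 hc'
        show g * c * g⁻¹ * (g * a * g⁻¹) = g * a * g⁻¹ * (g * c * g⁻¹)
        calc g * c * g⁻¹ * (g * a * g⁻¹) = g * (c * a) * g⁻¹ := by group
          _ = g * (a * c) * g⁻¹ := by rw [h4]
          _ = _ := by group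
      have h5 := Subgroup.card_dvd_of_le h3
      rwa [Nat.card_congr ((centralizer ({a} : Set ↥(Cfsg.Lie.chevF4.group F))).equivMapOfInjective _
        (MulAut.conj g).injective).symm.toEquiv] at h5
    exact odd_of_dvd h2 hodd
  obtain ⟨c, hcf, hci⟩ := exists_fixed_inv (sg_sq hK hτ) haf hCodd hreal
  have hcT := fix_le hK hτ hcf
  refine RealOdd.of_elts hr hr2 le_rfl (x := x) (y := ⟨c, hcT⟩) (by rw [hx, pow_one]) ?_ ?_
  · apply Subtype.ext
    have h1 := congrArg Subtype.val hci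
    show (c : GL Cfsg.Lie.chevF4.Idx F) * x * (c : GL Cfsg.Lie.chevF4.Idx F)⁻¹ = (x : GL Cfsg.Lie.chevF4.Idx F)⁻¹
    rw [← ha]
    exact h1
  · intro t ht htx
    obtain ⟨b, hb, -⟩ := le_fix hK hτ t.2
    have h1 : b ∈ centralizer ({a} : Set ↥(Cfsg.Lie.chevF4.group F)) := by
      rw [mem_centralizer_singleton_iff]
      apply Subtype.ext
      show (b : GL Cfsg.Lie.chevF4.Idx F) * a = a * b
      rw [ha, hb]
      exact congrArg Subtype.val htx
    have h2 : orderOf b = 2 := by rw [← ht, ← Subgroup.orderOf_coe b, ← Subgroup.orderOf_coe t, hb]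
    have h3 := orderOf_dvd_natCard (⟨b, h1⟩ : centralizer ({a} : Set ↥(Cfsg.Lie.chevF4.group F)))
    rw [Subgroup.orderOf_mk, h2] at h3
    exact (Nat.not_even_iff_odd.2 hCodd) (even_iff_two_dvd.2 h3)

theorem twF4_row {G : Type*} [Group G] (h : Cfsg.Lie.Iso2F4 G) : RealOdd G := by
  obtain ⟨K, _, _, m, hm, hK, ⟨e⟩⟩ := h
  exact RealOdd.congr e.symm (twF4_odd_real hK)

end FFour

end Cfsg.Agent.H101.RO
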