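import Cfsg.Agent.H101.RealOdd
import Cfsg.Agent.H463.PairAlt_m3
import Cfsg.Agent.H101.ROOddDim_mg
import Cfsg.Agent.H101.SzGeo
import Cfsg.Agent.OddCyclic.ClaimC.SzIso
import Cfsg.Agent.S1158
import Cfsg.Agent.S1159
import Cfsg.Agent.S1069
import Cfsg.Agent.H101.ROSUnip
import Cfsg.Agent.H101.ROTwF4
import Cfsg.Agent.H129.RealE7_m3
import Cfsg.Agent.FastGrp
import Cfsg.Agent.Prune
set_option linter.all false
prune_inst 0x7f00000000000000000000000000000000000000000000000000000000000000000000000000000000000000000000000000000000000000000000000000000000000000000000000000000000000000003fffffffffffffffffffffffffffbeffbdffffffff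
open scoped Cfsg.Agent.FastGrp

-- part: H101/ROAlt
section
/-!
# Alternating groups

* `alt_row` : `RealOdd` for `5 ≤ n ≤ 41`, `n ≠ 24`; `alt_pair` : `NormPair` for all `n ≥ 5`.
-/

set_option autoImplicit false

namespace Cfsg.Agent.H101.RO

open Equiv Equiv.Perm Subgroup

theorem alt_real {n p k : ℕ} (m : Multiset ℕ) (hp : p.Prime) (hp2 : p ≠ 2) (hk : 1 ≤ k) (hsum : m.sum ≤ n)
    (hodd : ∀ a ∈ m, Odd a) (h2 : ∀ a ∈ m, 2 ≤ a) (hlcm : m.lcm = p ^ k)
    (hnot : m.sum + 1 < n ∨ ¬ ∀ i, m.count i ≤ 1)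
    (hc : ((n - m.sum).factorial * m.prod * ∏ i ∈ m.toFinset, (m.count i).factorial) % 4 = 2) :
    RealOdd (alternatingGroup (Fin n)) := by
  classical
  obtain ⟨σ, hσ⟩ := (exists_with_cycleType_iff (Fin n) (m := m)).2 ⟨by simpa only [_root_.Fintype.card_fin] using hsum, h2⟩
  have hsign : σ ∈ alternatingGroup (Fin n) := by
    rw [mem_alternatingGroup, sign_of_cycleType, hσ]
    apply Even.neg_one_pow
    have : ∀ s : Multiset ℕ, (∀ a ∈ s, Odd a) → Even (s.sum + s.card) := by
      intro s
      induction s using Multiset.induction_on with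
      | empty => intro _; simp only [_root_.Multiset.sum_zero, _root_.Multiset.card_zero, _root_.add_zero, _root_.Even.zero]
      | cons a s ih =>
        intro h
        rw [Multiset.sum_cons, Multiset.card_cons]
        have h1 := h a (Multiset.mem_cons_self a s)
        have h3 := ih fun b hb => h b (Multiset.mem_cons_of_mem hb)
        have e : a + s.sum + (s.card + 1) = (a + 1) + (s.sum + s.card) := by ring
        rw [e]
        exact (h1.add_odd odd_one).add h3
    exact this m hodd
  -- an odd permutation centralising `σ`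
  obtain ⟨τ, hτ, hτs⟩ : ∃ τ : Perm (Fin n), τ * σ = σ * τ ∧ sign τ = -1 := by
    by_contra hcon
    push Not at hcon
    have hle : centralizer ({σ} : Set (Perm (Fin n))) ≤ alternatingGroup (Fin n) := by
      intro τ hτ
      rw [mem_alternatingGroup]
      rcases Int.units_eq_one_or (sign τ) with h | h
      · exact h
      · exact absurd h (hcon τ (mem_centralizer_singleton_iff.1 hτ))
    rcases hnot with h | h
    · have := card_le_of_centralizer_le_alternating hle
      rw [hσ, Fintype.card_fin] at this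
      omega
    · apply h
      rw [← hσ]
      exact count_le_one_of_centralizer_le_alternating hle
  -- the order of the centralizer
  set C := centralizer ({σ} : Set (Perm (Fin n))) with hC
  have hCc : Nat.card C % 4 = 2 := by
    rw [nat_card_centralizer, hσ, Fintype.card_fin]
    exact hc
  let f : C →* ℤˣ := sign.comp C.subtype
  have hrange : f.range = ⊤ := by
    rw [eq_top_iff]
    intro u _
    rcases Int.units_eq_one_or u with rfl | rfl
    · exact one_mem _
    · exact ⟨⟨τ, mem_centralizer_singleton_iff.2 hτ⟩, hτs⟩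
  have hker : Nat.card f.ker * 2 = Nat.card C := by
    have h3 : Nat.card f.range = 2 := by
      rw [hrange, Subgroup.card_top, Nat.card_eq_fintype_card]
      rfl
    rw [← f.ker.card_mul_index, Subgroup.index_ker, h3]
  have hcard : Nat.card (centralizer ({⟨σ, hsign⟩} : Set (alternatingGroup (Fin n)))) = Nat.card f.ker := by
    refine Nat.card_congr ⟨fun g => ⟨⟨g.1.1, ?_⟩, ?_⟩, fun g => ⟨⟨g.1.1, ?_⟩, ?_⟩, fun _ => rfl, fun _ => rfl⟩
    · have h := mem_centralizer_singleton_iff.1 g.2
      rw [hC, mem_centralizer_singleton_iff]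
      exact congrArg Subtype.val h
    · exact g.1.2
    · exact g.2
    · have h := mem_centralizer_singleton_iff.1 g.1.2
      rw [mem_centralizer_singleton_iff]
      exact Subtype.ext h
  refine ⟨⟨σ, hsign⟩, p, k, hp, hp2, hk, ?_, ?_, ?_⟩
  · rw [← Subgroup.orderOf_coe]
    show orderOf σ = _
    rw [← lcm_cycleType, hσ, hlcm]
  · have h1 : IsConj σ σ⁻¹ := isConj_iff_cycleType_eq.2 (by rw [cycleType_inv])
    obtain ⟨c, hc'⟩ := isConj_iff.1 h1
    by_cases hcs : c ∈ alternatingGroup (Fin n)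
    · exact isConj_iff.2 ⟨⟨c, hcs⟩, Subtype.ext hc'⟩
    · have hcs' : sign c = -1 := by
        rcases Int.units_eq_one_or (sign c) with h | h
        · exact absurd (mem_alternatingGroup.2 h) hcs
        · exact h
      have hmem : c * τ ∈ alternatingGroup (Fin n) := by
        rw [mem_alternatingGroup, Equiv.Perm.sign_mul, hcs', hτs]
        rfl
      refine isConj_iff.2 ⟨⟨c * τ, hmem⟩, Subtype.ext ?_⟩
      show c * τ * σ * (c * τ)⁻¹ = σ⁻¹
      rw [mul_assoc c, hτ, mul_inv_rev, ← hc']
      group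
  · rw [hcard, Nat.odd_iff]
    omega

theorem alt_seventeen : RealOdd (alternatingGroup (Fin 17)) := by
  classical
  let σ : Perm (Fin 17) := Equiv.addRight 1
  have hcyc : σ = finRotate 17 := by decide +kernel
  have hct : σ.cycleType = {17} := by rw [hcyc]; exact cycleType_finRotate (n := 15)
  have hσ : σ ∈ alternatingGroup (Fin 17) := by
    rw [mem_alternatingGroup, sign_of_cycleType, hct]
    decide
  let c : Perm (Fin 17) := Equiv.neg (Fin 17)
  have hc : c ∈ alternatingGroup (Fin 17) := by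
    rw [mem_alternatingGroup]
    decide +kernel
  have hcσ : c * σ * c⁻¹ = σ⁻¹ := by decide +kernel
  have hC : Nat.card (centralizer ({σ} : Set (Perm (Fin 17)))) = 17 := by
    rw [nat_card_centralizer, hct, Fintype.card_fin]
    decide +kernel
  refine ⟨⟨σ, hσ⟩, 17, 1, by norm_num, by norm_num, le_rfl, ?_, ?_, ?_⟩
  · rw [← Subgroup.orderOf_coe]
    show orderOf σ = _
    rw [← lcm_cycleType, hct]
    decide +kernel
  · exact isConj_iff.2 ⟨⟨c, hc⟩, Subtype.ext hcσ⟩
  · have h1 : Nat.card (centralizer ({⟨σ, hσ⟩} : Set (alternatingGroup (Fin 17)))) ∣ 17 := by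
      refine Dvd.dvd.trans ?_ (dvd_of_eq hC)
      have h2 : (centralizer ({⟨σ, hσ⟩} : Set (alternatingGroup (Fin 17)))).map (alternatingGroup (Fin 17)).subtype ≤
          centralizer ({σ} : Set (Perm (Fin 17))) := by
        rintro _ ⟨g, hg, rfl⟩
        have h := mem_centralizer_singleton_iff.1 hg
        rw [mem_centralizer_singleton_iff]
        exact congrArg Subtype.val h
      have h3 := Subgroup.card_dvd_of_le h2
      rwa [Nat.card_congr ((centralizer ({⟨σ, hσ⟩} : Set (alternatingGroup (Fin 17)))).equivMapOfInjective _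
        (alternatingGroup (Fin 17)).subtype_injective).symm.toEquiv] at h3
    exact Odd.of_dvd_nat (by decide) h1

set_option maxRecDepth 4000 in
theorem alt_table {n : ℕ} (h5 : 5 ≤ n) (h41 : n ≤ 41) (h24 : n ≠ 24) : RealOdd (alternatingGroup (Fin n)) := by
  interval_cases n
  · exact alt_real (p := 3) (k := 1) ({3} : Multiset ℕ) (by norm_num) (by norm_num) (by norm_num) (by decide) (by decide)
      (by decide) (by decide +kernel) (Or.inl (by decide)) (by decide +kernel)
  · exact alt_real (p := 3) (k := 1) ({3} : Multiset ℕ) (by norm_num) (by norm_num) (by norm_num) (by decide) (by decide)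
      (by decide) (by decide +kernel) (Or.inl (by decide)) (by decide +kernel)
  · exact alt_real (p := 3) (k := 1) ({3, 3} : Multiset ℕ) (by norm_num) (by norm_num) (by norm_num) (by decide) (by decide)
      (by decide) (by decide +kernel) (Or.inr fun h => absurd (h 3) (by decide)) (by decide +kernel)
  · exact alt_real (p := 5) (k := 1) ({5} : Multiset ℕ) (by norm_num) (by norm_num) (by norm_num) (by decide) (by decide)
      (by decide) (by decide +kernel) (Or.inl (by decide)) (by decide +kernel)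
  · exact alt_real (p := 3) (k := 1) ({3, 3, 3} : Multiset ℕ) (by norm_num) (by norm_num) (by norm_num) (by decide) (by decide)
      (by decide) (by decide +kernel) (Or.inr fun h => absurd (h 3) (by decide)) (by decide +kernel)
  · exact alt_real (p := 3) (k := 1) ({3, 3, 3} : Multiset ℕ) (by norm_num) (by norm_num) (by norm_num) (by decide) (by decide)
      (by decide) (by decide +kernel) (Or.inr fun h => absurd (h 3) (by decide)) (by decide +kernel)
  · exact alt_real (p := 3) (k := 2) ({9} : Multiset ℕ) (by norm_num) (by norm_num) (by norm_num) (by decide) (by decide)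
      (by decide) (by decide +kernel) (Or.inl (by decide)) (by decide +kernel)
  · exact alt_real (p := 3) (k := 2) ({9} : Multiset ℕ) (by norm_num) (by norm_num) (by norm_num) (by decide) (by decide)
      (by decide) (by decide +kernel) (Or.inl (by decide)) (by decide +kernel)
  · exact alt_real (p := 11) (k := 1) ({11} : Multiset ℕ) (by norm_num) (by norm_num) (by norm_num) (by decide) (by decide)
      (by decide) (by decide +kernel) (Or.inl (by decide)) (by decide +kernel)
  · exact alt_real (p := 3) (k := 2) ({9, 3} : Multiset ℕ) (by norm_num) (by norm_num) (by norm_num) (by decide) (by decide)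
      (by decide) (by decide +kernel) (Or.inl (by decide)) (by decide +kernel)
  · exact alt_real (p := 3) (k := 2) ({9, 3} : Multiset ℕ) (by norm_num) (by norm_num) (by norm_num) (by decide) (by decide)
      (by decide) (by decide +kernel) (Or.inl (by decide)) (by decide +kernel)
  · exact alt_real (p := 3) (k := 2) ({9, 3, 3} : Multiset ℕ) (by norm_num) (by norm_num) (by norm_num) (by decide) (by decide)
      (by decide) (by decide +kernel) (Or.inr fun h => absurd (h 3) (by decide)) (by decide +kernel)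
  · exact alt_seventeen
  · exact alt_real (p := 3) (k := 2) ({9, 3, 3, 3} : Multiset ℕ) (by norm_num) (by norm_num) (by norm_num) (by decide) (by decide)
      (by decide) (by decide +kernel) (Or.inr fun h => absurd (h 3) (by decide)) (by decide +kernel)
  · exact alt_real (p := 3) (k := 2) ({9, 3, 3, 3} : Multiset ℕ) (by norm_num) (by norm_num) (by norm_num) (by decide) (by decide)
      (by decide) (by decide +kernel) (Or.inr fun h => absurd (h 3) (by decide)) (by decide +kernel)
  · exact alt_real (p := 17) (k := 1) ({17} : Multiset ℕ) (by norm_num) (by norm_num) (by norm_num) (by decide) (by decide)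
      (by decide) (by decide +kernel) (Or.inl (by decide)) (by decide +kernel)
  · exact alt_real (p := 3) (k := 2) ({9, 9, 3} : Multiset ℕ) (by norm_num) (by norm_num) (by norm_num) (by decide) (by decide)
      (by decide) (by decide +kernel) (Or.inr fun h => absurd (h 9) (by decide)) (by decide +kernel)
  · exact alt_real (p := 3) (k := 2) ({9, 9, 3} : Multiset ℕ) (by norm_num) (by norm_num) (by norm_num) (by decide) (by decide)
      (by decide) (by decide +kernel) (Or.inr fun h => absurd (h 9) (by decide)) (by decide +kernel)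
  · exact alt_real (p := 11) (k := 1) ({11, 11} : Multiset ℕ) (by norm_num) (by norm_num) (by norm_num) (by decide) (by decide)
      (by decide) (by decide +kernel) (Or.inr fun h => absurd (h 11) (by decide)) (by decide +kernel)
  · exact absurd rfl h24
  · exact alt_real (p := 23) (k := 1) ({23} : Multiset ℕ) (by norm_num) (by norm_num) (by norm_num) (by decide) (by decide)
      (by decide) (by decide +kernel) (Or.inl (by decide)) (by decide +kernel)
  · exact alt_real (p := 13) (k := 1) ({13, 13} : Multiset ℕ) (by norm_num) (by norm_num) (by norm_num) (by decide) (by decide)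
      (by decide) (by decide +kernel) (Or.inr fun h => absurd (h 13) (by decide)) (by decide +kernel)
  · exact alt_real (p := 3) (k := 2) ({9, 9, 9} : Multiset ℕ) (by norm_num) (by norm_num) (by norm_num) (by decide) (by decide)
      (by decide) (by decide +kernel) (Or.inr fun h => absurd (h 9) (by decide)) (by decide +kernel)
  · exact alt_real (p := 3) (k := 2) ({9, 9, 9} : Multiset ℕ) (by norm_num) (by norm_num) (by norm_num) (by decide) (by decide)
      (by decide) (by decide +kernel) (Or.inr fun h => absurd (h 9) (by decide)) (by decide +kernel)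
  · exact alt_real (p := 3) (k := 3) ({27} : Multiset ℕ) (by norm_num) (by norm_num) (by norm_num) (by decide) (by decide)
      (by decide) (by decide +kernel) (Or.inl (by decide)) (by decide +kernel)
  · exact alt_real (p := 3) (k := 3) ({27} : Multiset ℕ) (by norm_num) (by norm_num) (by norm_num) (by decide) (by decide)
      (by decide) (by decide +kernel) (Or.inl (by decide)) (by decide +kernel)
  · exact alt_real (p := 3) (k := 2) ({9, 9, 9, 3} : Multiset ℕ) (by norm_num) (by norm_num) (by norm_num) (by decide) (by decide)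
      (by decide) (by decide +kernel) (Or.inr fun h => absurd (h 9) (by decide)) (by decide +kernel)
  · exact alt_real (p := 3) (k := 3) ({27, 3} : Multiset ℕ) (by norm_num) (by norm_num) (by norm_num) (by decide) (by decide)
      (by decide) (by decide +kernel) (Or.inl (by decide)) (by decide +kernel)
  · exact alt_real (p := 3) (k := 3) ({27, 3, 3} : Multiset ℕ) (by norm_num) (by norm_num) (by norm_num) (by decide) (by decide)
      (by decide) (by decide +kernel) (Or.inr fun h => absurd (h 3) (by decide)) (by decide +kernel)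
  · exact alt_real (p := 3) (k := 3) ({27, 3, 3} : Multiset ℕ) (by norm_num) (by norm_num) (by norm_num) (by decide) (by decide)
      (by decide) (by decide +kernel) (Or.inr fun h => absurd (h 3) (by decide)) (by decide +kernel)
  · exact alt_real (p := 5) (k := 2) ({25, 5, 5} : Multiset ℕ) (by norm_num) (by norm_num) (by norm_num) (by decide) (by decide)
      (by decide) (by decide +kernel) (Or.inr fun h => absurd (h 5) (by decide)) (by decide +kernel)
  · exact alt_real (p := 3) (k := 3) ({27, 3, 3, 3} : Multiset ℕ) (by norm_num) (by norm_num) (by norm_num) (by decide) (by decide)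
      (by decide) (by decide +kernel) (Or.inr fun h => absurd (h 3) (by decide)) (by decide +kernel)
  · exact alt_real (p := 3) (k := 3) ({27, 3, 3, 3} : Multiset ℕ) (by norm_num) (by norm_num) (by norm_num) (by decide) (by decide)
      (by decide) (by decide +kernel) (Or.inr fun h => absurd (h 3) (by decide)) (by decide +kernel)
  · exact alt_real (p := 3) (k := 3) ({27, 9} : Multiset ℕ) (by norm_num) (by norm_num) (by norm_num) (by decide) (by decide)
      (by decide) (by decide +kernel) (Or.inl (by decide)) (by decide +kernel)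
  · exact alt_real (p := 3) (k := 3) ({27, 9} : Multiset ℕ) (by norm_num) (by norm_num) (by norm_num) (by decide) (by decide)
      (by decide) (by decide +kernel) (Or.inl (by decide)) (by decide +kernel)
  · exact alt_real (p := 5) (k := 2) ({25, 5, 5, 5} : Multiset ℕ) (by norm_num) (by norm_num) (by norm_num) (by decide) (by decide)
      (by decide) (by decide +kernel) (Or.inr fun h => absurd (h 5) (by decide)) (by decide +kernel)
  · exact alt_real (p := 5) (k := 2) ({25, 5, 5, 5} : Multiset ℕ) (by norm_num) (by norm_num) (by norm_num) (by decide) (by decide)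
      (by decide) (by decide +kernel) (Or.inr fun h => absurd (h 5) (by decide)) (by decide +kernel)

open Cfsg.Agent.H463.PairAlt in
/-- helper463's pair: a 3-cycle and an even 2-element inverting it -/
theorem alt_normPair {n : ℕ} (hn : 5 ≤ n) : NormPair (alternatingGroup (Fin n)) := by
  obtain ⟨y, hy1, hyk, hf1, hf2, a, b, hab, hya, hyb⟩ := exists_y hn
  obtain ⟨c, hc⟩ : ∃ c, y c = c := by
    by_contra h
    push Not at h
    have : y.support = Finset.univ := by
      ext z
      simp only [h z, _root_.Equiv.Perm.mem_support, _root_.ne_eq, _root_.not_false_eq_true, _root_.Finset.mem_univ]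
    rw [this, Finset.card_univ, Fintype.card_fin] at hf2
    omega
  have hac : a ≠ c := by rintro rfl; exact hab (hc.symm.trans hya)
  have hbc : b ≠ c := by rintro rfl; exact hab (hyb.symm.trans hc)
  have h3 : (swap a b * swap a c).IsThreeCycle := isThreeCycle_swap_mul_swap_same hab hac hbc
  set x : alternatingGroup (Fin n) := ⟨swap a b * swap a c, h3.mem_alternatingGroup⟩ with hx
  set Y : alternatingGroup (Fin n) := ⟨y, mem_alternatingGroup.2 hy1⟩ with hY
  have hxo : orderOf x = 3 := by
    rw [← Subgroup.orderOf_coe]; exact h3.orderOf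
  have hYo : orderOf Y = orderOf y := by rw [← Subgroup.orderOf_coe]
  have hYk : ∃ k : ℕ, orderOf Y = 2 ^ k := by rw [hYo]; exact hyk
  have hconj : Y * x * Y⁻¹ = x⁻¹ := by
    rw [mul_inv_eq_iff_eq_mul]
    apply Subtype.ext
    show y * (swap a b * swap a c) = (swap a b * swap a c)⁻¹ * y
    have h5 : y * swap a b = swap a b * y := by rw [mul_swap_eq_swap_mul, hya, hyb, swap_comm]
    have h6 : y * swap a c = swap b c * y := by rw [mul_swap_eq_swap_mul, hya, hc]
    have h7 : swap a b * swap b c = swap a c * swap a b := by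
      rw [mul_swap_eq_swap_mul, swap_apply_right, swap_apply_of_ne_of_ne hac.symm hbc.symm]
    rw [mul_inv_rev, swap_inv, swap_inv, ← mul_assoc, h5, mul_assoc, h6, ← mul_assoc, h7]
  have hyn : Y ∈ Subgroup.normalizer (Subgroup.zpowers x : Set (alternatingGroup (Fin n))) := by
    rw [Subgroup.mem_normalizer_iff]
    intro g
    constructor
    · rintro ⟨m, rfl⟩
      show Y * x ^ m * Y⁻¹ ∈ _
      rw [← conj_zpow, hconj]
      exact zpow_mem (inv_mem (Subgroup.mem_zpowers x)) m
    · rintro ⟨m, hm⟩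
      refine ⟨-m, ?_⟩
      have h5 : g = Y⁻¹ * x ^ m * Y := by
        have : x ^ m = Y * g * Y⁻¹ := hm
        rw [this]; group
      have h6 : Y⁻¹ * x * Y = x⁻¹ := by
        have h7 : x = Y⁻¹ * x⁻¹ * Y := by rw [← hconj]; group
        have h8 := congrArg (·⁻¹) h7
        simp only [mul_inv_rev, inv_inv] at h8
        rw [← mul_assoc] at h8
        exact h8.symm
      rw [h5]
      have h9 : Y⁻¹ * x ^ m * Y = (Y⁻¹ * x * Y) ^ m := by
        have := conj_zpow (a := Y⁻¹) (b := x) (i := m)
        rw [inv_inv] at this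
        exact this.symm
      show x ^ (-m) = _
      rw [h9, h6, inv_zpow, zpow_neg]
  refine ⟨3, x, Y, Nat.prime_three, by norm_num, ?_, ?_, ⟨1, by rw [hxo, pow_one]⟩, hYk, hyn, ?_⟩
  · intro h
    rw [h, orderOf_one] at hxo
    omega
  · intro h
    have h5 : y = 1 := congrArg Subtype.val h
    apply hab
    rw [← hya, h5]; rfl
  · intro e he
    have hcom : (e⁻¹ x : alternatingGroup (Fin n)) * Y = Y * e⁻¹ x := by
      have h5 := congrArg (fun z => e⁻¹ z) he.eq
      simp only [map_mul] at h5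
      rwa [MulAut.inv_apply_self] at h5
    have hcom' : ((e⁻¹ x : alternatingGroup (Fin n)) : Perm (Fin n)) * y = y * ((e⁻¹ x : alternatingGroup (Fin n)) : Perm (Fin n)) :=
      congrArg Subtype.val hcom
    rcases Nat.lt_or_ge n 7 with h7 | h7
    · have ho : orderOf ((e⁻¹ x : alternatingGroup (Fin n)) : Perm (Fin n)) = 3 := by
        rw [Subgroup.orderOf_coe, ← hxo]
        exact orderOf_injective (e⁻¹ : MulAut _).toMonoidHom (e⁻¹ : MulAut _).injective x
      refine small (by omega) hcom' ?_ ?_ hyk hf1 hf2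
      · rw [← ho]; exact pow_orderOf_eq_one _
      · intro h
        rw [h, orderOf_one] at ho
        omega
    · exact large hcom' (Cfsg.Agent.StandardComponent.AltAut.isThreeCycle_map h7 e⁻¹ h3) hyk hf1

/-- **alternating groups** -/
theorem alt_pair {G : Type*} [Group G] (h : Cfsg.IsAlternating G) : NormPair G := by
  obtain ⟨n, hn, ⟨e⟩⟩ := h
  exact NormPair.congr e.symm (alt_normPair hn)

theorem alt_row {G : Type*} [Group G] (h : Cfsg.IsAlternating G) :
    RealOdd G ∨ ∃ n : ℕ, (42 ≤ n ∨ n = 24) ∧ Nonempty (G ≃* ↥(alternatingGroup (Fin n))) := by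
  obtain ⟨n, hn, ⟨e⟩⟩ := h
  by_cases h : 42 ≤ n ∨ n = 24
  · exact Or.inr ⟨n, h, ⟨e⟩⟩
  · push Not at h
    exact Or.inl (RealOdd.congr e.symm (alt_table hn (by omega) h.2))

end Cfsg.Agent.H101.RO
end

-- part: H101/ROOrthFin
section
/-!
# `RealOdd` for `PΩ^±_{2n}(q)`
-/

set_option autoImplicit false

namespace Cfsg.Agent.H101.RO

open QuadraticMap Matrix Module Cfsg
open Cfsg.Agent.LieClassical.OrthCore Cfsg.Agent.LieClassical.OrthForms
open Cfsg.Agent.H182.Sign Cfsg.Agent.H403.Classify

theorem pomega_sing_plus {F : Type} [Field F] (n : ℕ) (hn : 1 ≤ n) : ∃ u : Fin n ⊕ Fin n → F, u ≠ 0 ∧ plusForm n F u = 0 := by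
  refine ⟨Pi.single (.inl ⟨0, hn⟩) 1, ?_, ?_⟩
  · intro h
    have := congrFun h (.inl ⟨0, hn⟩)
    simp at this
  · rw [coe_plusForm]
    simp only [quadFormPlus, _root_.ne_eq, _root_.reduceCtorEq, _root_.not_false_eq_true, _root_.Pi.single_eq_of_ne, _root_.MulZeroClass.mul_zero, _root_.Finset.sum_const_zero]

theorem pomega_sing_minus {F : Type} [Field F] (n : ℕ) (hn : 1 ≤ n) (a b : F) :
    ∃ u : (Fin n ⊕ Fin n) ⊕ Fin 2 → F, u ≠ 0 ∧ minusForm n F a b u = 0 := by
  refine ⟨Pi.single (.inl (.inl ⟨0, hn⟩)) 1, ?_, ?_⟩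
  · intro h
    have := congrFun h (.inl (.inl ⟨0, hn⟩))
    simp at this
  · rw [coe_minusForm]
    simp only [quadFormMinus, _root_.ne_eq, _root_.Sum.inl.injEq, _root_.reduceCtorEq, _root_.not_false_eq_true, _root_.Pi.single_eq_of_ne, _root_.MulZeroClass.mul_zero, _root_.Finset.sum_const_zero, _root_.Fin.isValue, _root_.OfNat.ofNat_ne_zero, _root_.zero_pow, _root_.add_zero]

/-- **`PΩ⁺_{2n}(q)`** -/
theorem pomegaPlus_row {G : Type*} [Group G] (h : Cfsg.IsPOmegaPlus G) : RealOdd G := by
  classical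
  obtain ⟨F, _, _, n, hn, ⟨e⟩⟩ := h
  refine RealOdd.congr e.symm ?_
  have hsg : Sg (plusForm n F) n 1 := sg_plusForm n
  have hs := pomega_sing_plus (F := F) n (by omega)
  by_cases h2 : (2 : F) = 0
  · have := pomega_even h2 hn hsg hs
    rwa [coe_plusForm] at this
  by_cases hA : (4 : ℤ) ∣ (Nat.card F : ℤ) ^ n - 1
  · have := pomega_odd_torus h2 hn hsg hs hA
    rwa [coe_plusForm] at this
  · have hodd : Odd (Fintype.card F) := by
      have := natCard_odd_of_two h2
      rwa [Nat.card_eq_fintype_card, ← Nat.odd_iff] at this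
    have hneg : ¬ ∃ g : isometryGroup F (⇑(plusForm n F)), g ∈ Omega F (⇑(plusForm n F)) ∧
        ((g : Matrix.GeneralLinearGroup (Fin n ⊕ Fin n) F) : Matrix (Fin n ⊕ Fin n) (Fin n ⊕ Fin n) F) = -1 := by
      rw [coe_plusForm, Cfsg.Agent.S0790.result rfl hodd n (by omega)]
      intro h
      apply hA
      have h1 : (Nat.card F : ℤ) ^ n = ((Fintype.card F ^ n : ℕ) : ℤ) := by
        rw [Nat.card_eq_fintype_card]; push_cast; rfl
      rw [h1]
      omega
    have := pomega_odd_unip h2 (by omega) hsg hs hneg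
    rwa [coe_plusForm] at this

/-- **`PΩ⁻_{2n}(q)`** -/
theorem pomegaMinus_row {G : Type*} [Group G] (h : Cfsg.IsPOmegaMinus G) : RealOdd G := by
  classical
  obtain ⟨F, _, _, n, a, b, hn, hab, ⟨e⟩⟩ := h
  refine RealOdd.congr e.symm ?_
  have hsg : Sg (minusForm (n - 1) F a b) n (-1) := by
    have := sg_minusForm (n - 1) (F := F) (a := a) (b := b) hab
    rwa [Nat.sub_add_cancel (by omega)] at this
  have hs := pomega_sing_minus (F := F) (n - 1) (by omega) a b
  by_cases h2 : (2 : F) = 0
  · have := pomega_even h2 hn hsg hs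
    rwa [coe_minusForm] at this
  by_cases hA : (4 : ℤ) ∣ (Nat.card F : ℤ) ^ n - (-1)
  · have := pomega_odd_torus h2 hn hsg hs hA
    rwa [coe_minusForm] at this
  · have hodd : Odd (Fintype.card F) := by
      have := natCard_odd_of_two h2
      rwa [Nat.card_eq_fintype_card, ← Nat.odd_iff] at this
    have hneg : ¬ ∃ g : isometryGroup F (⇑(minusForm (n - 1) F a b)), g ∈ Omega F (⇑(minusForm (n - 1) F a b)) ∧
        ((g : Matrix.GeneralLinearGroup ((Fin (n - 1) ⊕ Fin (n - 1)) ⊕ Fin 2) F) :
          Matrix ((Fin (n - 1) ⊕ Fin (n - 1)) ⊕ Fin 2) ((Fin (n - 1) ⊕ Fin (n - 1)) ⊕ Fin 2) F) = -1 := by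
      rw [coe_minusForm, Cfsg.Agent.S0791.result rfl hodd n (by omega) a b hab]
      intro h
      apply hA
      have h1 : (Nat.card F : ℤ) ^ n = ((Fintype.card F ^ n : ℕ) : ℤ) := by
        rw [Nat.card_eq_fintype_card]; push_cast; rfl
      rw [h1]
      omega
    have := pomega_odd_unip h2 (by omega) hsg hs hneg
    rwa [coe_minusForm] at this

end Cfsg.Agent.H101.RO
end

-- part: H101/ROSz
section
/-!
# `RealOdd` for the Suzuki groups
-/

set_option autoImplicit false

namespace Cfsg.Agent.H101.RO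

open Subgroup Cfsg.Agent.H101.SzGeo

theorem sz_odd_real {F : Type*} [Field F] [Fintype F] {m : ℕ} (hm : 1 ≤ m) (hF : Fintype.card F = 2 ^ (2 * m + 1)) :
    RealOdd (Cfsg.Sz F m) := by
  classical
  haveI : Finite (Cfsg.Sz F m) := inferInstance
  obtain ⟨hc, hT⟩ := T_cyclic hm hF
  have hq : 2 ^ 3 ≤ 2 ^ (2 * m + 1) := Nat.pow_le_pow_right (by norm_num) (by omega)
  obtain ⟨r, hr, hrd⟩ := Nat.exists_prime_and_dvd (n := 2 ^ (2 * m + 1) - 1) (by omega)
  haveI : Fact r.Prime := ⟨hr⟩
  have hr2 : r ≠ 2 := by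
    rintro rfl
    have h1 : 2 ∣ 2 ^ (2 * m + 1) := dvd_pow_self 2 (by omega)
    omega
  obtain ⟨x, hx⟩ := exists_prime_orderOf_dvd_card' r (show r ∣ Nat.card (T hF) by rw [hT]; exact hrd)
  have hx' : orderOf (x : Cfsg.Sz F m) = r := by rw [Subgroup.orderOf_coe, hx]
  have hx1 : (x : Cfsg.Sz F m) ≠ 1 := by
    intro h
    rw [h, orderOf_one] at hx'
    exact hr.one_lt.ne hx'
  have hmem : ∀ g : Cfsg.Sz F m, g ∈ T hF ↔ g • inf F m = inf F m ∧ g • zer F m = zer F m := fun g => by
    rw [T, Subgroup.mem_inf, MulAction.mem_stabilizer_iff, MulAction.mem_stabilizer_iff]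
  have key : ∀ g : Cfsg.Sz F m, g • inf F m = zer F m → g • zer F m = inf F m →
      ∀ t ∈ zpowers (x : Cfsg.Sz F m), g * t * g⁻¹ ∈ zpowers (x : Cfsg.Sz F m) := by
    intro g h1 h2
    have h1' : g⁻¹ • zer F m = inf F m := by rw [← h1, inv_smul_smul]
    have h2' : g⁻¹ • inf F m = zer F m := by rw [← h2, inv_smul_smul]
    have hcT : ∀ t ∈ T hF, g * t * g⁻¹ ∈ T hF := by
      intro t ht
      rw [hmem] at ht ⊢
      rw [mul_smul, mul_smul, mul_smul, mul_smul, h1', h2', ht.1, ht.2]
      exact ⟨h2, h1⟩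
    let σ : T hF →* T hF :=
      { toFun := fun t => ⟨g * t * g⁻¹, hcT t t.2⟩
        map_one' := Subtype.ext (by simp only [_root_.OneMemClass.coe_one, _root_.mul_one, _root_.mul_inv_cancel])
        map_mul' := fun a b => Subtype.ext (by simp only [mul_assoc, _root_.Subgroup.coe_mul, _root_.MulMemClass.mk_mul_mk, _root_.inv_mul_cancel_left]) }
    obtain ⟨k, hk⟩ := MonoidHom.map_cyclic σ
    have hgx : g * (x : Cfsg.Sz F m) * g⁻¹ = (x : Cfsg.Sz F m) ^ k := by
      have := congrArg Subtype.val (hk x)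
      rwa [Subgroup.coe_zpow] at this
    rintro t ⟨j, rfl⟩
    refine ⟨k * j, ?_⟩
    show (x : Cfsg.Sz F m) ^ (k * j) = g * (x : Cfsg.Sz F m) ^ j * g⁻¹
    rw [zpow_mul, ← hgx, conj_zpow]
  obtain ⟨w, hw1, hw2⟩ := exists_smul_pair hF (a := zer F m) (b := inf F m) inf_ne_zer.symm
  have hw1' : w⁻¹ • zer F m = inf F m := by rw [← hw1, inv_smul_smul]
  have hw2' : w⁻¹ • inf F m = zer F m := by rw [← hw2, inv_smul_smul]
  have hwN : w ∈ normalizer ((zpowers (x : Cfsg.Sz F m) : Subgroup (Cfsg.Sz F m)) : Set (Cfsg.Sz F m)) := by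
    rw [mem_normalizer_iff]
    intro t
    refine ⟨fun ht => key w hw1 hw2 t ht, fun ht => ?_⟩
    have := key w⁻¹ hw2' hw1' _ ht
    have e : w⁻¹ * (w * t * w⁻¹) * w⁻¹⁻¹ = t := by group
    rwa [e] at this
  have hwo : 2 ∣ orderOf w := by
    by_contra hodd
    have h1 : w ^ 2 ∈ T hF := by
      rw [hmem, pow_two, mul_smul, mul_smul, hw1, hw2, hw1]
      exact ⟨rfl, rfl⟩
    have h3 : w ∈ zpowers (w ^ 2) := by
      have hcop : Nat.Coprime (orderOf w) 2 := by
        rw [Nat.coprime_comm, Nat.prime_two.coprime_iff_not_dvd]; exact hodd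
      obtain ⟨k, hk⟩ := exists_pow_eq_self_of_coprime (n := 2) (x := w) hcop.symm
      exact ⟨(k : ℤ), by show (w ^ 2) ^ (k : ℤ) = w; rw [zpow_natCast]; exact hk⟩
    have h4 : w ∈ T hF := (zpowers_le.2 h1) h3
    have h5 := ((hmem w).1 h4).1
    rw [hw1] at h5
    exact inf_ne_zer h5.symm
  refine RealOdd.of_norm_even hr hr2 le_rfl (x := (x : Cfsg.Sz F m)) (by rw [hx', pow_one]) ?_ ?_
  · refine hwo.trans ?_
    have := _root_.orderOf_dvd_natCard (⟨w, hwN⟩ : ↥(normalizer ((zpowers (x : Cfsg.Sz F m) : Subgroup (Cfsg.Sz F m)) :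
      Set (Cfsg.Sz F m))))
    rwa [Subgroup.orderOf_mk] at this
  · rw [T_cent hm hF x.2 hx1, hT, ← Nat.not_even_iff_odd, even_iff_two_dvd]
    have h1 : 2 ∣ 2 ^ (2 * m + 1) := dvd_pow_self 2 (by omega)
    (clear * - hq; omega)

/-- **Suzuki groups** -/
theorem sz_row {G : Type*} [Group G] (h : Cfsg.Lie.IsoSuzuki G) : RealOdd G := by
  obtain ⟨F, _, _, m, hm, hF, ⟨e⟩⟩ := h
  obtain ⟨e'⟩ := Cfsg.Agent.OddCyclic.ClaimC.SzIso.iso hm hF
  exact RealOdd.congr (e'.trans e.symm) (sz_odd_real hm hF)

end Cfsg.Agent.H101.RO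
end

-- part: H101/RORee
section
/-!
# `RealOdd` for the small Ree groups
-/

set_option autoImplicit false

namespace Cfsg.Agent.H101.RO

open Subgroup

theorem ree_odd_real {K : Type*} [Field K] [Fintype K] {m : ℕ} (hm : 1 ≤ m) (hK : Fintype.card K = 3 ^ (2 * m + 1)) :
    RealOdd ↥(Cfsg.Lie.twistedG2 K (3 ^ m)) := by
  classical
  have hA := Cfsg.Agent.S1158.result hm hK
  have hO := Cfsg.Agent.S1159.result hm hK
  have hcard := Cfsg.Agent.S1069.result hK
  obtain ⟨s, hs⟩ : ∃ s, 3 ^ m = s := ⟨_, rfl⟩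
  have hs3 : 3 ≤ s := by
    rw [← hs]
    calc 3 = 3 ^ 1 := rfl
      _ ≤ 3 ^ m := Nat.pow_le_pow_right (by norm_num) hm
  have hsodd : Odd s := by rw [← hs]; exact Odd.pow (by decide)
  have hs3d : 3 ∣ s := by rw [← hs]; exact dvd_pow_self 3 (by omega)
  have hq : 3 ^ (2 * m + 1) = 3 * (s * s) := by rw [← hs]; ring
  have hr : 3 ^ (m + 1) = 3 * s := by rw [← hs]; ring
  rw [hq, hr] at hA hO
  rw [hq] at hcard
  haveI : Finite ↥(Cfsg.Lie.twistedG2 K (3 ^ m)) := by
    apply Nat.finite_of_card_ne_zero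
    rw [hcard]
    have h0 : 0 < 3 * (s * s) := by positivity
    have h1 : 0 < 3 * (s * s) - 1 := by
      have : 9 ≤ s * s := Nat.mul_le_mul hs3 hs3
      omega
    (clear * - hs3 h1; positivity)
  obtain ⟨A, hAc, hAk, hAN, hAA⟩ := hA (3 * (s * s) + 3 * s + 1, 6 * (3 * (s * s) + 3 * s + 1)) (by simp only [_root_.Set.mem_insert_iff, _root_.Prod.mk.injEq, _root_.mul_eq_mul_left_iff, _root_.Nat.add_right_cancel_iff, _root_.Nat.add_eq_left, _root_.mul_eq_zero, _root_.OfNat.ofNat_ne_zero, _root_.false_or, _root_.or_false, _root_.and_self, _root_.Set.mem_singleton_iff, _root_.or_true])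
  simp only at hAk hAN
  obtain ⟨p, hp, hpd⟩ := Nat.exists_prime_and_dvd (n := 3 * (s * s) + 3 * s + 1) (by omega)
  haveI : Fact p.Prime := ⟨hp⟩
  obtain ⟨x, hx⟩ := exists_prime_orderOf_dvd_card' p (show p ∣ Nat.card A by rw [hAk]; exact hpd)
  have hx' : orderOf (x : ↥(Cfsg.Lie.twistedG2 K (3 ^ m))) = p := by rw [Subgroup.orderOf_coe, hx]
  have hx1 : (x : ↥(Cfsg.Lie.twistedG2 K (3 ^ m))) ≠ 1 := by
    intro h
    rw [h, orderOf_one] at hx'
    exact hp.one_lt.ne hx'
  obtain ⟨t, ht⟩ := hsodd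
  -- arithmetic
  have hodd1 : ¬ 2 ∣ 3 * (s * s) + 3 * s + 1 := by
    rw [ht]
    intro h
    obtain ⟨c, hc⟩ := h
    ring_nf at hc
    (clear * - hc; omega)
  have hp2 : p ≠ 2 := fun h => hodd1 (h ▸ hpd)
  have hp3 : p ≠ 3 := by
    rintro rfl
    have h1 : 3 ∣ 3 * (s * s) + 3 * s := Dvd.intro _ (by ring : 3 * (s * s + s) = _)
    have h2 : 3 ∣ 1 := (Nat.dvd_add_right h1).1 hpd
    (clear * - hpd; omega)
  -- no elements of order `2 p`
  have hno : ∀ g : ↥(Cfsg.Lie.twistedG2 K (3 ^ m)), orderOf g ≠ 2 * p := by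
    intro g hg
    have hpz : (p : ℤ) ∣ 3 * ((s : ℤ) * s) + 3 * s + 1 := by exact_mod_cast hpd
    have key : ∀ u : ℤ, (p : ℤ) ∣ u * (3 * ((s : ℤ) * s) + 3 * s + 1) → ∀ v : ℤ, u * (3 * ((s : ℤ) * s) + 3 * s + 1) = v →
      (p : ℤ) ∣ v := fun u h v e => e ▸ h
    rcases (hO (2 * p)).1 ⟨g, hg⟩ with h | h | h | h | h | h
    · have h1 : p ∣ 3 := Nat.dvd_of_mul_dvd_mul_left two_pos (show 2 * p ∣ 2 * 3 from h)
      exact hp3 ((Nat.prime_dvd_prime_iff_eq hp Nat.prime_three).1 h1)
    · have h1 : 2 ∣ 9 := (Dvd.intro _ rfl : 2 ∣ 2 * p).trans h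
      omega
    · -- `p ∣ q - 1`
      have h1 : p ∣ 3 * (s * s) - 1 := (Dvd.intro_left _ rfl : p ∣ 2 * p).trans h
      have h2 : (p : ℤ) ∣ 3 * ((s : ℤ) * s) - 1 := by
        have : ((3 * (s * s) - 1 : ℕ) : ℤ) = 3 * ((s : ℤ) * s) - 1 := by
          have : 1 ≤ 3 * (s * s) := by have : 9 ≤ s * s := Nat.mul_le_mul hs3 hs3; (clear * - this; omega)
          push_cast [Nat.cast_sub this]; ring
        rw [← this]; exact Int.natCast_dvd_natCast.2 h1
      -- difference : 3 s + 2; 3 * (q - 1) = (3s+2)(3s-2) + 1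
      have h3 : (p : ℤ) ∣ 3 * s + 2 := by
        have := Int.dvd_sub hpz h2
        have e : 3 * ((s : ℤ) * s) + 3 * s + 1 - (3 * ((s : ℤ) * s) - 1) = 3 * s + 2 := by ring
        rwa [e] at this
      have h4 : (p : ℤ) ∣ 1 := by
        have h5 := Int.dvd_sub (h2.mul_left 3) (h3.mul_left (3 * s - 2))
        have e : 3 * (3 * ((s : ℤ) * s) - 1) - (3 * s - 2) * (3 * s + 2) = 1 := by ring
        rwa [e] at h5
      exact hp.one_lt.ne' (Nat.dvd_one.1 (by exact_mod_cast h4))
    · -- `p ∣ q + 1`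
      have h1 : p ∣ 3 * (s * s) + 1 := by
        have h5 : p ∣ (3 * (s * s) + 1) / 2 := (Dvd.intro_left _ rfl : p ∣ 2 * p).trans h
        exact h5.trans (Nat.div_dvd_of_dvd (by
          rw [ht]
          exact ⟨6 * (t * t) + 6 * t + 2, by ring⟩))
      have h3 : p ∣ 3 * s := by
        have e : 3 * (s * s) + 3 * s + 1 = (3 * (s * s) + 1) + 3 * s := by ring
        rw [e] at hpd
        exact (Nat.dvd_add_right h1).1 hpd
      have h4 : p ∣ s := (hp.dvd_mul.1 h3).resolve_left fun h => hp3 ((Nat.prime_dvd_prime_iff_eq hp Nat.prime_three).1 h)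
      have h5 : p ∣ 3 * (s * s) := dvd_mul_of_dvd_right (dvd_mul_of_dvd_left h4 _) _
      exact hp.one_lt.ne' (Nat.dvd_one.1 ((Nat.dvd_add_right h5).1 h1))
    · have h1 : 2 ∣ 3 * (s * s) - 3 * s + 1 := (Dvd.intro _ rfl : 2 ∣ 2 * p).trans h
      have h2 : 3 * s ≤ 3 * (s * s) := Nat.mul_le_mul_left 3 (Nat.le_mul_self s)
      obtain ⟨c, hc⟩ := h1
      apply hodd1
      exact ⟨c + 3 * s, by (clear * - hc; omega)⟩
    · exact hodd1 ((Dvd.intro _ rfl : 2 ∣ 2 * p).trans h)
  refine RealOdd.of_norm_even hp hp2 le_rfl (x := (x : ↥(Cfsg.Lie.twistedG2 K (3 ^ m)))) (by rw [hx', pow_one]) ?_ ?_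
  · rw [hAA (zpowers (x : ↥(Cfsg.Lie.twistedG2 K (3 ^ m)))) (zpowers_le.2 x.2) (by rwa [Ne, zpowers_eq_bot]), hAN]
    exact Dvd.intro (3 * (3 * (s * s) + 3 * s + 1)) (by ring)
  · refine odd_centralizer fun u hu h => hno (u * x) ?_
    rw [(show Commute u (x : ↥(Cfsg.Lie.twistedG2 K (3 ^ m))) from h).orderOf_mul_eq_mul_orderOf_of_coprime (by
      rw [hu, hx']; exact (Nat.coprime_primes Nat.prime_two hp).2 hp2.symm), hu, hx']

/-- **small Ree groups** -/
theorem ree_row {G : Type*} [Group G] (h : Cfsg.Lie.IsoRee G) : RealOdd G := by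
  obtain ⟨K, _, _, m, hm, hK, ⟨e⟩⟩ := h
  exact RealOdd.congr e.symm (ree_odd_real hm hK)

end Cfsg.Agent.H101.RO
end

-- part: H101/NPLie
section
/-!
# `RealOdd` for the groups of Lie type
-/

set_option autoImplicit false

namespace Cfsg.Agent.H101.RO

open Cfsg Cfsg.Lie

variable {G : Type*} [Group G]

theorem exc_row (h : Lie.IsoChevG2 G ∨ Lie.IsoF4 G ∨ Lie.IsoChevE6 G ∨ Lie.IsoE7 G ∨ Lie.IsoE8 G ∨ Lie.Iso2E6 G ∨
    Lie.Iso3D4 G ∨ Lie.IsoSuzuki G ∨ Lie.IsoRee G ∨ Lie.Iso2F4 G) : RealOdd G := by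
  rcases h with h | h | h | h | h | h | h | h | h | h
  · obtain ⟨F, _, _, hF, ⟨e⟩⟩ := h
    exact RealOdd.congr e.symm (H129.RealT.realOdd_G2 (by omega))
  · obtain ⟨F, _, _, ⟨e⟩⟩ := h
    exact RealOdd.congr e.symm H129.RealT.realOdd_F4
  · obtain ⟨F, _, _, ⟨e⟩⟩ := h
    exact RealOdd.congr e.symm H129.RealT.realOdd_E6
  · obtain ⟨F, _, _, ⟨e⟩⟩ := h
    exact RealOdd.congr e.symm H129.RealT.realOdd_E7
  · obtain ⟨F, _, _, ⟨e⟩⟩ := h
    exact RealOdd.congr e.symm H129.RealT.realOdd_E8
  · obtain ⟨K, _, _, q, hq, hK, ⟨e⟩⟩ := h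
    exact RealOdd.congr e.symm (H129.RealTw.realOdd_E6 hq hK)
  · obtain ⟨K, _, _, q, hq, hK, ⟨e⟩⟩ := h
    exact RealOdd.congr e.symm (H129.RealTw.realOdd_D4 hq hK)
  · exact sz_row h
  · exact ree_row h
  · exact twF4_row h

/-- the known simple groups -/
theorem known_cases (hna : ¬ IsMulCommutative G) (h : IsKnownSimple' G) :
    IsAlternating G ∨ RealOdd G ∨ Lie.IsoTits G ∨ IsSporadicGroup G := by
  rcases h with h | h | h | h | h | h | h | h | h | h
  · exfalso
    apply hna
    have h1 : Fact (Nat.card G).Prime := ⟨h⟩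
    have h2 : IsCyclic G := isCyclic_of_prime_card (p := Nat.card G) rfl
    exact IsCyclic.isMulCommutative
  · exact Or.inl h
  · exact Or.inr (Or.inl (psl_row h))
  · exact Or.inr (Or.inl (psp_row h))
  · exact Or.inr (Or.inl (psu_row h))
  · exact Or.inr (Or.inl (pomegaOdd_row h))
  · exact Or.inr (Or.inl (pomegaPlus_row h))
  · exact Or.inr (Or.inl (pomegaMinus_row h))
  · rcases h with h | h | h | h | h | h | h | h | h | h | h
    · exact Or.inr (Or.inl (exc_row (Or.inl h)))
    · exact Or.inr (Or.inl (exc_row (Or.inr (Or.inl h))))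
    · exact Or.inr (Or.inl (exc_row (Or.inr (Or.inr (Or.inl h)))))
    · exact Or.inr (Or.inl (exc_row (Or.inr (Or.inr (Or.inr (Or.inl h))))))
    · exact Or.inr (Or.inl (exc_row (Or.inr (Or.inr (Or.inr (Or.inr (Or.inl h)))))))
    · exact Or.inr (Or.inl (exc_row (Or.inr (Or.inr (Or.inr (Or.inr (Or.inr (Or.inl h))))))))
    · exact Or.inr (Or.inl (exc_row (Or.inr (Or.inr (Or.inr (Or.inr (Or.inr (Or.inr (Or.inl h)))))))))
    · exact Or.inr (Or.inl (sz_row h))
    · exact Or.inr (Or.inl (ree_row h))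
    · exact Or.inr (Or.inl (twF4_row h))
    · exact Or.inr (Or.inr (Or.inl h))
  · exact Or.inr (Or.inr (Or.inr h))

end Cfsg.Agent.H101.RO
end

private theorem dce_710284c62e9e : _root_.True := by
  try have : _root_.True := by simp only [_root_.Cfsg.Agent.H101.SzGeo.T.eq_1]
  exact _root_.True.intro
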