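import Mathlib
import Cfsg.Agent.OddOrderLocal.CNBasic
set_option linter.all false

-- part: H101/NilpArith
section
/-!
# Arithmetic for the orders of nilpotent subgroups of symmetric groups

`T n = 2 ^ v₂(n!)` is the order of a Sylow `2`-subgroup of the symmetric group of degree `n`,
`f m = ∏_{p ∣ m} p ^ v_p((p ^ v_p(m))!)` bounds the order of a transitive nilpotent group of
degree `m`, and `f m ≤ T m` for `m ≠ 3`.
-/

set_option autoImplicit false

namespace Cfsg.Agent.H101.NilpArith

open Nat

/-- The order of a Sylow `2`-subgroup of the symmetric group of degree `n`. -/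
noncomputable def T (n : ℕ) : ℕ := 2 ^ (n !).factorization 2

theorem T_pos (n : ℕ) : 0 < T n := pow_pos two_pos _

theorem le_T_of_dvd {n k : ℕ} (h : 2 ^ k ∣ n !) : 2 ^ k ≤ T n :=
  Nat.pow_le_pow_right two_pos
    ((Nat.prime_two.pow_dvd_iff_le_factorization (Nat.factorial_ne_zero n)).1 h)

theorem T_mono {a b : ℕ} (h : a ≤ b) : T a ≤ T b :=
  Nat.pow_le_pow_right two_pos
    ((Nat.factorization_le_iff_dvd (Nat.factorial_ne_zero a) (Nat.factorial_ne_zero b)).2
      (Nat.factorial_dvd_factorial h) 2)

theorem T_add (a b : ℕ) : T a * T b ≤ T (a + b) := by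
  unfold T
  rw [← pow_add]
  refine Nat.pow_le_pow_right two_pos ?_
  have h := (Nat.factorization_le_iff_dvd
    (mul_ne_zero (Nat.factorial_ne_zero a) (Nat.factorial_ne_zero b))
    (Nat.factorial_ne_zero (a + b))).2 (Nat.factorial_mul_factorial_dvd_factorial_add a b) 2
  rwa [Nat.factorization_mul (Nat.factorial_ne_zero a) (Nat.factorial_ne_zero b)] at h

theorem T_zero : T 0 = 1 := by simp [T]
theorem T_one : T 1 = 1 := by simp [T]

theorem T_two : 2 ≤ T 2 := by
  have := le_T_of_dvd (n := 2) (k := 1) (by decide)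
  simpa using this
theorem T_four : 8 ≤ T 4 := by
  have := le_T_of_dvd (n := 4) (k := 3) (by decide)
  simpa using this
theorem T_six : 16 ≤ T 6 := by
  have := le_T_of_dvd (n := 6) (k := 4) (by decide)
  simpa using this
theorem T_eight : 128 ≤ T 8 := by
  have := le_T_of_dvd (n := 8) (k := 7) (by decide)
  simpa using this

theorem T_succ_of_odd {n : ℕ} (h : ¬ 2 ∣ (n + 1)) : T (n + 1) = T n := by
  unfold T
  rw [Nat.factorial_succ, Nat.factorization_mul (by omega) (Nat.factorial_ne_zero n),
    Finsupp.add_apply, Nat.factorization_eq_zero_of_not_dvd h, zero_add]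

theorem T_succ_of_two {n : ℕ} (h : (n + 1) % 4 = 2) : T (n + 1) = 2 * T n := by
  unfold T
  have h1 : (n + 1).factorization 2 = 1 := by
    have h2 : 2 ^ 1 ∣ n + 1 := by omega
    have h4 : ¬ 2 ^ 2 ∣ n + 1 := by omega
    rw [Nat.prime_two.pow_dvd_iff_le_factorization (by omega)] at h2 h4
    omega
  rw [Nat.factorial_succ, Nat.factorization_mul (by omega) (Nat.factorial_ne_zero n),
    Finsupp.add_apply, h1, pow_add, pow_one]

theorem T_step_four {n : ℕ} : 8 * T n ≤ T (n + 4) := by
  calc 8 * T n = T n * 8 := by ring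
    _ ≤ T n * T 4 := Nat.mul_le_mul_left _ T_four
    _ ≤ T (n + 4) := T_add n 4

theorem two_pow_le_T (v : ℕ) : 2 ^ v ≤ T (2 * v) := by
  induction v with
  | zero => simp [T]
  | succ v ih =>
    calc 2 ^ (v + 1) = 2 ^ v * 2 := pow_succ _ _
      _ ≤ T (2 * v) * T 2 := Nat.mul_le_mul ih T_two
      _ ≤ T (2 * v + 2) := T_add _ _

theorem succ_le_T {n : ℕ} (h : 4 ≤ n) : n + 1 ≤ T n := by
  induction n using Nat.strong_induction_on with
  | _ n ih =>
    by_cases h8 : 8 ≤ n
    · obtain ⟨m, rfl⟩ : ∃ m, n = m + 4 := ⟨n - 4, by omega⟩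
      have h1 := ih m (by omega) (by omega)
      have h2 := @T_step_four m
      omega
    · have h4 := T_four
      have h6 := T_six
      have h5 := T_mono (a := 4) (b := 5) (by norm_num)
      have h7 := T_mono (a := 6) (b := 7) (by norm_num)
      interval_cases n <;> omega

theorem pow_le_T_mul {p k c : ℕ} (hp : c ≤ T p) : c ^ k ≤ T (p * k) := by
  induction k with
  | zero => simp [T]
  | succ k ih =>
    calc c ^ (k + 1) = c ^ k * c := pow_succ _ _
      _ ≤ T (p * k) * T p := Nat.mul_le_mul ih hp
      _ ≤ T (p * k + p) := T_add _ _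

/-- `3 ^ k ≤ T (2 k)` for `k ≥ 8`. -/
theorem three_pow_le_T {k : ℕ} (h : 8 ≤ k) : 3 ^ k ≤ T (2 * k) := by
  induction k using Nat.strong_induction_on with
  | _ k ih =>
    by_cases h12 : 12 ≤ k
    · obtain ⟨m, rfl⟩ : ∃ m, k = m + 4 := ⟨k - 4, by omega⟩
      have h1 := ih m (by omega) (by omega)
      calc 3 ^ (m + 4) = 3 ^ m * 81 := by ring
        _ ≤ T (2 * m) * T 8 := Nat.mul_le_mul h1 (le_trans (by norm_num) T_eight)
        _ ≤ T (2 * m + 8) := T_add _ _
        _ = T (2 * (m + 4)) := by ring_nf
    · have h16 : 2 ^ 15 ≤ T 16 := le_T_of_dvd (by decide)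
      have h18 : 2 ^ 16 ≤ T 18 := le_T_of_dvd (by decide)
      have h20 : 2 ^ 18 ≤ T 20 := le_T_of_dvd (by decide)
      have h22 : 2 ^ 19 ≤ T 22 := le_T_of_dvd (by decide)
      interval_cases k <;> norm_num at * <;> omega

/-- The exponent bound for a transitive nilpotent group of degree `m`. -/
noncomputable def f (m : ℕ) : ℕ :=
  m.factorization.prod fun p a => p ^ ((p ^ a)!).factorization p

theorem f_one : f 1 = 1 := by simp [f]

theorem f_prime_pow {p : ℕ} (hp : p.Prime) (a : ℕ) :
    f (p ^ a) = p ^ ((p ^ a)!).factorization p := by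
  unfold f
  rw [hp.factorization_pow, Finsupp.prod_single_index]
  simp

theorem f_mul {u v : ℕ} (h : Nat.Coprime u v) : f (u * v) = f u * f v := by
  unfold f
  rw [Nat.factorization_mul_of_coprime h, Finsupp.prod_add_index_of_disjoint]
  simpa [Nat.support_factorization] using h.disjoint_primeFactors

theorem factorization_factorial_prime_mul {p : ℕ} (hp : p.Prime) (n : ℕ) :
    ((p * n)!).factorization p = (n !).factorization p + n := by
  have h := hp.emultiplicity_factorial_mul (n := n)
  have := Fact.mk hp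
  have hfin : ∀ k : ℕ, k ≠ 0 → emultiplicity p k = (k.factorization p : ℕ∞) := fun k hk => by
    rw [Nat.factorization_def k hp, padicValNat_eq_emultiplicity hk]
  rw [hfin _ (Nat.factorial_ne_zero _), hfin _ (Nat.factorial_ne_zero _)] at h
  exact_mod_cast h

theorem f_prime_pow_succ {p : ℕ} (hp : p.Prime) (a : ℕ) :
    f (p ^ (a + 1)) = f (p ^ a) * p ^ (p ^ a) := by
  rw [f_prime_pow hp, f_prime_pow hp, pow_succ' p a, factorization_factorial_prime_mul hp, pow_add]

theorem f_three : f 3 = 3 := by
  have h := f_prime_pow_succ Nat.prime_three 0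
  simpa [f_one] using h

theorem f_nine : f 9 = 81 := by
  have h := f_prime_pow_succ Nat.prime_three 1
  norm_num [f_three] at h
  exact h

/-- Prime powers `≠ 3`. -/
theorem f_prime_pow_le {p : ℕ} (hp : p.Prime) (a : ℕ) (h3 : p ^ a ≠ 3) : f (p ^ a) ≤ T (p ^ a) := by
  by_cases hp2 : p = 2
  · subst hp2
    rw [f_prime_pow hp]
    rfl
  by_cases hp3 : p = 3
  · subst hp3
    induction a with
    | zero => simp [f_one, T_one]
    | succ a ih =>
      by_cases ha0 : a = 0
      · subst ha0; simp at h3
      by_cases ha1 : a = 1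
      · subst ha1
        have h8 : T 8 ≤ T 9 := T_mono (by norm_num)
        have := T_eight
        norm_num [f_nine]
        omega
      · have h9 : 9 ≤ 3 ^ a := by
          calc 9 = 3 ^ 2 := by norm_num
            _ ≤ 3 ^ a := Nat.pow_le_pow_right (by norm_num) (by omega)
        have ih' := ih (by omega)
        rw [f_prime_pow_succ hp]
        calc f (3 ^ a) * 3 ^ 3 ^ a ≤ T (3 ^ a) * T (2 * 3 ^ a) :=
              Nat.mul_le_mul ih' (three_pow_le_T (by omega))
          _ ≤ T (3 ^ a + 2 * 3 ^ a) := T_add _ _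
          _ = T (3 ^ (a + 1)) := by ring_nf
  · have hp5 : 5 ≤ p := by
      by_contra hlt
      have := hp.two_le
      interval_cases p
      · exact hp2 rfl
      · exact hp3 rfl
      · exact absurd hp (by norm_num)
    induction a with
    | zero => simp [f_one, T_one]
    | succ a ih =>
      rw [f_prime_pow_succ hp]
      have ih' : f (p ^ a) ≤ T (p ^ a) := by
        apply ih
        intro h
        by_cases ha : a = 0
        · subst ha; simp at h
        · have h1 : p ^ 1 ≤ p ^ a := Nat.pow_le_pow_right (by omega) (by omega)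
          rw [pow_one] at h1
          omega
      have hle : p ≤ T (p - 1) := by
        have := succ_le_T (n := p - 1) (by omega)
        omega
      calc f (p ^ a) * p ^ p ^ a ≤ T (p ^ a) * T ((p - 1) * p ^ a) :=
            Nat.mul_le_mul ih' (pow_le_T_mul hle)
        _ ≤ T (p ^ a + (p - 1) * p ^ a) := T_add _ _
        _ = T (p ^ (a + 1)) := by
            congr 1
            obtain ⟨q, rfl⟩ : ∃ q, p = q + 1 := ⟨p - 1, by omega⟩
            simp only [Nat.add_sub_cancel]
            ring

theorem add_le_mul' {u v : ℕ} (hu : 2 ≤ u) (hv : 2 ≤ v) : u + v ≤ u * v := by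
  nlinarith

theorem three_T_le {v : ℕ} (hv : 2 ≤ v) : 3 * T v ≤ T (3 * v) := by
  have h1 : 4 ≤ T (2 * v) := by
    calc 4 = 2 ^ 2 := by norm_num
      _ ≤ 2 ^ v := Nat.pow_le_pow_right (by norm_num) hv
      _ ≤ T (2 * v) := two_pow_le_T v
  calc 3 * T v ≤ T (2 * v) * T v := Nat.mul_le_mul_right _ (by omega)
    _ ≤ T (2 * v + v) := T_add _ _
    _ = T (3 * v) := by ring_nf

/-- **The transitive bound.** `f m ≤ T m` for `m ≥ 1`, `m ≠ 3`. -/
theorem f_le {m : ℕ} (hm : 1 ≤ m) (h3 : m ≠ 3) : f m ≤ T m := by
  induction m using Nat.recOnPosPrimePosCoprime with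
  | zero => omega
  | one => simp [f_one, T_one]
  | prime_pow p n hp hn => exact f_prime_pow_le hp n h3
  | coprime a b ha hb hab iha ihb =>
    rw [f_mul hab]
    by_cases ha3 : a = 3
    · subst ha3
      have hb3 : b ≠ 3 := by
        rintro rfl
        simp at hab
      calc f 3 * f b ≤ 3 * T b := by
            rw [f_three]; exact Nat.mul_le_mul_left _ (ihb (by omega) hb3)
        _ ≤ T (3 * b) := three_T_le (by omega)
    · by_cases hb3 : b = 3
      · subst hb3
        calc f a * f 3 ≤ T a * 3 := by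
              rw [f_three]; exact Nat.mul_le_mul_right _ (iha (by omega) ha3)
          _ = 3 * T a := by ring
          _ ≤ T (3 * a) := three_T_le (by omega)
          _ = T (a * 3) := by rw [mul_comm]
      · calc f a * f b ≤ T a * T b := Nat.mul_le_mul (iha (by omega) ha3) (ihb (by omega) hb3)
          _ ≤ T (a + b) := T_add _ _
          _ ≤ T (a * b) := T_mono (add_le_mul' (by omega) (by omega))

/-- The maximal order of a nilpotent subgroup of the symmetric group of degree `n`. -/
noncomputable def G (n : ℕ) : ℕ := if n % 4 = 3 then 3 * T (n - 3) else T n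

theorem T_four_mul_add_one (k : ℕ) : T (4 * k + 1) = T (4 * k) :=
  T_succ_of_odd (by omega)

theorem T_four_mul_add_two (k : ℕ) : T (4 * k + 2) = 2 * T (4 * k) := by
  rw [T_succ_of_two (by omega), T_four_mul_add_one]

theorem T_four_mul_add_three (k : ℕ) : T (4 * k + 3) = 2 * T (4 * k) := by
  rw [T_succ_of_odd (by omega), T_four_mul_add_two]

theorem T_le_G (n : ℕ) : T n ≤ G n := by
  unfold G
  split_ifs with h
  · obtain ⟨k, rfl⟩ : ∃ k, n = 4 * k + 3 := ⟨n / 4, by omega⟩
    rw [T_four_mul_add_three]
    have : 4 * k + 3 - 3 = 4 * k := by omega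
    rw [this]
    omega
  · exact le_rfl

theorem T_lt_G {n : ℕ} (h : n % 4 = 3) : T n < G n := by
  unfold G
  rw [if_pos h]
  obtain ⟨k, rfl⟩ : ∃ k, n = 4 * k + 3 := ⟨n / 4, by omega⟩
  rw [T_four_mul_add_three]
  have : 4 * k + 3 - 3 = 4 * k := by omega
  rw [this]
  have := T_pos (4 * k)
  omega

theorem three_G_le {n : ℕ} (hn : 3 ≤ n) : 3 * G (n - 3) ≤ G n := by
  have hcases : ∃ k, n = 4 * k + 3 ∨ n = 4 * k + 4 ∨ n = 4 * k + 5 ∨ n = 4 * k + 6 :=
    ⟨(n - 3) / 4, by omega⟩
  obtain ⟨k, hk⟩ := hcases
  have h4 : 8 * T (4 * k) ≤ T (4 * k + 4) := T_step_four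
  rcases hk with rfl | rfl | rfl | rfl
  · have e : 4 * k + 3 - 3 = 4 * k := by omega
    unfold G
    rw [e, if_neg (by omega), if_pos (by omega)]
  · have e : 4 * k + 4 - 3 = 4 * k + 1 := by omega
    unfold G
    rw [e, if_neg (by omega), if_neg (by omega), T_four_mul_add_one]
    omega
  · have e : 4 * k + 5 - 3 = 4 * k + 2 := by omega
    unfold G
    rw [e, if_neg (by omega), if_neg (by omega), T_four_mul_add_two]
    have := T_mono (a := 4 * k + 4) (b := 4 * k + 5) (by omega)
    omega
  · have e : 4 * k + 6 - 3 = 4 * k + 3 := by omega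
    unfold G
    rw [e, if_pos (by omega), if_neg (by omega)]
    have e' : 4 * k + 3 - 3 = 4 * k := by omega
    have e2 : 4 * k + 6 = 4 * (k + 1) + 2 := by ring
    have e3 : 4 * k + 4 = 4 * (k + 1) := by ring
    rw [e', e2, T_four_mul_add_two, ← e3]
    omega

end Cfsg.Agent.H101.NilpArith
end

-- part: H101/NilpPerm
section
/-!
# Orders of nilpotent permutation groups

* `card_dvd_f`: a transitive nilpotent group of permutations of degree `m` has order dividing
  `f m = ∏ p ^ v_p((p ^ v_p(m))!)`.
* `index_ker_le_T`: if a nilpotent group acts on `n` points without orbits of length `3`, its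
  image in the symmetric group has order at most `T n = 2 ^ v₂(n!)`.
* `index_ker_le_G`: in general the image has order at most `G n`.
* `card_le_G`, `card_le_T` the same for subgroups of `Perm Ω`.
-/

set_option autoImplicit false

namespace Cfsg.Agent.H101.NilpPerm

open Nat MulAction Cfsg.Agent.H101.NilpArith

universe u v

/-- The Sylow subgroups of a transitive nilpotent permutation group. -/
theorem sylow_dvd {N : Type u} {Ω : Type v} [Group N] [Finite N] [hN : Group.IsNilpotent N]
    [MulAction N Ω] [FaithfulSMul N Ω] [IsPretransitive N Ω] [Finite Ω] [Nonempty Ω]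
    {p : ℕ} [hp : Fact p.Prime] (P : Sylow p N) :
    Nat.card P ∣ (p ^ (Nat.card Ω).factorization p)! := by
  obtain ⟨a⟩ := ‹Nonempty Ω›
  have hPn : (P : Subgroup N).Normal := inferInstance
  have hblock : IsBlock N (orbit (P : Subgroup N) a) := IsBlock.orbit_of_normal a
  have hdvd : (orbit (P : Subgroup N) a).ncard ∣ Nat.card Ω :=
    hblock.ncard_dvd_card ⟨a, mem_orbit_self a⟩
  obtain ⟨j, hj⟩ := P.isPGroup'.card_orbit a
  have hcard : (orbit (P : Subgroup N) a).ncard = p ^ j := by
    rw [← Nat.card_coe_set_eq]; exact hj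
  have hj' : j ≤ (Nat.card Ω).factorization p := by
    rw [hcard] at hdvd
    exact (hp.out.pow_dvd_iff_le_factorization (Nat.card_pos).ne').1 hdvd
  have hinj : Function.Injective (MulAction.toPermHom (P : Subgroup N)
      (orbit (P : Subgroup N) a)) := by
    rw [injective_iff_map_eq_one]
    intro k hk
    have hk' : ∀ b ∈ orbit (P : Subgroup N) a, (k : N) • b = b := by
      intro b hb
      have := congrArg (fun σ => ((σ ⟨b, hb⟩ : orbit (P : Subgroup N) a) : Ω)) hk
      simp at this
      exact this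
    have hall : ∀ b : Ω, (k : N) • b = b := by
      intro b
      obtain ⟨n, rfl⟩ := exists_smul_eq N a b
      obtain ⟨x, y, hx, hy, hxy, ⟨e, hxe⟩, hyp⟩ :=
        OddOrderLocal.CNBasic.exists_mul_parts hp.out n
      have hyx : n = y * x := by
        rw [← hxy]
        obtain ⟨s, rfl⟩ := Subgroup.mem_zpowers_iff.1 hx
        obtain ⟨t, rfl⟩ := Subgroup.mem_zpowers_iff.1 hy
        rw [← zpow_add, ← zpow_add, add_comm]
      have hxP : x ∈ (P : Subgroup N) := by
        have hpg : IsPGroup p (Subgroup.zpowers x) := by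
          have := (IsPGroup.iff_card (p := p) (G := Subgroup.zpowers x)).2
          apply this
          obtain ⟨i, _, hi⟩ := (Nat.dvd_prime_pow hp.out).1 (orderOf_dvd_of_pow_eq_one hxe)
          exact ⟨i, by rw [Nat.card_zpowers, hi]⟩
        obtain ⟨Q, hQ⟩ := hpg.exists_le_sylow
        have hu := Sylow.unique_of_normal P hPn
        rw [(hu.uniq P).trans (hu.uniq Q).symm]
        exact hQ (Subgroup.mem_zpowers x)
      have hky : Commute (k : N) y := by
        apply OddOrderLocal.CNBasic.commute_of_coprime_orderOf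
        obtain ⟨i, hi⟩ := (IsPGroup.iff_orderOf.1 P.isPGroup') k
        rw [Subgroup.orderOf_coe, hi]
        exact (Nat.Coprime.pow_left i hyp.symm)
      rw [hyx, ← mul_smul, ← mul_assoc, hky.eq, mul_assoc, mul_smul y, mul_smul (k : N),
        mul_smul y, hk' (x • a) ⟨⟨x, hxP⟩, rfl⟩]
    have : (k : N) = 1 := by
      apply FaithfulSMul.eq_of_smul_eq_smul (α := Ω)
      intro b
      rw [hall, one_smul]
    exact Subtype.ext this
  have h1 : Nat.card P ∣ Nat.card (Equiv.Perm (orbit (P : Subgroup N) a)) :=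
    Subgroup.card_dvd_of_injective _ hinj
  have h2 : Nat.card (orbit (P : Subgroup N) a) = p ^ j := by
    rw [Nat.card_coe_set_eq, hcard]
  rw [Nat.card_perm, h2] at h1
  exact h1.trans (Nat.factorial_dvd_factorial (Nat.pow_le_pow_right hp.out.pos hj'))

/-- **Transitive nilpotent groups.** -/
theorem card_dvd_f {N : Type u} {Ω : Type v} [Group N] [Finite N] [hN : Group.IsNilpotent N]
    [MulAction N Ω] [FaithfulSMul N Ω] [IsPretransitive N Ω] [Finite Ω] [Nonempty Ω] :
    Nat.card N ∣ f (Nat.card Ω) := by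
  have hΩ : Nat.card Ω ≠ 0 := Nat.card_pos.ne'
  have hf0 : f (Nat.card Ω) ≠ 0 := by
    unfold f
    rw [Finsupp.prod]
    exact Finset.prod_ne_zero_iff.2 fun p hp =>
      pow_ne_zero _ (Nat.prime_of_mem_primeFactors (by simpa using hp)).ne_zero
  rw [← Nat.factorization_le_iff_dvd Nat.card_pos.ne' hf0]
  intro p
  by_cases hp : p.Prime
  swap
  · rw [Nat.factorization_eq_zero_of_not_prime _ hp]; exact Nat.zero_le _
  have := Fact.mk hp
  obtain ⟨P⟩ : Nonempty (Sylow p N) := inferInstance
  have h := sylow_dvd (Ω := Ω) P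
  rw [P.card_eq_multiplicity, hp.pow_dvd_iff_le_factorization (Nat.factorial_ne_zero _)] at h
  refine h.trans ?_
  by_cases hpm : p ∣ Nat.card Ω
  · rw [← hp.pow_dvd_iff_le_factorization hf0]
    unfold f
    rw [Finsupp.prod]
    apply Finset.dvd_prod_of_mem (fun q => q ^ ((q ^ (Nat.card Ω).factorization q)!).factorization q)
    rw [Nat.support_factorization]
    exact Nat.mem_primeFactors.2 ⟨hp, hpm, hΩ⟩
  · rw [Nat.factorization_eq_zero_of_not_dvd hpm]
    simp

/-- The image of a nilpotent group on a nonempty transitive set. -/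
theorem index_ker_dvd_f (N : Type u) (Ω : Type v) [Group N] [hN : Group.IsNilpotent N]
    [MulAction N Ω] [IsPretransitive N Ω] [Finite Ω] [Nonempty Ω] :
    (MulAction.toPermHom N Ω).ker.index ∣ f (Nat.card Ω) := by
  rw [Subgroup.index_ker]
  have hnil : Group.IsNilpotent (MulAction.toPermHom N Ω).range :=
    Group.nilpotent_of_surjective (MulAction.toPermHom N Ω).rangeRestrict
      (MulAction.toPermHom N Ω).rangeRestrict_surjective
  have htr : IsPretransitive (MulAction.toPermHom N Ω).range Ω := by
    constructor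
    intro a b
    obtain ⟨g, rfl⟩ := exists_smul_eq N a b
    exact ⟨⟨MulAction.toPermHom N Ω g, ⟨g, rfl⟩⟩, rfl⟩
  exact card_dvd_f (N := (MulAction.toPermHom N Ω).range) (Ω := Ω)

theorem index_ker_pos (N : Type u) (Ω : Type v) [Group N] [MulAction N Ω] [Finite Ω] :
    0 < (MulAction.toPermHom N Ω).ker.index := by
  rw [Subgroup.index_ker]
  exact Nat.card_pos

/-- The kernel on `Ω` is the intersection of the kernels on an invariant subset and on its
complement. -/
theorem ker_eq_inf {N : Type u} {Ω : Type v} [Group N] [MulAction N Ω] (s : SubMulAction N Ω) :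
    (MulAction.toPermHom N Ω).ker =
      (MulAction.toPermHom N s).ker ⊓ (MulAction.toPermHom N (sᶜ : SubMulAction N Ω)).ker := by
  ext g
  simp only [Subgroup.mem_inf, MonoidHom.mem_ker]
  constructor
  · intro h
    constructor
    · ext b
      have := congrArg (fun σ => σ (b : Ω)) h
      simpa using this
    · ext b
      have := congrArg (fun σ => σ (b : Ω)) h
      simpa using this
  · rintro ⟨h1, h2⟩
    ext b
    by_cases hb : b ∈ s
    · have := congrArg (fun σ => ((σ ⟨b, hb⟩ : s) : Ω)) h1
      simpa using this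
    · have := congrArg (fun σ => ((σ ⟨b, hb⟩ : (sᶜ : SubMulAction N Ω)) : Ω)) h2
      simpa using this

theorem index_ker_le_mul {N : Type u} {Ω : Type v} [Group N] [MulAction N Ω]
    (s : SubMulAction N Ω) :
    (MulAction.toPermHom N Ω).ker.index ≤
      (MulAction.toPermHom N s).ker.index *
        (MulAction.toPermHom N (sᶜ : SubMulAction N Ω)).ker.index := by
  rw [ker_eq_inf s]
  exact Subgroup.index_inf_le

/-- The orbit of `a` as an invariant subset. -/
def orb (N : Type u) {Ω : Type v} [Group N] [MulAction N Ω] (a : Ω) : SubMulAction N Ω where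
  carrier := orbit N a
  smul_mem' := fun g _ hx => (mem_orbit_of_mem_orbit g hx)

theorem mem_orb {N : Type u} {Ω : Type v} [Group N] [MulAction N Ω] {a b : Ω} :
    b ∈ orb N a ↔ b ∈ orbit N a := Iff.rfl

instance orb_pretransitive (N : Type u) {Ω : Type v} [Group N] [MulAction N Ω] (a : Ω) :
    IsPretransitive N (orb N a) := by
  constructor
  rintro ⟨x, hx⟩ ⟨y, hy⟩
  obtain ⟨g, rfl⟩ := hx
  obtain ⟨h, rfl⟩ := hy
  refine ⟨h * g⁻¹, ?_⟩
  apply Subtype.ext
  simp [mul_smul]

instance orb_nonempty (N : Type u) {Ω : Type v} [Group N] [MulAction N Ω] (a : Ω) :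
    Nonempty (orb N a) := ⟨⟨a, mem_orbit_self a⟩⟩

theorem card_orb (N : Type u) {Ω : Type v} [Group N] [MulAction N Ω] (a : Ω) :
    Nat.card (orb N a) = Nat.card (orbit N a) := rfl

theorem card_add_card_compl {N : Type u} {Ω : Type v} [Group N] [MulAction N Ω] [Finite Ω]
    (s : SubMulAction N Ω) :
    Nat.card s + Nat.card (sᶜ : SubMulAction N Ω) = Nat.card Ω := by
  have h := Set.ncard_add_ncard_compl (s : Set Ω)
  rw [← Nat.card_coe_set_eq, ← Nat.card_coe_set_eq] at h
  exact h

theorem card_orbit_sub {N : Type u} {Ω : Type v} [Group N] [MulAction N Ω]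
    (s : SubMulAction N Ω) (a : s) :
    Nat.card (orbit N a) = Nat.card (orbit N (a : Ω)) := by
  rw [← SubMulAction.val_image_orbit a, Nat.card_coe_set_eq, Nat.card_coe_set_eq,
    Set.ncard_image_of_injective _ Subtype.val_injective]

/-- **No orbit of length `3`.** -/
theorem index_ker_le_T (N : Type u) [Group N] [hN : Group.IsNilpotent N] :
    ∀ (n : ℕ) (Ω : Type v) [Finite Ω] [MulAction N Ω], Nat.card Ω = n →
      (∀ a : Ω, Nat.card (orbit N a) ≠ 3) → (MulAction.toPermHom N Ω).ker.index ≤ T n := by
  intro n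
  induction n using Nat.strong_induction_on with
  | _ n ih =>
    intro Ω _ _ hcard h3
    rcases isEmpty_or_nonempty Ω with hE | ⟨⟨a⟩⟩
    · have : (MulAction.toPermHom N Ω).ker = ⊤ := by
        rw [eq_top_iff]
        intro g _
        rw [MonoidHom.mem_ker]
        exact Subsingleton.elim _ _
      rw [this, Subgroup.index_top]
      exact T_pos n
    · have h1 : (MulAction.toPermHom N (orb N a)).ker.index ≤ T (Nat.card (orb N a)) := by
        refine (Nat.le_of_dvd ?_ (index_ker_dvd_f N (orb N a))).trans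
          (f_le Nat.card_pos (by rw [card_orb]; exact h3 a))
        rcases Nat.eq_zero_or_pos (f (Nat.card (orb N a))) with h0 | h0
        · exfalso
          unfold f at h0
          rw [Finsupp.prod, Finset.prod_eq_zero_iff] at h0
          obtain ⟨p, hp, h⟩ := h0
          exact pow_ne_zero _
            (Nat.prime_of_mem_primeFactors (by simpa using hp)).ne_zero h
        · exact h0
      have hadd := card_add_card_compl (orb N a)
      have hpos : 0 < Nat.card (orb N a) := Nat.card_pos
      have h2 := ih (Nat.card ((orb N a)ᶜ : SubMulAction N Ω)) (by omega)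
        ((orb N a)ᶜ : SubMulAction N Ω) rfl (fun b => by rw [card_orbit_sub]; exact h3 _)
      calc _ ≤ _ := index_ker_le_mul (orb N a)
        _ ≤ T (Nat.card (orb N a)) * T (Nat.card ((orb N a)ᶜ : SubMulAction N Ω)) :=
          Nat.mul_le_mul h1 h2
        _ ≤ T (Nat.card (orb N a) + Nat.card ((orb N a)ᶜ : SubMulAction N Ω)) := T_add _ _
        _ = T n := by rw [hadd, hcard]

/-- The image on an orbit of length `3` has order dividing `3`. -/
theorem index_ker_orb_three {N : Type u} [Group N] [hN : Group.IsNilpotent N] {Ω : Type v}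
    [Finite Ω] [MulAction N Ω] {a : Ω} (h : Nat.card (orbit N a) = 3) :
    (MulAction.toPermHom N (orb N a)).ker.index ∣ 3 := by
  have h1 := index_ker_dvd_f N (orb N a)
  rwa [card_orb, h, f_three] at h1

/-- **The general bound.** -/
theorem index_ker_le_G (N : Type u) [Group N] [hN : Group.IsNilpotent N] :
    ∀ (n : ℕ) (Ω : Type v) [Finite Ω] [MulAction N Ω], Nat.card Ω = n →
      (MulAction.toPermHom N Ω).ker.index ≤ G n := by
  intro n
  induction n using Nat.strong_induction_on with
  | _ n ih =>
    intro Ω _ _ hcard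
    by_cases h3 : ∀ a : Ω, Nat.card (orbit N a) ≠ 3
    · exact (index_ker_le_T N n Ω hcard h3).trans (T_le_G n)
    · push Not at h3
      obtain ⟨a, ha⟩ := h3
      have h1 : (MulAction.toPermHom N (orb N a)).ker.index ≤ 3 :=
        Nat.le_of_dvd (by norm_num) (index_ker_orb_three ha)
      have hadd := card_add_card_compl (orb N a)
      rw [card_orb, ha] at hadd
      have h2 := ih (Nat.card ((orb N a)ᶜ : SubMulAction N Ω)) (by omega)
        ((orb N a)ᶜ : SubMulAction N Ω) rfl
      have he : Nat.card ((orb N a)ᶜ : SubMulAction N Ω) = n - 3 := by omega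
      rw [he] at h2
      calc _ ≤ _ := index_ker_le_mul (orb N a)
        _ ≤ 3 * G (n - 3) := Nat.mul_le_mul h1 h2
        _ ≤ G n := three_G_le (by omega)

theorem index_ker_subgroup {Ω : Type v} (N : Subgroup (Equiv.Perm Ω)) :
    (MulAction.toPermHom N Ω).ker.index = Nat.card N := by
  have : (MulAction.toPermHom N Ω).ker = ⊥ := by
    rw [eq_bot_iff]
    intro g hg
    rw [MonoidHom.mem_ker] at hg
    rw [Subgroup.mem_bot]
    apply Subtype.ext
    ext b
    have := congrArg (fun σ => σ b) hg
    simp at this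
    exact this
  rw [this, Subgroup.index_bot]

/-- **Nilpotent subgroups of symmetric groups, general bound.** -/
theorem card_le_G {Ω : Type v} [Finite Ω] (N : Subgroup (Equiv.Perm Ω))
    (hN : Group.IsNilpotent N) : Nat.card N ≤ G (Nat.card Ω) := by
  rw [← index_ker_subgroup N]
  exact index_ker_le_G N _ Ω rfl

/-- **Nilpotent subgroups of symmetric groups without orbits of length `3`.** -/
theorem card_le_T {Ω : Type v} [Finite Ω] (N : Subgroup (Equiv.Perm Ω))
    (hN : Group.IsNilpotent N) (h3 : ∀ a : Ω, Nat.card (orbit N a) ≠ 3) :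
    Nat.card N ≤ T (Nat.card Ω) := by
  rw [← index_ker_subgroup N]
  exact index_ker_le_T N _ Ω rfl h3

theorem card_sylow_two {Ω : Type v} [Finite Ω] (P : Sylow 2 (Equiv.Perm Ω)) :
    Nat.card P = T (Nat.card Ω) := by
  rw [P.card_eq_multiplicity, Nat.card_perm, T]

end Cfsg.Agent.H101.NilpPerm
end
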