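import Cfsg.Agent.H729.RealBase
import Cfsg.Agent.H729.PairM11
import Cfsg.Agent.H729.PairMathieu
import Cfsg.Agent.H729.PairON
import Cfsg.Agent.H729.PairTable
import Cfsg.Agent.H729.PairHe
import Cfsg.Agent.H385.SpCoTwo
import Cfsg.Agent.H898.J3Cent
import Cfsg.Agent.H836.Main
import Cfsg.Agent.H843.N29
import Cfsg.Agent.H839.SeventeenMain_m3
import Cfsg.Agent.H865.RhoEleven
import Cfsg.Agent.H729.PairTool_m3
import Cfsg.Agent.H547.SelfCent.Tits
import Cfsg.Agent.H393.Iso.TitsJ4
import Cfsg.Agent.Ly.Setup
import Cfsg.Agent.H149.Sp.Small
import Cfsg.Agent.H729.RealHS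
import Cfsg.Agent.H799.RO.CoNine_m3
import Cfsg.Agent.Lib.PackCol
import Cfsg.Agent.H573.Spor.HSFive_m3
import Cfsg.Agent.MFive.FixN
import Cfsg.Agent.H101.RealOdd
import Cfsg.Agent.H153.ZerosMcL
import Cfsg.Agent.H729.PairCo3N
import Cfsg.Agent.H573.Spor.Mathieu
import Cfsg.Agent.H799.RO.SpSix
import Cfsg.Agent.H972.RO
import Cfsg.Agent.H463.PairAlt_m3
import Cfsg.Agent.H729.PairHS
import Cfsg.Agent.H635.Inv.MonFi
import Cfsg.Agent.H713.Spor.MOf
import Cfsg.Agent.MonsterU.Uncond
import Cfsg.Agent.H850.MonSub
import Cfsg.Agent.H101.NPLie
import Cfsg.Agent.H525.RO.BNo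
import Cfsg.Agent.H525.RO.BRow
import Cfsg.Agent.CpAutTThree.MTwelve
import Cfsg.Agent.S0399
import Cfsg.Agent.FastGrp
import Cfsg.Agent.Prune
set_option linter.all false

-- part: H729/RealSpor
section
set_option linter.all false
open scoped Cfsg.Agent.FastGrp

-- part: H729/RealSmall
section
/-!
# `RealOdd` for `M11`, `M22`, `M23`, `M24`, `J1`, `J2`, `Ru`, `Suz`, `He` (S2248, helper729)
-/

set_option autoImplicit false
set_option maxRecDepth 100000

namespace Cfsg.Agent.H729.RealSmall

open Cfsg Cfsg.Agent.H729.PairBase Cfsg.Agent.H729 Subgroup Cfsg.Agent.H101.RO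

variable {K : Type*} [Group K]

theorem m11 (h : Spor.IsoM11 K) : RealOdd K := by
  have hG := Cit.Eleven.isM11 h
  have : Finite K := Nat.finite_of_card_ne_zero (by rw [hG.2]; norm_num)
  have := hG.1
  exact RealBase.of_card_fermat (r := 5) (k := 2) (by norm_num) (by norm_num) (by norm_num)
    (by rw [hG.2]; norm_num) (by rw [hG.2]; norm_num) (by rw [hG.2]; norm_num) (PairM11.noTwo h)

section
open Cfsg.Agent.H729.PairMathieu Cfsg.Agent.SporadicA.MathieuRecog
open Cfsg.Agent.SporadicStructure.M24El Cfsg.Agent.H729.Trans Cfsg.Agent.H729.MData Cfsg.Agent.H729.Count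
open Cfsg.Agent.H729.M24Deg Cfsg.Agent.H729.M22Deg Cfsg.Agent.SporadicA.GolayBase Cfsg.Agent.SporadicA.GolayPerm

theorem real24 : RealOdd M24 := by
  have : IsSimpleGroup M24 := Cfsg.Agent.S0365.result
  refine RealBase.of_card_cent (r := 11) (m := 22256640) (by norm_num) (by norm_num) (by rw [card_M24]) (by norm_num)
    (by norm_num) noTwo24 (fun c => c = 1) ?_ ?_
  · intro x hx c hc
    rw [card_cent_eleven hx] at hc
    omega
  · rintro c rfl e he he1 h2
    have : e ∈ Nat.divisors 10 := Nat.mem_divisors.2 ⟨he, by norm_num⟩
    have h3 : e ∈ ({1, 2, 5, 10} : Finset ℕ) := by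
      have e1 : Nat.divisors 10 = {1, 2, 5, 10} := by decide
      rwa [e1] at this
    simp only [Finset.mem_insert, Finset.mem_singleton] at h3
    omega

theorem real22 : RealOdd Spor.M22 := by
  have : IsSimpleGroup Spor.M22 := Cfsg.Agent.SporadicA.MathieuRecog.simple_M22
  have : Finite Spor.M22 := Nat.finite_of_card_ne_zero (by rw [M22Deg.card_M22]; norm_num)
  exact RealBase.of_card_fermat (r := 5) (k := 2) (by norm_num) (by norm_num) (by norm_num)
    (by rw [M22Deg.card_M22]; norm_num) (by rw [M22Deg.card_M22]; norm_num) (by rw [M22Deg.card_M22]; norm_num) noTwo22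

theorem real23 : RealOdd Spor.M23 := by
  have : IsSimpleGroup Spor.M23 := simple_M23
  have hc := Cfsg.Agent.SporadicA.MathieuRecog.card_M23
  have : Finite Spor.M23 := Nat.finite_of_card_ne_zero (by rw [hc]; norm_num)
  exact RealBase.of_card_fermat (r := 5) (k := 2) (by norm_num) (by norm_num) (by norm_num)
    (by rw [hc]; norm_num) (by rw [hc]; norm_num) (by rw [hc]; norm_num) noTwo23

end

theorem m22 (h : Spor.IsoM22 K) : RealOdd K := by
  obtain ⟨e⟩ := h
  exact real22.congr e.symm

theorem m23 (h : Spor.IsoM23 K) : RealOdd K := by
  obtain ⟨e⟩ := h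
  exact real23.congr e.symm

theorem m24 (h : Spor.IsoM24 K) : RealOdd K := by
  obtain ⟨e⟩ := h
  exact real24.congr e.symm

section
open Cfsg.Agent.H729.PairJ1 Cfsg.Agent.SporadicB.J1.Mat Cfsg.Agent.SporadicB.J1.Data Cfsg.Agent.SporadicB.J1.Main

theorem j1_model : RealOdd Spor.J1 := by
  have hfin := (UGT.EndJ1.Data.exists_dat).some.fin
  refine RealBase.of_two (r := 7) (by norm_num) (by norm_num) (s := ev w1) (t := ev w2) ?_ ?_ ?_
    (noTwo (by norm_num))
  · exact ((rep_ev w1).mul (rep_ev w1)).eq Rep.one (by decide +kernel)
  · exact ((rep_ev w2).mul (rep_ev w2)).eq Rep.one (by decide +kernel)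
  · have : Fact (Nat.Prime 7) := ⟨by norm_num⟩
    refine orderOf_eq_prime ?_ ?_
    · exact (((rep_ev w1).mul (rep_ev w2)).pow 7).eq Rep.one (by decide +kernel)
    · exact ((rep_ev w1).mul (rep_ev w2)).ne Rep.one (by decide +kernel)

end

theorem j1 (h : Spor.IsoJ1 K) : RealOdd K := by
  obtain ⟨e⟩ := h
  exact j1_model.congr e.symm

theorem j2_hundred : RealOdd Cfsg.Agent.SporadicA.J2Hundred.G :=
  RealBase.of_gen (r := 7) (k := 3) (m := 3) (by norm_num) (by norm_num)
    (x := ⟨OddHalf.Table.OutJ2.x, OddHalf.Table.OutJ2.x_mem⟩)
    (f := ⟨OddHalf.Table.OutJ2.f, OddHalf.Table.OutJ2.f_mem⟩)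
    (by rw [Subgroup.orderOf_mk]; exact OddHalf.Table.OutJ2.order_x)
    (Subtype.ext OddHalf.Table.OutJ2.f6) (fun h => OddHalf.Table.OutJ2.f3_ne (congrArg Subtype.val h))
    (Subtype.ext OddHalf.Table.OutJ2.fx)
    (by
      rintro ⟨c, hc⟩ h
      obtain ⟨i, hi⟩ := OddHalf.Table.OutJ2.cent_x hc (congrArg Subtype.val h)
      exact ⟨i, Subtype.ext hi⟩)

theorem j2 (h : Spor.IsoJ2 K) : RealOdd K := by
  obtain ⟨e⟩ := h
  obtain ⟨f⟩ := Cfsg.Agent.J2.HundredGens.J2_iso Cfsg.Agent.S1619.result.2.2.2
  exact j2_hundred.congr (e.trans f).symm

open OddHalf.Table.OutRu in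
theorem ru_model [Finite Cfsg.Agent.SporadicB.RuOrder.H] : RealOdd Cfsg.Agent.SporadicB.RuOrder.H :=
  RealBase.of_gen (r := 29) (k := 4) (m := 7) (by norm_num) (by norm_num) orderOf_x f_pow f_pow7 conj_fx cent_x'

theorem ru [Finite K] (h : Spor.IsoRu K) : RealOdd K := by
  obtain ⟨e⟩ := h
  have : Finite Cfsg.Agent.SporadicB.RuOrder.H := Finite.of_equiv _ (e.trans RuLat.Main.equiv).toEquiv
  exact ru_model.congr (e.trans RuLat.Main.equiv).symm

open OddHalf.Table.OutSuz OddHalf.Table.SuzRep in
theorem suz_model [Finite Spor.Suz] : RealOdd Spor.Suz :=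
  RealBase.of_gen (r := 11) (k := 2) (m := 5) (by norm_num) (by norm_num) order_x f10 f5_ne fx cent_x

theorem suz [Finite K] (h : Spor.IsoSuz K) : RealOdd K := by
  obtain ⟨e⟩ := h
  have : Finite Spor.Suz := Finite.of_equiv _ e.toEquiv
  exact suz_model.congr e.symm

section
open Cfsg.Agent.H729.PairHe

theorem he_model [IsSimpleGroup Spor.He] : RealOdd Spor.He := by
  have hfin : Finite Spor.He := Nat.finite_of_card_ne_zero (by rw [KFacts.He.Classes.card_he]; norm_num)
  refine RealBase.of_card_fermat (r := 17) (k := 4) (by norm_num) (by norm_num) (by norm_num) ?_ ?_ ?_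
    (noTwo (by norm_num) (by norm_num) (by norm_num) (by norm_num)) <;> rw [KFacts.He.Classes.card_he] <;> norm_num

end

theorem he (h : Spor.IsoHe K) : RealOdd K := by
  obtain ⟨e⟩ := h
  have : IsSimpleGroup Spor.He := KFacts.He.Cent.simpleHe
  exact he_model.congr e.symm

end Cfsg.Agent.H729.RealSmall
end

-- part: H729/RealON
section
/-! # `RealOdd` for `ON` (S2248, helper729) -/

set_option autoImplicit false
set_option maxRecDepth 100000

namespace Cfsg.Agent.H729.RealON

open Subgroup Cfsg Cfsg.Spor
open Cfsg.Agent.SporadicB.ON45Word (on)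
open Cfsg.Agent.SporadicB.ON45Sub
open Cfsg.Agent.H729.PairBase Cfsg.Agent.H729.PairON Cfsg.Agent.H101.RO

theorem on_model : RealOdd ON := by
  have hfin := KFacts.ON.OneClass.finite_ON
  obtain ⟨s, t, hs, ht, hst⟩ := PairJ1.exists_nineteen
  obtain ⟨e⟩ := SporadicB.AtlasPres.J1Rec.nonempty_mulEquiv (relJ1 KFacts.ON.OneClass.hs) xA_ne
  have key : ∀ u v : J1, (((e.symm u : Subgroup.closure {xA, xB}) : ON) * ((e.symm v : Subgroup.closure {xA, xB}) : ON))
      = ((e.symm (u * v) : Subgroup.closure {xA, xB}) : ON) := by
    intro u v
    rw [map_mul]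
    rfl
  refine RealBase.of_two (r := 19) (by norm_num) (by norm_num) (s := (e.symm s : ON)) (t := (e.symm t : ON)) ?_ ?_ ?_
    (noTwo (by norm_num))
  · rw [key, hs, map_one]; rfl
  · rw [key, ht, map_one]; rfl
  · rw [key, ← hst, Subgroup.orderOf_coe]
    exact e.symm.orderOf_eq _


theorem on {K : Type*} [Group K] (h : IsoON K) : RealOdd K := by
  obtain ⟨e⟩ := h
  exact on_model.congr e.symm

end Cfsg.Agent.H729.RealON
end

-- part: H729/RealCo2
section
/-! # `RealOdd` for `Co2` (S2248, helper729) -/

set_option autoImplicit false
set_option maxRecDepth 100000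

namespace Cfsg.Agent.H729.RealCo2

open Subgroup hiding mk
open Cfsg Cfsg.Agent.H729.PairBase Cfsg.Agent.H463.Pair Cfsg.Agent.H729.PairCoN Cfsg.Agent.H101.RO
open Cfsg.Agent.SporadicA.GolayBase Cfsg.Agent.SporadicA.GolayPerm
open Cfsg.Agent.SporadicA.Co0Mono hiding mk
open Cfsg.Agent.SporadicA.Co1Simple Cfsg.Agent.Co2Type.Mono
open Cfsg.Agent.SporadicStructure.M24El
open Cfsg.Agent.H729.MData Cfsg.Agent.H729.Count Cfsg.Agent.H729.PairEleven
open Cfsg.Agent.CoOneType.ClosingFacts (mk mk_mul mk_inv exists_mk mk_eq_one mk_eq)

theorem co2_model : RealOdd Spor.Co2 := by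
  have : Finite Spor.Co2 := Finite.of_injective _ toCo0_injective
  have hN : NoTwo Spor.Co2 11 := by
    refine NoTwo.of_one (by norm_num) (by rw [Cfsg.Agent.Schreier.CoTwoStab.card]; norm_num) orderOf_x2 ?_
    intro t ht hc
    have h1 : toCo0 t = 1 := by
      apply eq_one_of_fix
      · rw [← toCo0_xx, ← map_mul, ← map_mul, hc.eq]
      · rw [← map_mul]
        have h2 := pow_orderOf_eq_one t
        rw [ht, pow_two] at h2
        rw [h2, map_one]
      · exact toCo0_smul t
    rw [← map_one toCo0] at h1
    rw [toCo0_injective h1, orderOf_one] at ht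
    norm_num at ht
  have hy2 : mo2 0 R * mo2 0 R = 1 := by
    rw [PairCo2.mul_P okPR okPR, RR, mo2_one]
  refine RealBase.of_inv (x := mo2 0 c11) (y := mo2 0 R) (r := 11) (by norm_num) (by norm_num) orderOf_x2 ?_ hN
  · have h1 : mo2 0 c11 * (mo2 0 R * mo2 0 c11) = mo2 0 R := by
      rw [PairCo2.mul_P okPR okPc, PairCo2.mul_P okPc (okP_pcomp okPR okPc), cRc]
    rw [eq_inv_iff_mul_eq_one]
    have h2 : mo2 0 R * mo2 0 c11 = (mo2 0 c11)⁻¹ * mo2 0 R := by rw [eq_inv_mul_iff_mul_eq]; exact h1
    rw [h2]
    group


theorem co2 {K : Type*} [Group K] (h : Spor.IsoCo2 K) : RealOdd K := by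
  obtain ⟨e⟩ := h
  exact co2_model.congr e.symm

end Cfsg.Agent.H729.RealCo2
end

-- part: H729/RealFi
section
/-! # `RealOdd` for `J3`, `J4`, `Fi22`, `Fi23`, `Fi24'` (S2248, helper729) -/

set_option autoImplicit false
set_option maxRecDepth 100000

namespace Cfsg.Agent.H729.RealFi

open Cfsg Cfsg.Agent.H729.PairBase Subgroup Cfsg.Agent.H101.RO Cfsg.Agent.H463.Pair Cfsg.Agent.H463.Sp

variable {K : Type*} [Group K]

theorem j3 (h : Spor.IsoJ3 K) : RealOdd K := by
  obtain ⟨hs, hcK, -⟩ := H898.J3Cent.base h
  have hfin : Finite K := Nat.finite_of_card_ne_zero (by rw [hcK]; norm_num)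
  have : Fact (Nat.Prime 17) := ⟨by norm_num⟩
  obtain ⟨x, hx⟩ := exists_prime_orderOf_dvd_card' (G := K) 17 (by rw [hcK]; norm_num)
  obtain ⟨h1, h2⟩ := H898.J3Cent.seventeen h hx
  exact RealBase.of_odd_even (r := 17) (by norm_num) (by norm_num) hx (by rw [h1]; norm_num) (by rw [h2]; norm_num)

theorem fi22 (h : Spor.IsoFi22 K) : RealOdd K := by
  obtain ⟨e⟩ := h
  have I := H836.inv_of_iso e
  have hfin : Finite K := I.ctx.finite
  have : Fact (Nat.Prime 13) := ⟨by norm_num⟩
  obtain ⟨x, hx⟩ := exists_prime_orderOf_dvd_card' (G := K) 13 (by rw [I.ctx.card]; norm_num)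
  obtain ⟨h1, h2⟩ := (H836.Main.thirteen_concl e).2 (zpowers x) (by rw [Nat.card_zpowers, hx])
  rw [centralizer_zpowers_eq] at h2
  exact RealBase.of_odd_even (r := 13) (by norm_num) (by norm_num) hx
    (by rw [h2, Nat.card_zpowers, hx]; norm_num) (by rw [h1]; norm_num)

/-- **Criterion.** A subgroup `H` of index 2, `x` of odd prime order, `|C(x)|` odd and `4 ∣ |N(⟨x⟩)|`. -/
theorem of_index_two {G : Type*} [Group G] [Finite G] {H : Subgroup G} (hi : H.index = 2) {r : ℕ} (hr : r.Prime)
    (hr2 : r ≠ 2) {x : G} (hx : orderOf x = r) (hC : ¬ 2 ∣ Nat.card (centralizer ({x} : Set G)))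
    (hN : 4 ∣ Nat.card (normalizer ((zpowers x : Subgroup G) : Set G))) : RealOdd H := by
  classical
  have hr' : ¬ 2 ∣ r := fun h => hr2 ((Nat.prime_dvd_prime_iff_eq Nat.prime_two hr).1 h).symm
  have hxH := mem_of_index_two hi hr' hx
  have hn : H.Normal := Subgroup.normal_of_index_eq_two hi
  set N : Subgroup G := normalizer ((zpowers x : Subgroup G) : Set G) with hNd
  have h1 : H.relIndex N ∣ 2 := hi ▸ Subgroup.relIndex_dvd_index_of_normal H N
  have h2 : Nat.card (H ⊓ N : Subgroup G) * H.relIndex N = Nat.card N := by
    have := Subgroup.card_mul_index (H.subgroupOf N)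
    rw [Subgroup.relIndex]
    rw [← this]
    congr 1
    rw [← Subgroup.subgroupOf_map_subtype]
    exact (Nat.card_congr ((H.subgroupOf N).equivMapOfInjective _ N.subtype_injective).toEquiv).symm
  have h3 : 2 ∣ Nat.card (H ⊓ N : Subgroup G) := by
    rcases (Nat.dvd_prime Nat.prime_two).1 h1 with h | h
    · rw [h, mul_one] at h2
      rw [h2]
      exact (by norm_num : 2 ∣ 4).trans hN
    · rw [h] at h2
      rw [← h2] at hN
      exact Nat.dvd_of_mul_dvd_mul_right (by norm_num : 0 < 2) hN
  have : Fact (Nat.Prime 2) := ⟨Nat.prime_two⟩
  obtain ⟨y, hy⟩ := exists_prime_orderOf_dvd_card' 2 h3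
  have hyH : (y : G) ∈ H := y.2.1
  have hyN : (y : G) ∈ N := y.2.2
  have hx' : orderOf (⟨x, hxH⟩ : H) = r := by rw [Subgroup.orderOf_mk]; exact hx
  refine RealBase.of_odd hr hr2 (x := (⟨x, hxH⟩ : H)) (y := (⟨y, hyH⟩ : H)) hx'
    (by rw [Subgroup.orderOf_mk, Subgroup.orderOf_coe, hy]) ?_ ?_
  · have h4 : (y : G) * x * (y : G)⁻¹ ∈ zpowers x := (Subgroup.mem_normalizer_iff.1 hyN x).1 (mem_zpowers x)
    have h5 := (isOfFinOrder_of_finite x).mem_zpowers_iff_mem_range_orderOf.1 h4
    rw [Finset.mem_image] at h5
    obtain ⟨k, -, hk⟩ := h5
    refine mem_normalizer_of_conj_pow (k := k) (Subtype.ext ?_)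
    exact hk.symm
  · intro u hu hc
    have h4 : Commute (u : G) x := congrArg Subtype.val hc
    exact hC (dvd_card_centralizer (x := (u : G)) (y := x) (r := 2) (by rw [Subgroup.orderOf_coe, hu]) h4)

theorem fi24_model : RealOdd Spor.Fi24' := by
  have : Finite Spor.Fi24 := Cfsg.Agent.R08.FiTwentyFour.finite_Fi24
  refine of_index_two Cfsg.Agent.R08.FiTwentyFour.index_commutator (r := 29) (by norm_num) (by norm_num)
    H843.D29.order ?_ ?_
  · rw [← centralizer_zpowers_eq, H843.D29.main.2]; norm_num
  · rw [H843.D29.main.1]; norm_num

theorem fi24 (h : Spor.IsoFi24' K) : RealOdd K := by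
  obtain ⟨e⟩ := h
  exact fi24_model.congr e.symm

theorem fi23 [Finite K] (h : Spor.IsoFi23 K) : RealOdd K := by
  obtain ⟨e⟩ := h
  have key := H839.Fi23.SC.map_all e.symm H839.Fi23.seventeen_main
  refine RealBase.of_sub (r := 17) (by norm_num) (by norm_num) ?_ ?_ ?_
  · rw [Nat.card_congr e.toEquiv, ← H839.Fi23.card_y17]
    exact Subgroup.card_subgroup_dvd_card _
  · intro P hP
    rw [(key P hP).2, hP]; norm_num
  · intro P hP
    rw [(key P hP).1]; norm_num

theorem j4_model [Finite Spor.J4] : RealOdd Spor.J4 := by
  refine RealBase.of_sub (r := 29) (by norm_num) (by norm_num) ?_ ?_ ?_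
  · obtain ⟨P, hP⟩ := H859.BigNum.exists_sub 29 (by norm_num)
    exact hP ▸ Subgroup.card_subgroup_dvd_card P
  · intro P hP
    rw [(H859.BigNum.data29' hP).1]; norm_num
  · intro P hP
    rw [(H859.BigNum.data29' hP).2]; norm_num

theorem j4 [Finite K] (h : Spor.IsoJ4 K) : RealOdd K := by
  obtain ⟨e⟩ := h
  have : Finite Spor.J4 := Finite.of_equiv K e.toEquiv
  exact j4_model.congr e.symm

end Cfsg.Agent.H729.RealFi
end

-- part: H729/RealTits
section
/-! # `RealOdd` for the Tits group (S2248, helper729) -/

set_option autoImplicit false
set_option maxRecDepth 100000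

namespace Cfsg.Agent.H729.RealTits

open Cfsg Cfsg.Agent.H729.PairBase Subgroup Cfsg.Agent.H101.RO Cfsg.Agent.H547.SelfCent

theorem tits {K : Type*} [Group K] [Finite K] (h : Lie.IsoTits K) : RealOdd K := by
  have hna := H393.Iso.na_tits h
  obtain ⟨e⟩ := h
  obtain ⟨y', t', j', h13, h1, ht, hj⟩ := TitsRow.exists_tits
  obtain ⟨y, rfl⟩ : ∃ y, y' = e y := ⟨e.symm y', (e.apply_symm_apply _).symm⟩
  obtain ⟨j, rfl⟩ : ∃ y, j' = e y := ⟨e.symm j', (e.apply_symm_apply _).symm⟩
  have hj2 : j * y * j⁻¹ = y⁻¹ := e.injective (by simpa using hj)
  have h13' : y ^ 13 = 1 := e.injective (by simpa using h13)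
  have h1' : y ≠ 1 := fun h => h1 (by rw [h, map_one])
  have hy : orderOf y = 13 := orderOf_eq_prime (hp := ⟨by norm_num⟩) h13' h1'
  exact RealOdd.of_elts (x := y) (y := j) (p := 13) (k := 1) (by norm_num) (by norm_num) le_rfl (by rw [hy, pow_one]) hj2
    fun t ht h => hna y t hy ht h.symm

end Cfsg.Agent.H729.RealTits
end

-- part: H729/RealLy
section
/-! # `RealOdd` for `Ly`: two involutions whose product has order 67 (S2248, helper729) -/

set_option autoImplicit false
set_option maxRecDepth 100000

namespace Cfsg.Agent.H729.RealLy

open Cfsg Cfsg.Agent.H729.PairBase Cfsg.Agent.H101.RO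
open Cfsg.Agent.Lib.PackMat Cfsg.Agent.Ly.Data111 Cfsg.Agent.Ly.Pres Cfsg.Agent.Ly.Rep111

/-- the word a z d c d, an element of order 67 -/
def GP : ℕ := 0x20020010010010040010010020010020030010030030030000040010040010040030010040000030010010030020020030030000040000000020030010040040030000040030010030020040030000010020020010040030000020010010020040030040020030020020000020010000010020000040020030010000000040030000020040020030040030040040040040020000000010000020010000030010000020010010020020010030020040020000000040040040020010020000020030030020020020040000020010030030040040000040010000020030010020030020030040040030010010040010030040010010010040010030000040000030040010030020040010040000010010010030040000000030040010010010010000000030040030000000000000030040010010030040010000030010000020000020030000010020030010040000040030000010020000020030010000040030040020030000040030020000020040020040000030040020040010030040020010020040000000040000000000040040000000000020030040030020030000040040000010030000040030020010010040010000000020010000010000040000020020010040040040030010040020040000020040030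0000000400300200300400100300400000300000200400100400400300000400000300400200000200200100100200200200400400100400300400400400400300300000400400400400200000300400400300100100300300100300200400000200300300200100200300100000400300400000300200100200300200000300000100100100000100200100400400200200000400000200400400000300400000400100400300000400000300100300200000300000300000200100200200400100100200100000100000300000000300400300200100400300000000400200300200000100200300100000400300400100400300300100200100400400100400100400300000300000000200400300000100400200200000100100100100400000200400200200300000000100300300300200300000100200300000300400300200000000100300000100000200100200300300100000400000400400100300000200000300200300000200200100400400300000400400100200000300200200100300300200200100300300300400400200300100400400000200200200400200000200000100100300400000300100000400300000200300300200000400100100100300200300000100200100000400300200000000100000200300000300200400000100300000000100300000100000000300000200200100100300000300100300400400400200400100200400200200100400000400300200200300300000300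2000004002004004002002001000000000001002003004004001004002001002001004003002002002004000003002002002003004003000004004002004004002004001003003001004002001003003001004000004002000003000000001001000004000002000003004001003001003001004001003003004001000001002004002003004002002002003001004000000000000000000001001001002003003001000002002001003002003001000003001001002002002001000000001004004000003004003003002001003002002000001000001004001002001000000004003001002000000002001004000000004001003004001001002004004004003004004001003000003003002003000000000000000003003001004004000001001001004001004004001001003003003002002003002002002003003003000000001003000003000003003002001002001003000004002003001001001002000004002004000000002004002001001004000002002003004000002001001004001001000004002004002004003001003003002002004004003000003004003001002001001001004004001004004002003000004004003004001004002003001001002000004003002000001003004001002000000000003001004000002003004003003002004002000004001004001002002002004003001003004004002000003004003001001003002003004004001001001001000000004000000000003004004002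0000020040010020020020030040020030040020020000040000000020020020030010020010040030030000020000040010030040000040000010020030020020030030010020020000040040010040040000010000020010000010040020040020030000010000030040000010020040000000010040030000000030000040020010020030040020040020000030010000020030020030030010010040010020040010000040000000020040030040010020030010010000000040030030000030020000010030000040040020030030000030000010030010030010020030020020040010040040020020030010000040010020020030010010000010010040010010040010030040030000020000000000040010020010040040030020040000010010000020030000020030030020020010030010040040030020020020000000030010040010040030020000020030040000030040020040030020040000020020000010010030000030020040010000000040010040040030010010030040000020010030040040010000030020010040000010010040010020020000020010020000040010020030000000000000000030030040010020020020010020040030040020030030040000010020020010000040040030040010030020010010010030040020030040000040000040010010020000020010010040040020030020040010000020030020030020000020020040030030030020010020020040000020040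0400000400200300300100400200000300300000000000300400400000100300200100300000300400400200200000000000000000300000100000100300400000400100400000400300000400000100400000400200400400300100200400400300300200100100300200400300100000200400100100200400000100000300000400100300000300000300100300400200400400000100400000400000000400000100200400400000200300000100400000100300200300400200400400200400000300200100400200400300200000100100000000000000000200000200000400000400100000200300000300300200300200000400200400400400400000400100000300200200200200300100100400000400100000100100400400000100200400100400400300300000400300200000100300400200200400300300100400400100000200000000400400000400300400400100300400400400100200400000100100000000100000300100100000100400000200400300200000300300200100400200100000400400100200200300200000300300100100300000200100300000400300200400300200100400200100400400400400300400000000200400400300100400300200100200100400100000200000000200100400000000100300400200200200000100200100300100300000200000100400200200000300300000100200100300300100000300200200400100000300400100000100200400400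1002001001001000003002000003001000004004001004002001000000002003002001004003004000001004001000004002001004002001004002002001003002001004004000002004003001003001001002001001002003001002004001000003001003004004004002004001001004004004004001000001001002001001002003003001002003004004000002002002001000002000000002004000004000000000000000000000003001002003003003002001003001003001004003004003003003002004001001000001004003004001003004002001000000004003003004000002002000004001001002004003002002002003001003003001004001004002004001001001001003003001002004004003001004000004000000001000001000003000004001001004000003002001000002000001003003003001000002000002004001001001002004004004004000000001002004003001004003000000000002002002002002002000002002002001000000001002003002001001004002000000003001002003000003004000004004004001000004004000004000004002004002001001000001003000002002003003002000004000003001003000002004004002002003004003002001002000002000004002002000002000000001000000000001000001000000000000000003001002000003002002001002000001004004001003000002004001002002004001002002001002001002000003002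0040030030010040030030040040000030020020030010010030020020040040000040030030010020020010040000000010020030040040010010020040000030020030010010030030000010000040010000030020020000020030030000000000010040020040040010000020020000000000000000030040000030020010020030040030020000010030030010000020030010020020030010010040030040040020030030000010020040010040040000040020040040020020010010010030030010020040030020020000030000020010000030040000040030010040040020000040000020020010020040010000030010020020040040010010020020010020030030020040030020030020030030000000020030020020020000000030040030040030020030000030010020040040000040020000020020030020010010010000040030030040040040020030010030040020000000020000040040040000010030030010010040010010040040010000010040020040000010000010030030020030040010040010040000000030030020010030000000000000000010010040020030000040030010020040030030020000000020040000000000000000000000040020000040040040030030010000000010030010030010020000030040010030000020020020010020040000020020000040000000020010030000010000030020040010040010040030010000030000030040000030020030010040040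0000200400400300100200000400400000200100200000000400300100100400200300400300300000000100200400300000300200400300000000300300200400300400200300100300100000100000400100400400400000000000400000300400300100400000400200200400300400100300200000300400000100200100300300100100000100100200300400100300100200100300200100300400200200300200000100000100200300000000200200000000200200300300400000400100300300200400300200000000400000100300200300200400000400300100200000400400100000200200400200100200200100300400100400300300100000200200400200300000000100400400400000400000300100300400300300200100000200100100400000100200100300300100000400200400100300300400100400300000000100200100400200100300200300100400200300000000100300200100200200200200000300000000400000200300200100100400200100400300400400100200200400300100100400100200400200200300300000300000300400100100100200400300300100100100200200000200400400400400300100100100300400100200200000000000400100400200200400400400000200200200000400400400300300100400300200100400100300200300300400400200000300000000400300000200300000000200300200000000200200300100000000300300100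2003000002002002004000004003003004002002004002002000001002003002002001004001001004001002000000003004000002002004003000000001003000002000004001001000001001000003004002003004001001003001003001001002000004001000002002001004002004001003002002000004003001003001004003001002000002000000004000003000000003004003004002000002000001002004000002001000001004001001001000000000000000002002003001000004000003000002004000004002004001000001001003002000004001000004001003001001001004003004001001000004002004002004004000004004004003001002002003003002002000002002003001000001004003003004003004004004000003003001003000001002004004001001003003004000004002000003004003001002003002003001000000000004002003001003000000000000000000003001001001001000000004000003001002000002002000003004001003003000000004004000004003001002000004004003002004002000002003000002004004002001003002002004001002001001003002004000001003002000003001003004000001003002001000000002003002000003002000002002000004001000002002004002000003002001003001000000000001003004001003000000000000000000002002001002003000000000004003000002002001000002002003000000003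0020010040030030020020000010030040040030010010020030000010000020000040040000020020040020040030000000000020030000020030020030030030000030020040010010010040020030000040020030000000020010040040020040010000040010010020040040010030030040040000000000040000010000000030010040040010000010030040000020020000030020020040010020010010020020010010000030000010040000020010010040030000010000030030040000020040040000000020020010030000040000040000020000030040010000010020030010030040000030030000030040040010030040010020010040040020000020010010010000040020020000030010040000020000020020030040020000030040030000040020040030000000000000010020000030000040030010040040040020010040010030010010030040010020030040000040010010000020000010020010040040030010010040020010020030020020020010010030000030020000000040000020040000000020030030000040010040000020010030020020040030030010010000020020020010010020040000020040010030030020000030020040040040000000020000040040020010040000010010020010010040020010030040020040040040040000030030040040010020030040020000020040010020020030030040030000010040040000010030010040010020040010000020010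0200300100300100100400400200300400300000300100200200000200000400300400200000000000400000400200300000100000000200000100200100300300200200100200300200300100000400100300300000300300100400100200100200000200400300200100200200400300300400100000300400300400100400400100000300300000300200000400000000300400000300100100300300100200000400200000000300300300000100200300100100200000300200400300400300400100300300300200200100100200200000400000000300200300300300000200000400400400200400100200400000000000000200200400100300100200000300400300200400400100300200300000100400100400200400200300300200200300000000100200100000000000400400400400100100000200300100000000300200000200200000300000400400300300200200200400400300100400100200200200100200300400000100300000100000200400200100200300400000100200200400300100100300300000300100300300400200300000300100000400300300000400100300300000400400400400200100000000400200000100000400100300400100200000300200000100000000100100300100100200200000200100100000400400400000300100300200200100100400200200400000100000000200400300000400400200300300000200200300100000300100400100400400200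4000001000004000000002003001003000004002002004001002003002001002003004001001004003000003004002002004002004002001003000001000003001000000003004003001000000002004004001002002002004003004003001000004001004002002003003003000004003004001002003003001003004001001004003004004001002001001001003003004003002000000000002004001004002001003001004001002000003000000002003000000000002004004000001001000000000000000000004004002003003003003001003000002003003003001003004000004001003004004002000004003002004004002002000004002000001002002002002001000002001000003003003003003003002000002004002001003000003004002002000004001000001004001000002000002001001000003003003000000000001003002003000001003004000001001002001004004001000002003002003002000002002002001004001002000001001000001004001004000000000002003001002000004002000001001004003004000001000001002001002003001001001001001003004004000004003000002000002003003003003002000003002001002000002000001003000004003000001004000002000004002000002004003000003003003001000003001004001003001004004000003004000003000004000001003002003002000004004001001001002003001001002000004001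0040020040010030020000000040000010030010030020040010000020020000040010000020040000000010020030020040030000040020040010030000040020000010030020000020000030000020010010010040000030020040000000040030010040030040000000020000000040030000030040010040020030030000000030040030010040000040020010030000000000000000030000030010040040040030000010030000020000040020010010030030030000030010000000010040040000020030040000010010030010000000020010030020010030010010010040030020030030000040020040010030040020030000020030010030040030020000030010020030010020030040010010020030010020000010040020010020030000000010030020020020030010010000030000040010030030020010010030030040000020030000010030010030030020040000030000010000040000030040010000000000000000040020030040000040040030020010000030010010040000040040020010040030000020040030030040040030010010040020000020030030000010000030040020020010040010040030040000040030010040020000010000040020010030030040010030000000010030040000030040030000030010030020000020040020020020010000000000000010040040020040020020000040040030000010030000040020030030040010030000000040020010010030010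0400400400100300400200300200400000100400200300400400400100400400200200200400100000000400100400000400400300400200400300300100300100300000300100000000000100200000400400300400300300000300300300000000000000000000300200100000200100100100200100000300100000100200400400200100300200200300300200000400200300000200000400000000100400100200200300200300200200200200300200400300300300200000300200200100300200300000200000400100400100000100200400200100200200000000200200000000100100400400000300400400100000300200400000100300300100300300100100000200000200200100300400000100400000000200100000200000000100300000200100400000100400000400400100200000300100200400200200400000300200300100000300000400000100200200100200300300400200200400100400000200100200200400100300000400300100200000300300400000100200100000100300000300000100100100400400000000300400100300200200200300400300000100300200400000400200100400400000100300400100300100400200200100300300200100100100300000200200000100000300300200000100300200200000400100100400000100400400400400100200200300000000300300100200100300000000200400200000400000200400300300200200300000200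1001000003004003003000003000001000001004004004002001000000000003003001001003000001002001003001001002002002003002001004004002003004003002001001003001002003002000003000002003000000003000002001002002000002004004004001003003003003004004003001004003004004002004000001000003003001000003003004003002001000002000001003001000004002002000004001000003003002002000002002000004004004002003004000003003004001004004003002003001002002004002003003000001000001001000003002001000000000001000000002003003003002000000004002004000001004000002003002004001002002002001002004003001004001003001000003003001000004004003001003002004002001003001002000002000004004001000001004002002001004001004000002004002001000000000003000001002001003004001001002004004003003004003003001004004004000000000000000000001001003004004004001003003000002004004003001000000002004003000001004001002003000003002001001000001001001003001002000004001002001004002000001000001003003004003004000002003000004003001002002000000003004003000000002004000004003002004002003001004000003003002003004000002001004001004000001002004002004000001003001000001000004001001003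0000030030000030000000030010020010020020010000030040010040040020040020030000040000000020010020040040030040020010040010010030000010040010030010020000030030040000020010030030040020020010020040030000000030020020030020000020020000030030020030000000030000010000030030000040010040010020040030000000010010020020010020000000040000010030040040030030030010030010030000020020040020000010010030030040040000010000000010020020030020020000030040040020020040020010030000020020000010010030010010040000040000030010010000020030000010000030000040000020040010040030010010000020020000020010020000010040040010020040030020000000010040000020000030020030030010040020030020000040040020030020000030000020030040000010010030000030040000040010030000020000040000040010010040040040010020010010030000000000010010040010020030000010000020020000000020000020000030030030020000040010000010040040010030010030030000020000010020020020030010000010030030040010030010010010040030040040010010010030010040040020030010030030030030040020030000030030040040040030030030010010030000000010040020030040020000030020020020040020030040020030040010020040000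0200100400000400400300100100200200000000100000300200200100100100300300200400200000300200000400400400200000200000400200200400000400000300400100100100100200100400400200100400100200100200000000200200300100000100300100200300000000000000000000300300000000100000300400400000400000300400400400000000000200400100200200400400400300300400200100300300100100400000300200200400100000300100400400200400000000100300300200000400100200200000400000100000100200100000000300300400000000300000100000100200100300000100000300200100000300300400400200300400300100400200400400100200000000000000000300000100100400400300400400100200000000100200100400000400200400400300100400400400400200400300000200300400200200300400100000300200000400000100000200200000200400300000100300000100400100100100400400300200400200200400000100000000200400300200300000200400000300000300400400400100100300400400100400200400100200200100400200300000000000000000000000400100100100100300100000100300300200100000100200100000100100400100400300200400200400300400200100200300200200300000300100400100200200200300400100000000000000100100400000400300300100400200400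4000003004002001003004003002004000004002000001004002003004002001002004002003004001004004003000004004004004001003002002004002001003004002000000001003000000002003000004003002002001001001004004000004000003003002000004004001004004003003002000004001001000002001001001000001002003003002003002001003000004002002000003003004001002002000002002002000004002001001000001002001001002001003000003003001002004002003000004004004000001002000004001003002000003001000001003004000004000004000001004001002002003003002002004002002003001002004002000000000003000004000000003003004003003001002004003003003000003002001000003000004003004000004004004004001001003001000000002004002004004002004002000000004002002001000001002003004004003000000003003000004001003001001003000004002000001003000001001000003000000002001002000000000000000000004002002000000003002004001003002001002004000004002003001003001000002002001004002003003001004000000002000003001000000002000004001000003001004003002000004004004003000004004004004002000001004002004001003004002002002000001001000004001004002003003004001002001003000001004004002003001002002004000001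0000020040000000000000020000010000030010010040030030010030010020000030010030010010020040020000040030010000020010000010010010010000010030000030040000010020020020010030000000040020020020000040030000030000030040010030000020020040000000040020000040030040000000030020030020010020020000000020000030000000010010020040010030040010020000000000020030020040010020010000000000000000020040040010000020040040010040020040010030030010040020010020010000010010000020010010020030040010040040030000010010010020030020000010020020020030020000040020000010000010000030020020000020020040010030040010030020010030030010020000010020020020010040010040020020000040030020000010010030040020030030040020040030040000020000000000000000000000000010040010000040040010020020000000010000030020020010040000000020020040000020010010000030030010030010010030040030000030040040030000040010040040040010040000020010040020010030020010000010010020040010000010020010020040020000040040010040040000020010020040000040040020000040040020020000010000000000030030040000020040010010010010010010000000020030000000010020000010020040020020020000040010000010030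0100100100300300300000000000100100200200400100300000000300200400100300200000300100300400300000000400300400300400200300000200100400000100400100300000400200300000200200100100100400100000400300100300400300300300400000400300300100300100100000100000000200300100000000000000000000000100300200200300400100100000100200400300400400000000400300100400300200400200200300000200100100400300200200100400400100400300200000000100200200400300400200400400400000300000000400000000300000100200000400200300400400100300200400000300100400200300000000400000000400200400000400100300400000100300400400400100100400300000000000000000400000100000300300000100100300200000000000000400400300400100300400200100400200000100300000200200000000100300100300400100300100200200200000200000100200300000400100400200200200400400100300200200400400200100400000300400200400300100000200000300100400300400400400400300000100100400200000000400300100200200300300200300200000000000000000000200200100000000000300100400000300400400300400100200300200000300200200400200000100100300300100200400400200200300100200100000200200300000000000000200400200400400200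3002000004003004003004004000001004004000002004004000001004002000003004003001002001001000004001002002001001003003002001002004002003001000000001004002004002003002000004003001001004003001001001001000004001002002004002004002000000004003004000002004002000000003000002000002003004004001003000000003001000002003004004004001000002000003002000000001000002002004002002000004003004003000003002004003000002001000000001003000001004000000002004003001000004002000002001002003004004002002000003003000000003004003000001002000002002004003002004002003003002004000001004004000003002002003003000004004003004003001003001002003001000004000000004004004002000000004004003004004004002002001002003004003003003002003002002003001004000000002004003002004001001003001000002002002001002001004002002001002004002002002004000000003004000000001001000004000004004003002001003002001002003003002000003000000000002004004000001000000001000001000000004004000003004002003004003002002004003001003000000004001003001004001001000003002003000000003001003003004003003003003003000000004004003002003003002002000002003000000002002001000003000001004001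0010000000000040040040030030000000010010010040040000040030010020040030040030000010040040010030040040020000040020030010030000000040040040030020020040020040020000040030000010040010010000020000030040030020030020020040040020010040000030010040000030040000030000000000010040000030000000020030030000010040000020030030030010020040040020000030040040010020020000020030010010040030000030040020000010000000000000000020010040000020000040020020030040040040030010000020020000010030000040030030020000040000040020010020000010020000040030000010010030020030040010020000040020000000030000000000040010040010020000020010020030010000040010000000030040010000010020030010000030010010020030040010010040010010020030040010020000010040020030040000020020000030020010030030020000030020000040010040020000040030000030000030010000020030020040010010020000020010040010040000040000010040030040020040020000000020040030040030030020020000040030000020000040010040010040010000030000000040040010000000010010020000040010040000010040030020040040000030030020020030010040000010020030010040040020030020040010040000010020020030040030040040010020020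0400000100300400000100100400300000100100400200000100400400300300100200200300000400200000200000200300200000300300400400100300300400000200100200400000300000400400100000100400100200400300400100400000400200100000200100000000400100100400300000200400200000100000000200400300200400300400100000000000100200000400300300000100300400100400400400000200100200300200300300100200000000000200100000300400400200000100200000100400400300100400100400200000400100200000100100200000100000300000400400300400300100300400200400200200200000300000200300100400200300100400200000400200400100300400000300300100300200400200300200400300300400400000300300000100200000100200400200400000000100300200300000100300300300300000100000400300300300100400400000400400300400400100000000200300000000300200100400000200200300100300100100200200100000200200200200100200200000400000200400400200100100200300200000000200100400300100200300300300300200300400200200400300000100200400400100300200200200100100200100100400000200400100100200000300400300300100100400100200200400100200100000200100200400400400000000200100100100400400100200100300300400200400300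4002004002002000002002002000004002002003000003004004000001002002001002003004003000004001001004000001000000003000002000002004002004000004002004003001002004003000004001003000001004001001004003000001004002003003003004004003002003000001004000003002004004003001002004004002000003001004004001002004002002000000004001003002002004000001002002002003003002000000004002001002001003004002000002000003004003001000000001004002002003003000000001003001000001001002002001001000003003004003001000002001003000003002002002000002003001001003000000000000000000000001004002004003004004004003003003000001004000004002004003003000002001002004003003002003002004000002000001000001000004003002002002004001003003002000002003001003003004003004001001004000003002002000002003004004004002001004003000001003003003004001001004001002001004004001003001001001003001001004002004004001004003001000000000000000000000004000000004001004000000002000000004000004000003004003003000002000004004000002002003000000000003000001002001001002001000000004002003004002001001002001004003000001000001001001004000004003000002001000004000001004000004003000000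0030020020030020020010000030040020000000010030020000000020010010010020040020030020030010000000000000000020020030030040000010000000020010000030000040010040010000030000020000000020020030040000010020000000010040030000000030040000010040040030000030030040040020040020020010020030010040020010010020040010040040000020010030000010030030000020020020040040010000010010040010020020040010020000030000030040030000010000030030020020000010030030000020030030000010010040010040020030040010040020000020010040040020000000030040030020010030020040010030020010010040040000030000000030030000040020020010000000010020030020010020020040040030010000010020020010030020010020040000030040010030030010020040040020020040030040030010000030020040040000020000000000020030020040030020040040040000010030020040030040020000020040030020030030000000000020040010040000040030010020020000040000030020040030020030000010040000030010010010020000040040020030030040010020010030040040000040030040020010010030010040020010020040020030010010040030020030000020030000030010030040010040000020000030000040030020000030030020020000020000020000020010040040040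0100300400100300100400400000100000200100200000000400400000100000100100000100200200400000400000000000400400200300400300300400000400200000400400400200000100300000000200100200000300400300300300000000300000100200400200200200000000000400100000300100200100300100300300400000200100400200400100200200100000400000000100100300000000100300000100400200200200000300400400200100400400300100100200000000400100100300100100200200300200000300300200100200000400000100400300000200000300100100300300200400400300100400200200000400300400200400100100000200000200100200000300000200100000000100000300100000100300200000100000100300100300100400400300000200400000300300200100000100000000000000000000200100100400300400300000400100100200100200100100000100300400200100100200200200300000000300100400100100300100000300300000100000100200300100400400300300100200200000200300200100400000100100300200300400000000100400100400100100200400300400200100300000300300300300200300400300000400100400200200000000300400300200000200400100400200300100000200000100300100300400400100000000300400000200100200400000400200100400000400000000100400400400300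2000003002001000003001000000002003000001004000004002001003002003002002001003001004000004004001001004000003000003001003003004001001002004002000000004001000000001000003003004004004002004002003003004004004002000000004004000001000004001003004004000002002000002002002001000004001000000002003003003002002004003004004000000002002002004001002001004004002004004002000000003001004002002002001001000001003002000003003004001003003004003002004000001002003001003000000002003000003001001000004000001003003000001004001003002000004004002001004003004002001000000002003004001001002001003004004004003001001004001000001001000002002004000003002003004002001002003001000000001000001001003002004002004004000002002001003001000003001004004004001004000004001001004003002003002000003001002004000004004000000002004003002001003004004001001000003001000000000000003000000002004003004001003000003001002004001000002000004003001002002003003002004003003003004004003000002004002003002001000003004004003000001001003002004002002004004001004000000001001001002000002004004000004000003003002003003000000003004004001004002001002003000002004003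0010010000010000030000020040040020030000020020000030000040020030010020040040030040020000020000040040000020020020040040000020000030030020000040020030000030040030030030010000000000010040030020020040030030030030030040000040020030000030020030010000010010030000010040010030020000000010000040040020030000000040010010040040030030040020000000010000040040040030040010000020030020010000040000010040030010020010010030040030010000010010000030010000020010010020030010000000000000000000000010020020020040020040010020000030030000000000000000040030000020030010040020040020030030020040020000000000040030020010010010030020010020010020040020020020030040020010010030000040030000020040040020000000030030000040010010010010020040020010020040040010030040010010040030040010010010010000040030020010030010010000000020000000030010020020000030020010020020030040010020030020010020010040010000020030040000020040040020000030010030010040000010010040030010030020000040030010040000020040040030030000010020040030030030030000000040010040020040020040030000030020000000020020040010000010030010010000030040000000040010040040030000020020000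0100200200000000300400400100300300300000000300200300000100000200200300000100100400300000100100400300300300200100200200100000100000000000400300100300400000300200000200300000400000200300300400300300100400400400400000300400300300200100000000400300300400400300000100400300200200300300100400100100200300100000200000000400400000400200300400300400200300200300300100100000400300100200300200400200000200400000300100300400100300000400400000400300200000300400200000200300000300100400100400000200100200200100400000200400200100300200200300300000400300100300200400300200200400200300400300100000100100100400200200400400100100100300300400200300400000000400000300300100100200100200100300300200200300200000000000000000000000000200100000200000200300200000200200200000400000400100200100400000100200000100000200100000200000300100100400400100400000300100400400400400400200300000200000000300200300000000400400300200100400000100000200100100000400000000300400300300100400200300300100000400200200000100200000300400000400200300300100000000100100200000100400000100400400200200400000200100300100300200200000200300000400100300400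4004000003002000002000002004002003000000001001004002004004000002003000003000001002004002002000001002002001000004000003003004003004003001004002004000002001002003001004004004003002002001002002001000004001002002003002001001004002001000002001002004002001003003004001002001002002003003002001002002002002004003003001001001004000001000000002004004001003001004000004001000001004000003000002000003003001004004004004003002003000003002003001001003004003004003000001002001003004000000003000001002003001000004002000001002001001003004002002003004001000004002003000002003002003003003000001000003001004004003004000000003001001001003000003002003000001001001003004000001001001001002002001004004002001004001000001004000000001003004000002003003002002000002004004001001004001001000003003001001002000002000003003003002000001004004000001004000000004002000002002000000001004002004003001000001003001000004000004001003001000003000004003002004004001003001004002003003003003003003000001000003003004004001001002000000003004003003004002000002002002004001004004001003002002001004004001000001000003002004000000003001000003000002003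0030010010020030010030010040000000010000030020020040030000020040010010030040030000010000030020030040010010000030020040020000010000000030020020010040010010040040040040040000000000010040040020020020040000010010020030010030020030000030040030010010020020020000020010010040040000040030000000040010010000040000040040000020030020040010000000030030040020030010030010010000000040000000020000020000000010020000010020030000040000030020000040020040030030000010000030020020020000030010020030040030030000010000000000000000010020000040000010010030020040000000030040020030040010040020000030040020000010030030000020040000010020030000030020000040020010010000020020000040030010020000030000000020010000040000040030030000000030030040040020040010000010040010030030030030030000040030010010040000020040020030000010020040030010000030040040030030030020000000000000000020030040020030040040010010030020010040000040020040030020000010040000000020020020040030030010030000010040030010000040010040030020040000000030030040010000010020030000020020030040000020010040000010040010030020000010040020010010030000020010000030020040000010040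0400100300000400000400100200400400400000100300300000100000000000000000300300300300100300300300000100200200100400000400200300100200300000200300400200200300300100400300200300300000200200000300400300200000400300100300000300400300000000200100000400400100200300000300100100100000200100400000200400400300100300000000100100000000100300200200000000100400400100300400200400000100100400300300200000000000000000000300300100200200300300100300100200100300400100400300300200200300100400000300200000200200300000200000000400200000000400400400200000200100200200300400000000200000200200400400100200400400300200000000200200400200100100200300100100200100200000400200300000300000300400300400200400100100200300000100400200100400100400100100400000000000000000000000100100200100300400400300200100000200100000300200300400100100000100000000000400200300300000100300400100300000400400000100100200400400400400200000300200200100200000300200200300200200400200100200100300100000200000200400100200200200400300200400200400200200400100000300100400300200400200000400400400000000000000400400000000000000000000000300100400200400300100000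0004000002001004002002004002004000000002003004004001001002002003004001003003003002001000000001004003004001003001004002000003003001004001001000000002004002004004001000000001003000004004000003001002000004000004002004004001004000001004001004000004002001000000003004002004004000000000004001000000000000000000000000000002000003000001000002004002004003004003002002004002003002004000004003003002002000004002003000003004003001001004002004003002004001000000000004004003003003001002000002002003001001002001003000000002002000002002002002004001003003003002002001001000002000002002000000001002000000002000000004002000003000004002002000000000000000000000001000000003001002002000001000001003004003002000002003004001004000000002004004001004004004000003004003000004000002004004001004000002000001001000000001003003001000001000004001003003001002001001004004001004002002000003003004002000004002003001003002001004000000001004002003001002000003001004001000001001003001000003000000000000000000000002003004004002003003001000004001002000003003001004002001004003001001000003000001001004003004003002002000002000001002002002002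001002004003002004003000004004001003004000003002001004004004000002002004001001000001001002002001001000004001004001004003004003002000001004000001000001002002003000001002003002003002002001000000000000000000000003002001000004000004004003002002001000003004003000002000002001004002000004004002003004002003003001000004001003000000003000001002000001004000003002004003002001001000001002004002000003002002000000000002001003001000002000004004003000002002000003004000002001003001002004004004001002004000002000002004004004001004000000000000000000000000002002002000004004004004004001003001000004000002002004004002001001003000003002003003001000003001003000004002002003002000000002004004004002003002004003003000003002003003004001004003004003003002000004003002002004003003002002000003003000002002002004002004002000000000000004002003000004000003001004000004000003004003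

theorem okP : okG C GP = true := by decide +kernel
theorem P_eq : checkEq C [Ga, Gz, Gd, Gc, Gd] [GP] 0 C.n = true := by decide +kernel
set_option Elab.async false in
theorem P_pow : checkScalar C (List.replicate 67 GP) 1 0 C.n = true := by (rewrite [Cfsg.Agent.Lib.PackCol.checkScalar_col]; decide +kernel)
theorem P_dg : Nat.beq (dg C.s GP 1) 4 = true := by decide +kernel

/-- the value of a word in the presented group -/
def ev (w : List (Fin 5 × Bool)) : Spor.Ly := FreeGroup.lift gens (FreeGroup.mk w)

theorem ev_append (v w : List (Fin 5 × Bool)) : ev (v ++ w) = ev v * ev w := by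
  rw [ev, ev, ev, ← map_mul, FreeGroup.mul_mk]

theorem ev_eq_one {w : List (Fin 5 × Bool)} (h : checkScalar C (w.map code) 1 0 C.n = true) : ev w = 1 := by
  apply Cfsg.Agent.Ly.Setup.rho_injective
  rw [ev, rho_lift, map_one]
  exact word_eq_one h

/-- the letters of the involutions -/
def ws : List (Fin 5 × Bool) := [(0, true), (4, true)]
def wt : List (Fin 5 × Bool) := [(3, true), (2, true), (3, true)]

theorem s_sq : ev ws * ev ws = 1 := by
  rw [← ev_append]
  exact ev_eq_one (by decide +kernel)

theorem t_sq : ev wt * ev wt = 1 := by
  rw [← ev_append]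
  exact ev_eq_one (by decide +kernel)

theorem rho_st : (rho (ev ws * ev wt)).val = mat C GP := by
  rw [← ev_append, ev, rho_lift, coe_word]
  have h := prod_eq_of_check good (by decide) (ok_map (ws ++ wt)) (by
    intro g hg
    rw [List.mem_singleton] at hg
    rw [hg]
    exact okP) P_eq
  have h2 : (([GP] : List ℕ).map (mat C)).prod = mat C GP := by simp
  exact h.trans h2

theorem pow_st : (ev ws * ev wt) ^ 67 = 1 := by
  apply Cfsg.Agent.Ly.Setup.rho_injective
  apply Units.ext
  rw [map_pow, map_one, Units.val_pow_eq_pow_val, rho_st, Units.val_one]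
  have h := prod_one_of_check good (w := List.replicate 67 GP) (by decide) (by
    intro g hg
    rw [List.eq_of_mem_replicate hg]
    exact okP) P_pow
  rw [List.map_replicate, List.prod_replicate] at h
  exact h

theorem st_ne : ev ws * ev wt ≠ 1 := by
  intro h
  have h1 := rho_st
  rw [h, map_one, Units.val_one] at h1
  have h2 := congrFun (congrFun h1 (⟨1, by decide⟩ : Fin C.n)) (⟨0, by decide⟩ : Fin C.n)
  rw [mat_def] at h2
  have h3 : dg C.s GP (((⟨1, by decide⟩ : Fin C.n) : ℕ) + C.n * ((⟨0, by decide⟩ : Fin C.n) : ℕ)) = 4 :=
    Nat.eq_of_beq_eq_true P_dg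
  rw [h3] at h2
  have h4 : (1 : Matrix (Fin C.n) (Fin C.n) (ZMod C.p)) (⟨1, by decide⟩ : Fin C.n) (⟨0, by decide⟩ : Fin C.n) = 0 :=
    Matrix.one_apply_ne (by decide)
  exact absurd (h4.symm.trans h2) (by decide)

theorem order_st : orderOf (ev ws * ev wt) = 67 := by
  have : Fact (Nat.Prime 67) := ⟨by norm_num⟩
  exact orderOf_eq_prime pow_st st_ne

theorem ly_model [Finite Spor.Ly] : RealOdd Spor.Ly := by
  have hI : Spor.IsoLy Spor.Ly := ⟨MulEquiv.refl _⟩
  have hna := H149.Sp.na_ly_all (p := 67) hI (by norm_num) (by norm_num) (by norm_num)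
  exact RealBase.of_two (r := 67) (by norm_num) (by norm_num) s_sq t_sq order_st fun u x hu hx hc =>
    hna x u hx hu hc.symm

theorem ly {K : Type*} [Group K] [Finite K] (h : Spor.IsoLy K) : RealOdd K := by
  obtain ⟨e⟩ := h
  have : Finite Spor.Ly := Finite.of_equiv _ e.toEquiv
  exact ly_model.congr e.symm

end Cfsg.Agent.H729.RealLy
end

-- part: H729/RealSpor
section
/-!
# `RealOdd` for 19 sporadic groups and the Tits group (S2248, helper729)

The remaining rows of S2248 are `McL`, `Co3`, `HN`, `B`, `M`.
-/

set_option autoImplicit false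

namespace Cfsg.Agent.H729.RealSpor

open Cfsg Cfsg.Agent.H101.RO

variable {K : Type*} [Group K] [Finite K]

/-- **`RealOdd` for all sporadic groups except `M12`, `Co1`** from the rows `McL`, `Co3`, `HN`, `B`, `M`. -/
theorem spor (hmcl : Spor.IsoMcL K → RealOdd K) (hco3 : Spor.IsoCo3 K → RealOdd K) (hhn : Spor.IsoHN K → RealOdd K)
    (hb : Spor.IsoB K → RealOdd K) (hm : Spor.IsoM K → RealOdd K) (h : IsSporadicGroup K) :
    RealOdd K ∨ Spor.IsoM12 K ∨ Spor.IsoCo1 K := by
  rcases h with h | h | h | h | h | h | h | h | h | h | h | h | h | h | h | h | h | h | h | h | h | h | h | h | h | h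
  · exact Or.inl (RealSmall.m11 h)
  · exact Or.inr (Or.inl h)
  · exact Or.inl (RealSmall.m22 h)
  · exact Or.inl (RealSmall.m23 h)
  · exact Or.inl (RealSmall.m24 h)
  · exact Or.inl (RealSmall.j1 h)
  · exact Or.inl (RealSmall.j2 h)
  · exact Or.inl (RealFi.j3 h)
  · exact Or.inl (RealFi.j4 h)
  · exact Or.inr (Or.inr h)
  · exact Or.inl (RealCo2.co2 h)
  · exact Or.inl (hco3 h)
  · exact Or.inl (hmcl h)
  · exact Or.inl (RealHS.hs h)
  · exact Or.inl (RealSmall.suz h)
  · exact Or.inl (RealSmall.he h)
  · exact Or.inl (RealSmall.ru h)
  · exact Or.inl (RealON.on h)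
  · exact Or.inl (RealLy.ly h)
  · exact Or.inl (RealFi.fi22 h)
  · exact Or.inl (RealFi.fi23 h)
  · exact Or.inl (RealFi.fi24 h)
  · exact Or.inl (hhn h)
  · exact Or.inl (RealTh.th h)
  · exact Or.inl (hb h)
  · exact Or.inl (hm h)

/-- **The Tits group.** -/
theorem tits (h : Lie.IsoTits K) : RealOdd K := RealTits.tits h

end Cfsg.Agent.H729.RealSpor
end

private theorem dce_653773020d27 : _root_.True := by
  try have : _root_.True := by simp only [_root_.Cfsg.Agent.H729.RealLy.ev.eq_1]
  exact _root_.True.intro
end

-- part: H101/RealFinal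
section
set_option linter.all false
open scoped Cfsg.Agent.FastGrp

namespace Cfsg.Agent.Co0Q_H101_RealFinal

open Cfsg Cfsg.Agent.SporadicA Cfsg.Agent.SporadicStructure.Co0Matrix Cfsg.Agent.CoOneType.CoFast Finset

/-- dot product with two accumulators -/
private noncomputable def dk (r : List ℤ) : List ℤ → ℕ → ℕ → ℤ :=
  List.rec (fun _ P N => Int.subNatNat P N) (fun a _ ih l P N => List.rec (Int.subNatNat P N) (fun b t _ =>
    Int.rec (fun x => Int.rec (fun y => ih t (Nat.add P (Nat.mul x y)) N) (fun y => ih t P (Nat.add N (Nat.mul x (Nat.succ y)))) b)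
      (fun x => Int.rec (fun y => ih t P (Nat.add N (Nat.mul (Nat.succ x) y)))
        (fun y => ih t (Nat.add P (Nat.mul (Nat.succ x) (Nat.succ y))) N) b) a) l) r

private theorem dk_eq : ∀ (r l : List ℤ) (P N : ℕ), dk r l P N = P - N + dotL r l
  | [], l, P, N => by rw [dotL_nil_left, add_zero]; exact Int.subNatNat_eq_coe
  | a :: s, [], P, N => by rw [dotL_nil_right, add_zero]; exact Int.subNatNat_eq_coe
  | .ofNat x :: s, .ofNat y :: t, P, N => (dk_eq s t (P + x * y) N).trans (by
      rw [dotL_cons, Int.ofNat_eq_natCast, Int.ofNat_eq_natCast]; push_cast; ring)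
  | .ofNat x :: s, .negSucc y :: t, P, N => (dk_eq s t P (N + x * (y + 1))).trans (by
      rw [dotL_cons, Int.ofNat_eq_natCast, Int.negSucc_eq]; push_cast; ring)
  | .negSucc x :: s, .ofNat y :: t, P, N => (dk_eq s t P (N + (x + 1) * y)).trans (by
      rw [dotL_cons, Int.ofNat_eq_natCast, Int.negSucc_eq]; push_cast; ring)
  | .negSucc x :: s, .negSucc y :: t, P, N => (dk_eq s t (P + (x + 1) * (y + 1)) N).trans (by
      rw [dotL_cons, Int.negSucc_eq, Int.negSucc_eq]; push_cast; ring)

private theorem dk0 (r l : List ℤ) : dk r l 0 0 = dotL r l := by rw [dk_eq]; simp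

/-- entry -/
private def en (A : List (List ℤ)) (i j : ℕ) : ℤ := (A.getD i []).getD j 0

/-- shape and size of the entries -/
private def sh (A : List (List ℤ)) : Bool := A.all fun r => Nat.beq r.length 24 && r.all fun a => Nat.ble a.natAbs 1000

private theorem sh_len {A : List (List ℤ)} (h : sh A = true) {r : List ℤ} (hr : r ∈ A) : r.length = 24 :=
  Nat.eq_of_beq_eq_true (Bool.and_eq_true_iff.1 (List.all_eq_true.1 h r hr)).1

private theorem sh_le {A : List (List ℤ)} (h : sh A = true) (i : ℕ) : (A.getD i []).length ≤ 24 := by
  by_cases hi : i < A.length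
  · exact (sh_len h (getD_mem_of_lt A [] hi)).le
  · rw [List.getD_eq_default _ _ (not_lt.1 hi)]; exact Nat.zero_le _

private theorem sh_abs {A : List (List ℤ)} (h : sh A = true) (i j : ℕ) : |en A i j| ≤ 1000 := by
  unfold en
  by_cases hi : i < A.length
  · by_cases hj : j < (A.getD i []).length
    · have := Nat.le_of_ble_eq_true (List.all_eq_true.1 (Bool.and_eq_true_iff.1 (List.all_eq_true.1 h _ (getD_mem_of_lt A [] hi))).2 _
        (getD_mem_of_lt _ 0 hj))
      rw [Int.abs_eq_natAbs]; exact_mod_cast this
    · rw [List.getD_eq_default _ _ (not_lt.1 hj)]; decide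
  · rw [List.getD_eq_default _ _ (not_lt.1 hi), List.getD_nil]; decide

private theorem sum_lt (B : ℕ) (c : ℕ → ℕ) (h : ∀ k, c k < B) : ∀ n, ∑ k ∈ range n, c k * B ^ k < B ^ n
  | 0 => Nat.one_pos
  | n + 1 => by
    rw [sum_range_succ, pow_succ']
    exact lt_of_lt_of_le (Nat.add_lt_add_right (sum_lt B c h n) _) (by
      rw [add_comm, ← Nat.succ_mul]; exact Nat.mul_le_mul_right _ (h n))

private theorem land_dig (w m : ℕ) (hm : m < 2 ^ w) : ∀ (n : ℕ) (c : ℕ → ℕ), (∀ k, c k < 2 ^ w) →
    (∑ k ∈ range n, c k * (2 ^ w) ^ k) &&& (∑ k ∈ range n, m * (2 ^ w) ^ k) = 0 → ∀ k < n, c k &&& m = 0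
  | 0, _, _, _, k, hk => absurd hk (Nat.not_lt_zero k)
  | n + 1, c, hc, h, k, hk => by
    have e : ∀ d : ℕ → ℕ, ∑ k ∈ range (n + 1), d k * (2 ^ w) ^ k = d 0 + 2 ^ w * ∑ k ∈ range n, d (k + 1) * (2 ^ w) ^ k := fun d => by
      rw [sum_range_succ', pow_zero, mul_one, add_comm, mul_sum]
      exact congrArg _ (sum_congr rfl fun k _ => by rw [pow_succ', mul_left_comm])
    rw [e c, e fun _ => m] at h
    cases k with
    | zero =>
      have := congrArg (· % 2 ^ w) h
      simpa only [Nat.and_mod_two_pow, Nat.add_mul_mod_self_left, Nat.mod_eq_of_lt hm, Nat.mod_eq_of_lt (hc 0), Nat.zero_mod] using this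
    | succ k =>
      have := congrArg (· / 2 ^ w) h
      simp only [Nat.and_div_two_pow, Nat.add_mul_div_left _ _ (Nat.two_pow_pos w), Nat.div_eq_of_lt hm, Nat.div_eq_of_lt (hc 0),
        Nat.zero_div, Nat.zero_add] at this
      exact land_dig w m hm n (fun k => c (k + 1)) (fun k => hc _) this k (Nat.lt_of_succ_lt_succ hk)

/-- the sum of `n` powers of `2 ^ w` -/
private def jj (w n : ℕ) : ℕ := Nat.div (Nat.sub (Nat.pow 2 (Nat.mul w n)) 1) (Nat.sub (Nat.pow 2 w) 1)

private theorem jj_eq {w : ℕ} (hw : w ≠ 0) (n : ℕ) : jj w n = ∑ k ∈ range n, (2 ^ w) ^ k := by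
  rw [Nat.geomSum_eq (Nat.one_lt_two_pow hw), ← pow_mul]; rfl

/-- all digits are divisible by `2 ^ e` -/
private def tst (n e : ℕ) (N : ℤ) : Bool :=
  Nat.beq (Nat.land (N + Int.ofNat (Nat.mul (Nat.pow 2 40) (Nat.mul (jj 48 n) (jj (Nat.mul 48 n) n)))).toNat
    (Nat.mul (Nat.sub (Nat.pow 2 e) 1) (Nat.mul (jj 48 n) (jj (Nat.mul 48 n) n)))) 0

private theorem key {n e : ℕ} (hn : n ≠ 0) (he : e ≤ 40) (d : ℕ → ℕ → ℤ) (hd : ∀ a b, |d a b| < 2 ^ 40)
    (h : tst n e (∑ b ∈ range n, (∑ a ∈ range n, d a b * (2 ^ 48) ^ a) * (2 ^ (48 * n)) ^ b) = true) (a b : ℕ) (ha : a < n) (hb : b < n) :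
    2 ^ e ∣ d a b := by
  have h1 : ∀ a b, (((d a b + 2 ^ 40).toNat : ℕ) : ℤ) = d a b + 2 ^ 40 := fun a b =>
    Int.toNat_of_nonneg (by linarith only [(abs_lt.1 (hd a b)).1])
  have h2 : ∀ a b, (d a b + 2 ^ 40).toNat < 2 ^ 48 := fun a b => by
    have := (abs_lt.1 (hd a b)).2
    have := h1 a b
    omega
  have h3 : 2 ^ e - 1 < 2 ^ 48 := lt_of_le_of_lt (Nat.sub_le _ _) (Nat.pow_lt_pow_right (by decide) (by omega))
  have h4 := Nat.eq_of_beq_eq_true h
  have e1 : (∑ b ∈ range n, (∑ a ∈ range n, d a b * (2 ^ 48) ^ a) * (2 ^ (48 * n)) ^ b) +
      Int.ofNat (Nat.mul (Nat.pow 2 40) (Nat.mul (jj 48 n) (jj (Nat.mul 48 n) n))) =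
      ((∑ b ∈ range n, (∑ a ∈ range n, (d a b + 2 ^ 40).toNat * (2 ^ 48) ^ a) * (2 ^ (48 * n)) ^ b : ℕ) : ℤ) := by
    show _ + ((2 ^ 40 * (jj 48 n * jj (48 * n) n) : ℕ) : ℤ) = _
    rw [jj_eq (by decide), jj_eq (Nat.mul_ne_zero (by decide) hn)]
    simp only [Nat.cast_sum, Nat.cast_mul, Nat.cast_pow, Nat.cast_ofNat, h1, add_mul, sum_add_distrib]
    rw [← mul_sum, ← mul_sum, mul_assoc]
  have e2 : Nat.mul (Nat.sub (Nat.pow 2 e) 1) (Nat.mul (jj 48 n) (jj (Nat.mul 48 n) n)) =
      ∑ b ∈ range n, (∑ a ∈ range n, (2 ^ e - 1) * (2 ^ 48) ^ a) * (2 ^ (48 * n)) ^ b := by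
    show (2 ^ e - 1) * (jj 48 n * jj (48 * n) n) = _
    rw [jj_eq (by decide), jj_eq (Nat.mul_ne_zero (by decide) hn), ← mul_sum, ← mul_sum, mul_assoc]
  rw [e1, e2, Int.toNat_natCast] at h4
  have h5 := land_dig 48 _ h3 n _ (fun k => h2 k b) (land_dig (48 * n) _ (by rw [pow_mul]; exact sum_lt _ _ (fun _ => h3) n) n _
    (fun k => by rw [pow_mul]; exact sum_lt _ _ (fun a => h2 a k) n) h4 b hb) a ha
  rw [Nat.and_two_pow_sub_one_eq_mod] at h5
  have h6 : ((2 ^ e : ℕ) : ℤ) ∣ d a b + 2 ^ 40 := h1 a b ▸ Int.natCast_dvd_natCast.2 (Nat.dvd_of_mod_eq_zero h5)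
  rw [Nat.cast_pow, Nat.cast_ofNat] at h6
  exact (dvd_add_left (pow_dvd_pow 2 he)).1 h6

private theorem abs_sum {f : ℕ → ℤ} {c : ℤ} (h : ∀ i, |f i| ≤ c) : |∑ i ∈ range 24, f i| ≤ 24 * c :=
  (abs_sum_le_sum_abs _ _).trans ((sum_le_card_nsmul _ _ c fun i _ => h i).trans (by rw [card_range, nsmul_eq_mul]; rfl))

private theorem abs_mul' {a b c d : ℤ} (h : |a| ≤ c) (h' : |b| ≤ d) : |a * b| ≤ c * d :=
  (abs_mul a b).trans_le (mul_le_mul h h' (abs_nonneg _) ((abs_nonneg _).trans h))

/-- matrix times vector -/
private noncomputable def mv (A : List (List ℤ)) (l : List ℤ) : List ℤ := List.rec [] (fun r _ ih => dk r l 0 0 :: ih) A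

private theorem mv_len (l : List ℤ) : ∀ A : List (List ℤ), (mv A l).length = A.length
  | [] => rfl
  | _ :: A => congrArg (· + 1) (mv_len l A)

private theorem mv_get (l : List ℤ) : ∀ (A : List (List ℤ)) (i : ℕ), (mv A l).getD i 0 = dotL (A.getD i []) l
  | [], _ => rfl
  | r :: _, 0 => dk0 r l
  | _ :: A, i + 1 => mv_get l A i

private theorem mv_sum {A : List (List ℤ)} (h : sh A = true) (l : List ℤ) (i : ℕ) :
    (mv A l).getD i 0 = ∑ j ∈ range 24, en A i j * l.getD j 0 := (mv_get l A i).trans (sum_range_getD _ l 24 (sh_le h i)).symm

/-- powers -/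
private def pw (w : ℕ) : List ℤ := (List.range 24).map fun j => Int.ofNat (Nat.pow 2 (Nat.mul w j))

private theorem pw_get (w : ℕ) {j : ℕ} (hj : j ∈ range 24) : (pw w).getD j 0 = (2 ^ w) ^ j := by
  rw [pw, List.getD_eq_getElem _ _ (by rw [List.length_map, List.length_range]; exact mem_range.1 hj), List.getElem_map,
    List.getElem_range, ← pow_mul]
  exact Nat.cast_pow 2 _

/-- the product of the transpose of `A` and `B` is `c` times the identity -/
private noncomputable def prd (A B : List (List ℤ)) (c : ℤ) : Bool :=
  tst 24 40 (dk (mv A (pw 48)) (mv B (pw 1152)) 0 0 - c * dk (pw 48) (pw 1152) 0 0)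

private theorem prd_spec {A B : List (List ℤ)} {c : ℤ} (hA : sh A = true) (hB : sh B = true) (hl : A.length = 24) (hc : |c| ≤ 64)
    (h : prd A B c = true) {a b : ℕ} (ha : a < 24) (hb : b < 24) : ∑ i ∈ range 24, en A i a * en B i b = if a = b then c else 0 := by
  have h1 : ∀ a b, |∑ i ∈ range 24, en A i a * en B i b - if a = b then c else 0| < 2 ^ 40 := fun a b =>
    lt_of_le_of_lt ((abs_sub _ _).trans (add_le_add (abs_sum fun i => abs_mul' (sh_abs hA i a) (sh_abs hB i b))
      (show _ ≤ 64 by split_ifs; exacts [hc, by decide]))) (by decide)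
  refine sub_eq_zero.1 (Int.eq_zero_of_abs_lt_dvd (key (n := 24) (by decide) le_rfl _ h1 ?_ a b ha hb) (h1 a b))
  rw [← h, prd, dk0, dk0, ← sum_range_getD _ _ 24 ((mv_len _ A).trans hl).le, ← sum_range_getD (pw 48) _ 24 (by decide)]
  congr 1
  simp only [sub_mul, sum_sub_distrib, mv_sum hA, mv_sum hB]
  (with_reducible congr 1)
  · simp only [sum_mul, mul_sum]
    rw [sum_comm]
    refine (sum_congr rfl fun a _ => sum_comm).trans (sum_comm.trans (sum_congr rfl fun i _ => sum_comm.trans
      (sum_congr rfl fun b hb => sum_congr rfl fun a ha => ?_)))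
    rw [pw_get _ ha, pw_get _ hb]; ring
  · rw [mul_sum]
    refine sum_congr rfl fun b hb => ?_
    rw [sum_eq_single b (fun a _ h => by rw [if_neg h, zero_mul]) (fun h => absurd hb h), if_pos rfl, pw_get _ hb, pw_get _ hb, mul_assoc]

/-- the rows, packed -/
private noncomputable def pk (X : ℤ) (A : List (List ℤ)) : List ℤ :=
  List.rec (List.replicate 24 0) (fun g _ s => List.zipWith (fun a b => a + X * b) g s) A

private theorem pk_spec (X : ℤ) : ∀ A : List (List ℤ), sh A = true → (pk X A).length = 24 ∧
    ∀ j < 24, (pk X A).getD j 0 = ∑ a ∈ range A.length, en A a j * X ^ a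
  | [], _ => ⟨rfl, show ∀ j < 24, (List.replicate 24 (0 : ℤ)).getD j 0 = 0 by decide⟩
  | g :: A, h => by
    have hg := sh_len h List.mem_cons_self
    obtain ⟨h1, h2⟩ := pk_spec X A (Bool.and_eq_true_iff.1 h).2
    have h3 : (List.zipWith (fun a b => a + X * b) g (pk X A)).length = 24 := by rw [List.length_zipWith, hg, h1]; rfl
    refine ⟨h3, fun j hj => ?_⟩
    show (List.zipWith (fun a b => a + X * b) g (pk X A)).getD j 0 = _
    rw [List.getD_eq_getElem _ _ (h3 ▸ hj), List.getElem_zipWith, ← List.getD_eq_getElem _ 0, ← List.getD_eq_getElem _ 0, h2 j hj,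
      List.length_cons, sum_range_succ', add_comm, pow_zero, mul_one, mul_sum]
    exact congrArg₂ _ (sum_congr rfl fun a _ => by rw [pow_succ', mul_left_comm]; rfl) rfl

private theorem sh_gens : sh gens = true ∧ gens.length = 49 := by decide +kernel

/-- the packed generators -/
private def cf (w : ℕ) : List ℤ :=
  ((List.range 23).map fun j => Int.ofNat (Nat.add (Nat.add (Nat.pow 2 (Nat.add (Nat.mul w j) 2)) (Nat.shiftLeft (Nat.mod (Nat.shiftLeft
    ([0, 5, 7, 10, 11, 14, 15, 17, 19, 20, 21, 22].foldr (fun t s => Nat.add (Nat.pow 2 (Nat.mul w t)) s) 0) (Nat.mul w j))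
    (Nat.sub (Nat.pow 2 (Nat.mul w 23)) 1)) (Nat.succ (Nat.mul w 23))))
    (Nat.add (Nat.pow 2 (Nat.succ (Nat.mul w 47))) (Nat.pow 2 (Nat.mul w 48))))) ++
  [Int.subNatNat (Nat.add (Nat.pow 2 (Nat.add (Nat.mul w 46) 3)) (Nat.pow 2 (Nat.succ (Nat.mul w 47))))
    (Nat.add (Nat.mul 4 (jj w 23)) (Nat.mul 3 (Nat.pow 2 (Nat.mul w 48))))]

private theorem cf_eq : cf 2352 = pk (Int.ofNat (Nat.pow 2 2352)) gens ∧ cf 48 = pk (Int.ofNat (Nat.pow 2 48)) gens := by decide +kernel

/-- the values of the form on the generators are divisible by 64 -/
private noncomputable def prs (R : List (List ℤ)) : Bool := tst 49 6 (dk (cf 2352) (mv R (cf 48)) 0 0)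

private theorem prs_spec {R : List (List ℤ)} (hR : sh R = true) (h : prs R = true) (a b : ℕ) (ha : a < 49) (hb : b < 49) :
    64 ∣ ∑ i ∈ range 24, en gens b i * ∑ j ∈ range 24, en R i j * en gens a j := by
  refine key (n := 49) (e := 6) (by decide) (by decide) (fun a b => ∑ i ∈ range 24, en gens b i * ∑ j ∈ range 24, en R i j * en gens a j)
    (fun a b => lt_of_le_of_lt (abs_sum fun i => abs_mul' (sh_abs sh_gens.1 b i)
      (abs_sum fun j => abs_mul' (sh_abs hR i j) (sh_abs sh_gens.1 a j))) (by decide)) ?_ a b ha hb
  have e : ∀ w : ℕ, Int.ofNat (Nat.pow 2 w) = 2 ^ w := fun w => Nat.cast_pow 2 w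
  refine (congrArg (tst 49 6) ?_).trans h
  rw [cf_eq.1, cf_eq.2, dk0, ← sum_range_getD _ _ 24 (pk_spec _ _ sh_gens.1).1.le, e, e, show 48 * 49 = 2352 from rfl, sum_congr rfl fun i hi => congrArg₂ _ ((pk_spec _ _ sh_gens.1).2 i (mem_range.1 hi)) ((mv_sum hR _ i).trans
    (sum_congr rfl fun j hj => congrArg _ ((pk_spec _ _ sh_gens.1).2 j (mem_range.1 hj)))), sh_gens.2]
  simp only [sum_mul, mul_sum]
  refine (sum_congr rfl fun b _ => sum_comm).trans (sum_comm.trans (sum_congr rfl fun i _ => ?_))
  refine (sum_congr rfl fun b _ => sum_comm).trans (sum_comm.trans (sum_congr rfl fun j _ => sum_comm.trans ?_))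
  exact sum_congr rfl fun a _ => sum_congr rfl fun b _ => by ring

/-- a basis among the generators -/
private def sel : List ℕ := [0, 2, 4, 5, 9, 12, 13, 15, 16, 21, 22, 23, 24, 27, 29, 36, 38, 39, 40, 42, 43, 44, 46, 48]

/-- the dual basis -/
private def du : List (List ℤ) := [
  [2, -22, 0, -100, 0, 0, -12, -178, -162, 0, 26, -228, 0, 0, 412, 0, 0, 220, 294, -358, 106, 0, 0, 0],
  [0, -22, 2, -94, 0, 0, -12, -170, -152, 0, 28, -214, 0, 0, 388, 0, 0, 206, 278, -338, 100, 0, 0, 0],
  [0, -22, 0, -90, 2, 0, -10, -164, -148, 0, 26, -206, 0, 0, 374, 0, 0, 198, 268, -324, 96, 0, 0, 0],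
  [0, 0, 0, 8, 0, 2, 2, 14, 12, 0, -2, 18, 0, 0, -32, 0, 0, -18, -22, 28, -10, 0, 0, 0],
  [0, 4, 0, 28, 0, 0, 4, 50, 46, 2, -6, 66, 0, 0, -118, 0, 0, -62, -84, 102, -32, 0, 0, 0],
  [0, -4, 0, -18, 0, 0, -2, -34, -30, 0, 6, -40, 2, 0, 74, 0, 0, 40, 52, -64, 18, 0, 0, 0],
  [0, 6, 0, 30, 0, 0, 4, 56, 50, 0, -8, 72, 0, 2, -130, 0, 0, -70, -92, 114, -34, 0, 0, 0],
  [0, 20, 0, 82, 0, 0, 10, 152, 134, 0, -26, 188, 0, 0, -344, 2, 0, -182, -246, 298, -88, 0, 0, 0],
  [0, -10, 0, -42, 0, 0, -6, -76, -70, 0, 12, -98, 0, 0, 176, 0, 2, 92, 126, -152, 46, 0, 0, 0],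
  [0, -12, 0, -62, 0, 0, -8, -108, -100, 0, 14, -142, 0, 0, 254, 0, 0, 136, 182, -222, 66, 2, 0, 0],
  [0, 6, 0, 28, 0, 0, 2, 50, 44, 0, -8, 62, 0, 0, -114, 0, 0, -60, -80, 98, -30, 0, 2, 0],
  [0, 16, 0, 64, 0, 0, 8, 116, 104, 0, -20, 144, 0, 0, -264, 0, 0, -140, -188, 228, -68, 0, 0, 0],
  [0, 4, 0, 8, 0, 0, 0, 16, 12, 0, -4, 16, 0, 0, -32, 0, 0, -16, -24, 28, -8, 0, 0, 0],
  [0, 0, 0, -4, 0, 0, 0, -4, -4, 0, 0, -8, 0, 0, 12, 0, 0, 8, 8, -12, 4, 0, 0, 0],
  [0, -16, 0, -72, 0, 0, -8, -128, -116, 0, 20, -164, 0, 0, 296, 0, 0, 156, 212, -256, 76, 0, 0, 0],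
  [0, -4, 0, -12, 0, 0, 0, -24, -20, 0, 4, -28, 0, 0, 52, 0, 0, 28, 36, -44, 12, 0, 0, 0],
  [0, 8, 0, 36, 0, 0, 4, 64, 60, 0, -8, 84, 0, 0, -152, 0, 0, -80, -108, 132, -40, 0, 0, 0],
  [0, 0, 0, -8, 0, 0, 0, -12, -12, 0, 0, -16, 0, 0, 28, 0, 0, 16, 20, -24, 8, 0, 0, 0],
  [0, 12, 0, 60, 0, 0, 8, 108, 96, 0, -16, 136, 0, 0, -248, 0, 0, -132, -176, 216, -64, 0, 0, 0],
  [0, 16, 0, 68, 0, 0, 8, 124, 112, 0, -20, 156, 0, 0, -284, 0, 0, -152, -204, 248, -72, 0, 0, 0],
  [0, -8, 0, -36, 0, 0, -4, -68, -60, 0, 12, -84, 0, 0, 152, 0, 0, 80, 108, -132, 40, 0, 0, 0],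
  [0, 20, 0, 88, 0, 0, 12, 160, 144, 0, -24, 204, 0, 0, -368, 0, 0, -196, -264, 320, -96, 0, 0, 0],
  [1, -43, 1, -175, 1, 1, -23, -315, -287, 1, 49, -399, 1, 1, 725, 1, 1, 385, 521, -631, 185, 1, 1, 1],
  [0, -40, 0, -160, 0, 0, -24, -296, -264, 0, 48, -368, 0, 0, 680, 0, 0, 360, 488, -592, 176, 0, 0, 0]]

private theorem du_ok : (sh du = true ∧ du.length = 24 ∧ du.all leechB = true) ∧ sh (sel.map fun a => gens.getD a []) = true ∧
    prd du (sel.map fun a => gens.getD a []) 8 = true ∧ ∀ s < 24, sel.getD s 0 < 49 ∧ (sel.map fun a => gens.getD a []).getD s [] =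
      gens.getD (sel.getD s 0) [] := by decide +kernel

private theorem maskL_lt : ∀ l : List ℤ, maskL l < 2 ^ l.length
  | [] => Nat.one_pos
  | a :: t => by
    have := maskL_lt t
    show (a % 2).toNat + 2 * maskL t < 2 ^ (t.length + 1)
    omega

private theorem leechB_of {l : List ℤ} (hl : l.length = 24) (h : vec l ∈ leechLattice) : leechB l = true := by
  obtain ⟨m, z, h1, h2, h3⟩ := (LeechSet.mem_leechLattice_iff' _).1 h
  have h0 : l.headD 0 = m + 2 * z (GolayBase.pt 0) := by
    rw [← h1, vec_apply, GolayBase.idx_pt (by decide)]; cases l <;> rfl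
  have h4 : ∀ i (hi : i < l.length), l[i] = m + 2 * z (GolayBase.pt i) := fun i hi => by
    rw [← h1, vec_apply, GolayBase.idx_pt (hl ▸ hi), List.getD_eq_getElem _ _ hi]
  rw [sum_vec l hl.le] at h2
  have h5 := (GolayBase.mem_golayCode_iff _).1 (golayCode.add_mem h3 (golayCode.smul_mem ((m / 2 : ℤ) : ZMod 2) LeechSet.one_mem_golayCode))
  simp only [leechB, Bool.and_eq_true, List.all_eq_true, decide_eq_true_eq]
  refine ⟨⟨⟨hl ▸ Nat.beq_refl _, fun a ha => ?_⟩, by have : l.sum % 8 = 4 * m % 8 := h2; omega⟩, ?_⟩
  · obtain ⟨i, hi, rfl⟩ := List.getElem_of_mem ha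
    have := h4 i hi
    (clear * - h0 this; omega)
  · convert h5 using 2
    refine GolayBase.eq_of_testBit_idx (by have := maskL_lt (l.map fun a => (a - l.headD 0 % 2) / 2); rwa [List.length_map, hl] at this)
      (GolayBase.maskW_lt _) fun p => ?_
    have hp : GolayBase.idx p < l.length := hl ▸ GolayBase.idx_lt p
    rw [testBit_maskL, GolayBase.testBit_maskW, List.getD_eq_getElem _ _ (by rwa [List.length_map]), List.getElem_map, h4 _ hp,
      GolayBase.pt_idx, decide_eq_decide, Pi.add_apply, Pi.smul_apply, Pi.one_apply, smul_eq_mul, mul_one, ← Int.cast_add, Ne,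
      ZMod.intCast_zmod_eq_zero_iff_dvd, Nat.cast_ofNat]
    omega

private theorem pres_of {A : List (List ℤ)} (hl : A.length = 24)
    (h : ∀ a b, a < 49 → b < 49 → 64 ∣ ∑ i ∈ range 24, en gens b i * ∑ j ∈ range 24, en A i j * en gens a j) : presB A = true := by
  obtain ⟨⟨d1, d2, d3⟩, d4, d5, d6⟩ := du_ok
  refine List.all_eq_true.2 fun g hg => ?_
  obtain ⟨a, ha, rfl⟩ := List.getElem_of_mem hg
  rw [← List.getD_eq_getElem _ [] ha]
  have e1 : ∀ i, dotL (gens.getD a []) (A.getD i []) = ∑ j ∈ range 24, en A i j * en gens a j := fun i =>
    (sum_range_getD _ _ 24 (sh_le sh_gens.1 a)).symm.trans (sum_congr rfl fun j _ => mul_comm _ _)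
  have h1 : ∀ s, ∃ c : ℤ, s < 24 → ∑ i ∈ range 24, en (sel.map fun a => gens.getD a []) s i * dotL (gens.getD a []) (A.getD i []) = 64 * c :=
    fun s => by
      by_cases hs : s < 24
      · obtain ⟨c, hc⟩ := h a _ (sh_gens.2 ▸ ha) (d6 s hs).1
        exact ⟨c, fun _ => by simp only [e1]; rw [← hc]; unfold en; rw [(d6 s hs).2]⟩
      · exact ⟨0, fun h => absurd h hs⟩
  choose c hc using h1
  have h2 : ∀ i < 24, dotL (gens.getD a []) (A.getD i []) = 8 * ∑ s ∈ range 24, c s * en du s i := fun i hi => by
    refine mul_left_cancel₀ (show (8 : ℤ) ≠ 0 by decide) ?_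
    have e2 : ∑ j ∈ range 24, (∑ s ∈ range 24, en du s i * en (sel.map fun a => gens.getD a []) s j) * dotL (gens.getD a []) (A.getD j []) =
        8 * dotL (gens.getD a []) (A.getD i []) := by
      rw [sum_eq_single i (fun j hj h => by rw [prd_spec d1 d4 d2 (by decide) d5 hi (mem_range.1 hj), if_neg h.symm, zero_mul])
        (fun h => absurd (mem_range.2 hi) h), prd_spec d1 d4 d2 (by decide) d5 hi hi, if_pos rfl]
    rw [← e2]
    simp only [sum_mul, mul_sum, mul_assoc]
    rw [sum_comm]
    exact sum_congr rfl fun s hs => by rw [← mul_sum, hc s (mem_range.1 hs)]; ring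
  refine Bool.and_eq_true_iff.2 ⟨List.all_eq_true.2 fun r hr => decide_eq_true ?_, leechB_of (by rw [List.length_map, hl]) ?_⟩
  · obtain ⟨i, hi, rfl⟩ := List.getElem_of_mem hr
    rw [← List.getD_eq_getElem _ [] hi, h2 i (hl ▸ hi)]
    exact Int.mul_emod_right _ _
  · have e3 : vec (A.map fun r => dotL (gens.getD a []) r / 8) = ∑ s ∈ range 24, c s • vec (du.getD s []) := funext fun p => by
      have hp : GolayBase.idx p < A.length := hl ▸ GolayBase.idx_lt p
      rw [vec_apply, List.getD_eq_getElem _ _ (by rwa [List.length_map]), List.getElem_map, ← List.getD_eq_getElem _ [] hp,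
        h2 _ (GolayBase.idx_lt p), Int.mul_ediv_cancel_left _ (by decide), Finset.sum_apply]
      rfl
    rw [e3]
    exact sum_mem fun s hs => leechLattice.zsmul_mem
      (vec_mem_of_leechB (List.all_eq_true.1 d3 _ (getD_mem_of_lt _ [] (d2 ▸ mem_range.1 hs)))) _

/-- all checks -/
private noncomputable def okq (R C : List (List ℤ)) : Bool :=
  Nat.beq R.length 24 && Nat.beq C.length 24 && sh R && sh C && trZ R C && prd R R 64 && prd C C 64 && prs R

private theorem ok_of {R C : List (List ℤ)} (h : okq R C = true) : Ok R C := by
  simp only [okq, Bool.and_eq_true] at h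
  obtain ⟨⟨⟨⟨⟨⟨⟨h1, h2⟩, h3⟩, h4⟩, h5⟩, h6⟩, h7⟩, h8⟩ := h
  have hR := Nat.eq_of_beq_eq_true h1
  have hC := Nat.eq_of_beq_eq_true h2
  have ht : ∀ i < 24, ∀ j < 24, en R i j = en C j i := fun i hi j hj => trZ_spec h5 i j (hR ▸ hi) (hC ▸ hj)
  have ble : ∀ {M : List (List ℤ)}, sh M = true → (M.all fun r => Nat.ble r.length 24) = true := fun hM =>
    List.all_eq_true.2 fun r hr => Nat.ble_eq_true_of_le (sh_len hM hr).le
  have orth : ∀ {A B : List (List ℤ)}, sh A = true → sh B = true → A.length = 24 → (∀ i < 24, ∀ j < 24, en A i j = en B j i) →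
      prd A A 64 = true → orthB B = true := fun {A B} hA hB hl ht hp =>
    List.all_eq_true.2 fun i hi => List.all_eq_true.2 fun j hj => decide_eq_true (by
      rw [← prd_spec hA hA hl (by decide) hp (List.mem_range.1 hi) (List.mem_range.1 hj), ← sum_range_getD _ _ 24 (sh_le hB i)]
      exact sum_congr rfl fun k hk => (congrArg₂ _ (ht k (mem_range.1 hk) i (List.mem_range.1 hi))
        (ht k (mem_range.1 hk) j (List.mem_range.1 hj))).symm)
  refine ⟨hR, hC, ble h3, ble h4, List.all_eq_true.2 fun i hi => List.all_eq_true.2 fun j hj =>
    decide_eq_true (ht i (List.mem_range.1 hi) j (List.mem_range.1 hj)), orth h4 h3 hC (fun i hi j hj => (ht j hj i hi).symm) h7,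
    orth h3 h4 hR ht h6, pres_of hR (prs_spec h3 h8), pres_of hC fun a b ha hb => ?_⟩
  convert prs_spec h3 h8 b a hb ha using 1
  simp only [mul_sum]
  rw [sum_comm]
  exact sum_congr rfl fun i hi => sum_congr rfl fun j hj => by rw [ht i (mem_range.1 hi) j (mem_range.1 hj)]; ring

private theorem orthZ_of : ∀ R : List (List ℤ), (∀ i < R.length, ∀ j < R.length,
    dotL (R.getD i []) (R.getD j []) = if i = j then 64 else 0) → orthZ R = true
  | [], _ => rfl
  | r :: t, h => Bool.and_eq_true_iff.2 ⟨Bool.and_eq_true_iff.2 ⟨decide_eq_true ((dotZ_eq r r).trans (h 0 (Nat.succ_pos _) 0 (Nat.succ_pos _))),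
      List.all_eq_true.2 fun s hs => decide_eq_true (by
        obtain ⟨j, hj, rfl⟩ := List.getElem_of_mem hs
        rw [dotZ_eq, ← List.getD_eq_getElem _ [] hj]
        exact h 0 (Nat.succ_pos _) (j + 1) (Nat.succ_lt_succ hj))⟩,
      orthZ_of t fun i hi j hj => (h (i + 1) (Nat.succ_lt_succ hi) (j + 1) (Nat.succ_lt_succ hj)).trans
        (if_congr Nat.succ_inj rfl rfl)⟩

/-- the slow check follows -/
private theorem okz_of {R C : List (List ℤ)} (h : okq R C = true) : okZ R C = true := by
  have ho := ok_of h
  simp only [okq, Bool.and_eq_true] at h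
  obtain ⟨⟨⟨⟨⟨⟨⟨h1, h2⟩, h3⟩, h4⟩, h5⟩, -⟩, -⟩, -⟩ := h
  have len : ∀ {M : List (List ℤ)}, sh M = true → (M.all fun r => Nat.beq r.length 24) = true := fun hM =>
    List.all_eq_true.2 fun r hr => (Bool.and_eq_true_iff.1 (List.all_eq_true.1 hM r hr)).1
  have orth : ∀ {M : List (List ℤ)}, M.length = 24 → orthB M = true → orthZ M = true := fun {M} hM hB => orthZ_of M fun i hi j hj =>
    of_decide_eq_true (List.all_eq_true.1 (List.all_eq_true.1 hB i (List.mem_range.2 (hM ▸ hi))) j (List.mem_range.2 (hM ▸ hj)))
  have pres : ∀ {M : List (List ℤ)}, presB M = true → presZ M = true := fun {M} hB => List.all_eq_true.2 fun g hg => by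
    obtain ⟨p1, p2⟩ := Bool.and_eq_true_iff.1 (List.all_eq_true.1 hB g hg)
    refine Bool.and_eq_true_iff.2 ⟨List.all_eq_true.2 fun a ha => ?_, ?_⟩
    · obtain ⟨r, hr, rfl⟩ := List.mem_map.1 ha
      rw [dotZ_eq, of_decide_eq_true (List.all_eq_true.1 p1 r hr)]
      rfl
    · rw [List.map_map]
      exact (congrArg (fun f => leechB (List.map f M)) (funext fun r => congrArg (· / 8) (dotZ_eq g r))).trans p2
  exact Bool.and_eq_true_iff.2 ⟨Bool.and_eq_true_iff.2 ⟨Bool.and_eq_true_iff.2 ⟨Bool.and_eq_true_iff.2 ⟨Bool.and_eq_true_iff.2
    ⟨Bool.and_eq_true_iff.2 ⟨Bool.and_eq_true_iff.2 ⟨Bool.and_eq_true_iff.2 ⟨h1, h2⟩, len h3⟩, len h4⟩, h5⟩, orth ho.lenR ho.oR⟩,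
    orth ho.lenC ho.oC⟩, pres ho.pR⟩, pres ho.pC⟩

section
open Cfsg.Agent.CoOneType.CoEval (ap length_ap)
open Cfsg.Agent.LThreeMB.Fix (addL mulL res halfB latB getD_addL length_addL vec_addL lat_spec length_of_leechB tri)

private def tn (R : List (List ℤ)) : ℕ → List ℤ → List ℤ
  | 0, _ => []
  | n + 1, l => addL l (tn R n (ap R l))

private theorem getD_mulL (c : ℤ) (l : List ℤ) (j : ℕ) : (mulL c l).getD j 0 = c * l.getD j 0 := by
  have : (l.map fun a => c * a).getD j (c * 0) = c * l.getD j 0 := List.getD_map (f := fun a => c * a) ..
  rwa [mul_zero] at this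

private theorem dcomm {r l : List ℤ} (hr : r.length ≤ 24) (hl : l.length ≤ 24) : dotL r l = dotL l r := by
  rw [← dotInt_vec _ _ hr, dotInt_comm, dotInt_vec _ _ hl]

private def Lt (l : List ℤ) : Prop := l.length = 24 ∧ vec l ∈ leechLattice

private def Bd (c : ℤ) (l : List ℤ) : Prop := ∀ j, |l.getD j 0| ≤ c

private def Pq (s : ℤ) (F : ℕ → List ℤ) (G : List ℤ) : Prop :=
  ∀ j < 24, G.getD j 0 = s * ∑ a ∈ range 49, (F a).getD j 0 * (2 ^ 256) ^ a

private theorem ap_get {R : List (List ℤ)} (l : List ℤ) {j : ℕ} (hj : j < R.length) :
    (ap R l).getD j 0 = dotL l (R.getD j []) / 8 := by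
  show (R.map fun r => dotL l r / 8).getD j 0 = _
  rw [List.getD_eq_getElem _ _ (by rwa [List.length_map]), List.getElem_map, List.getD_eq_getElem _ _ hj]

private theorem lt_ap {R : List (List ℤ)} (hl : R.length = 24) (hp : presB R = true) {l : List ℤ} (h : Lt l) :
    Lt (ap R l) ∧ ∀ j < 24, 8 ∣ dotL l (R.getD j []) := by
  obtain ⟨h1, h2⟩ := act_mem hl hp _ h.2
  refine ⟨⟨length_ap hl l, (act_vec hl h.1.le) ▸ h2⟩, fun j hj => ?_⟩
  have h3 : (8 : ℤ) ∣ dotInt (vec l) (vec (R.getD (GolayBase.idx (GolayBase.pt j)) [])) := h1 _
  rwa [GolayBase.idx_pt hj, dotInt_vec _ _ h.1.le] at h3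

private theorem lt_tn {R : List (List ℤ)} (hl : R.length = 24) (hp : presB R = true) : ∀ (n : ℕ) {l : List ℤ}, Lt l →
    (tn R n l).length ≤ 24 ∧ vec (tn R n l) ∈ leechLattice
  | 0, _, _ => ⟨Nat.zero_le _, (show (0 : GolayPt → ℤ) = vec [] from funext fun _ => rfl) ▸ leechLattice.zero_mem⟩
  | n + 1, l, h => by
    obtain ⟨h1, h2⟩ := lt_tn hl hp n (lt_ap hl hp h).1
    show (addL l (tn R n (ap R l))).length ≤ 24 ∧ vec (addL l (tn R n (ap R l))) ∈ leechLattice
    rw [length_addL, vec_addL]
    exact ⟨max_le h.1.le h1, leechLattice.add_mem h.2 h2⟩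

private theorem bd_dot {c : ℤ} {l r : List ℤ} (hr : r.length ≤ 24) (h : Bd c l) (h' : Bd 1000 r) : |dotL r l| ≤ 24000 * c := by
  rw [← sum_range_getD _ _ 24 hr]
  exact (abs_sum fun i => abs_mul' (h' i) (h i)).trans_eq (by ring)

private theorem abs_div {x c : ℤ} (h : |x| ≤ c) : |x / 8| ≤ c := by
  rw [abs_le] at h ⊢
  omega

private theorem bd_tn {R : List (List ℤ)} (hR : sh R = true) (hl : R.length = 24) : ∀ (n : ℕ) {c : ℤ} {l : List ℤ},
    l.length = 24 → Bd c l → Bd (32768 ^ n * c) (tn R n l)
  | 0, c, _, _, h => fun j => (show |(0 : ℤ)| ≤ c from abs_zero.trans_le ((abs_nonneg _).trans (h 0))).trans_eq (by ring)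
  | n + 1, c, l, h1, h => fun j => by
    have hc : 0 ≤ c := (abs_nonneg _).trans (h 0)
    have h2 : Bd (24000 * c) (ap R l) := fun i => by
      by_cases hi : i < R.length
      · rw [ap_get l hi, dcomm h1.le (sh_le hR i)]
        exact abs_div (bd_dot (sh_le hR i) h (sh_abs hR i))
      · rw [List.getD_eq_default _ _ (by rw [length_ap hl, ← hl]; exact not_lt.1 hi), abs_zero]
        exact mul_nonneg (by decide) hc
    have h3 := bd_tn hR hl n (length_ap hl l) h2 j
    have h4 : (1 : ℤ) * c ≤ 32768 ^ n * c := mul_le_mul_of_nonneg_right (one_le_pow₀ (by decide)) hc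
    show |(addL l (tn R n (ap R l))).getD j 0| ≤ _
    rw [getD_addL, pow_succ]
    refine (abs_add_le _ _).trans ?_
    linarith only [h j, h3, h4, hc]

private theorem bd_res {c : ℤ} {l : List ℤ} (hl : l.length = 24) (h : Bd c l) : ∀ vw : List (List ℤ × List ℤ),
    sh (vw.map Prod.fst) = true → sh (vw.map Prod.snd) = true →
    (res l vw).length = 24 ∧ Bd ((1 + vw.length * 24000000) * c) (res l vw)
  | [], _, _ => ⟨hl, fun j => (h j).trans_eq (by simp)⟩
  | p :: t, h1, h2 => by
    obtain ⟨h3, h4⟩ := bd_res hl h t (Bool.and_eq_true_iff.1 h1).2 (Bool.and_eq_true_iff.1 h2).2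
    have h5 : p.1.length = 24 := sh_len h1 List.mem_cons_self
    have h6 : p.2.length = 24 := sh_len h2 List.mem_cons_self
    refine ⟨?_, fun j => ?_⟩
    · show (addL (p.1.map _) (res l t)).length = 24
      rw [length_addL, List.length_map, h5, h3, max_self]
    · show |(addL (mulL (-(dotL l p.2 / 8)) p.1) (res l t)).getD j 0| ≤ _
      have h7 : |-(dotL l p.2 / 8)| ≤ 24000 * c := by
        rw [abs_neg, dcomm hl.le h6.le]
        exact abs_div (bd_dot h6.le h (sh_abs h2 0))
      have h8 := abs_mul' h7 (show |p.1.getD j 0| ≤ 1000 from sh_abs h1 0 j)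
      rw [getD_addL, getD_mulL, List.length_cons, Nat.cast_succ]
      refine (abs_add_le _ _).trans ?_
      linarith only [h8, h4 j]

private theorem dot_pq {s : ℤ} {F : ℕ → List ℤ} {G : List ℤ} (h : Pq s F G) {r : List ℤ} (hr : r.length ≤ 24) :
    dotL r G = s * ∑ a ∈ range 49, dotL r (F a) * (2 ^ 256) ^ a := by
  rw [← sum_range_getD _ _ 24 hr, sum_congr rfl fun j hj => congrArg _ (h j (mem_range.1 hj))]
  simp only [← sum_range_getD r _ 24 hr, sum_mul, mul_sum]
  rw [sum_comm]
  exact sum_congr rfl fun a _ => sum_congr rfl fun j _ => by ring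

private noncomputable def lq (R : List (List ℤ)) (n : ℕ) : List ℤ → List ℤ → List ℤ :=
  Nat.rec (fun _ A => A) (fun _ ih G A => ih (mv R G) (mulL 8 (addL A G))) n

private theorem lq_spec {R : List (List ℤ)} (hR : sh R = true) (hl : R.length = 24) (hp : presB R = true) :
    ∀ (n : ℕ) {s : ℤ} {F : ℕ → List ℤ} {G : List ℤ} (A : List ℤ), (∀ a < 49, Lt (F a)) → Pq s F G → ∀ j < 24,
      (lq R n G A).getD j 0 = 8 ^ n * (A.getD j 0 + s * ∑ a ∈ range 49, (tn R n (F a)).getD j 0 * (2 ^ 256) ^ a)
  | 0, s, F, G, A, _, _, j, _ => by
    show A.getD j 0 = 8 ^ 0 * (A.getD j 0 + s * ∑ a ∈ range 49, (0 : ℤ) * (2 ^ 256) ^ a)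
    simp only [zero_mul, sum_const_zero, mul_zero, add_zero, pow_zero, one_mul]
  | n + 1, s, F, G, A, hF, hG, j, hj => by
    have h1 : Pq (8 * s) (fun a => ap R (F a)) (mv R G) := fun i hi => by
      rw [mv_get, dot_pq hG (sh_le hR i), mul_comm 8 s, mul_assoc, mul_sum _ _ 8]
      refine congrArg _ (sum_congr rfl fun a ha => ?_)
      rw [ap_get _ (hl ▸ hi), ← mul_assoc, Int.mul_ediv_cancel' ((lt_ap hl hp (hF a (mem_range.1 ha))).2 i hi),
        dcomm (sh_le hR i) (hF a (mem_range.1 ha)).1.le]
    refine (lq_spec hR hl hp n (mulL 8 (addL A G)) (fun a ha => (lt_ap hl hp (hF a ha)).1) h1 j hj).trans ?_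
    show _ = _ * (_ + s * ∑ a ∈ range 49, (addL (F a) (tn R n (ap R (F a)))).getD j 0 * (2 ^ 256) ^ a)
    simp only [getD_mulL, getD_addL, add_mul, sum_add_distrib, hG j hj]
    ring

private noncomputable def rq (T : List ℤ) (vw : List (List ℤ × List ℤ)) : List ℤ :=
  List.rec (mulL 8 T) (fun p _ ih => addL (mulL (-dk p.2 T 0 0) p.1) ih) vw

private theorem rq_spec {s : ℤ} {F : ℕ → List ℤ} {T : List ℤ} (hF : ∀ a < 49, Lt (F a)) (hT : Pq s F T) :
    ∀ vw : List (List ℤ × List ℤ), latB vw = true → Pq (8 * s) (fun a => res (F a) vw) (rq T vw)
  | [], _ => fun j hj => (getD_mulL 8 T j).trans (by rw [hT j hj, mul_assoc]; rfl)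
  | p :: t, h => fun j hj => by
    have h1 := (lat_spec h List.mem_cons_self).2
    have h2 := (length_of_leechB h1).le
    show (addL (mulL (-dk p.2 T 0 0) p.1) (rq T t)).getD j 0 =
      _ * ∑ a ∈ range 49, (addL (mulL (-(dotL (F a) p.2 / 8)) p.1) (res (F a) t)).getD j 0 * (2 ^ 256) ^ a
    have h3 : ∀ a ∈ range 49, dotL p.2 (F a) * (2 ^ 256) ^ a = 8 * (dotL (F a) p.2 / 8 * (2 ^ 256) ^ a) := fun a ha => by
      have h4 := Cfsg.Agent.MonsterU.Lam2.dvd_dot ⟨_, (hF a (mem_range.1 ha)).2⟩ ⟨_, vec_mem_of_leechB h1⟩
      rw [dotInt_vec _ _ (hF a (mem_range.1 ha)).1.le] at h4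
      rw [← mul_assoc, Int.mul_ediv_cancel' h4, dcomm h2 (hF a (mem_range.1 ha)).1.le]
    rw [getD_addL, getD_mulL, dk0, dot_pq hT h2, sum_congr rfl h3, ← mul_sum, rq_spec hF hT t (Bool.and_eq_true_iff.1 h).2 j hj]
    simp only [getD_mulL, getD_addL, add_mul, sum_add_distrib, neg_mul, sum_neg_distrib, mul_right_comm _ (p.1.getD j 0),
      ← sum_mul]
    ring

private def ts1 (n : ℕ) (N : ℤ) : Bool :=
  Nat.beq (Nat.land (N + Int.ofNat (Nat.mul (Nat.pow 2 255) (jj 256 n))).toNat (Nat.mul 15 (jj 256 n))) 0

private theorem key1 {n : ℕ} (d : ℕ → ℤ) (hd : ∀ a, |d a| < 2 ^ 255) (h : ts1 n (∑ a ∈ range n, d a * (2 ^ 256) ^ a) = true) (a : ℕ)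
    (ha : a < n) : 16 ∣ d a := by
  have h1 : ∀ a, (((d a + 2 ^ 255).toNat : ℕ) : ℤ) = d a + 2 ^ 255 := fun a =>
    Int.toNat_of_nonneg (by linarith only [(abs_lt.1 (hd a)).1])
  have h2 : ∀ a, (d a + 2 ^ 255).toNat < 2 ^ 256 := fun a => by
    have := (abs_lt.1 (hd a)).2
    have := h1 a
    omega
  have h4 := Nat.eq_of_beq_eq_true h
  have e1 : (∑ a ∈ range n, d a * (2 ^ 256) ^ a) + Int.ofNat (Nat.mul (Nat.pow 2 255) (jj 256 n)) =
      ((∑ a ∈ range n, (d a + 2 ^ 255).toNat * (2 ^ 256) ^ a : ℕ) : ℤ) := by
    show _ + ((2 ^ 255 * jj 256 n : ℕ) : ℤ) = _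
    rw [jj_eq (by decide)]
    simp only [Nat.cast_sum, Nat.cast_mul, Nat.cast_pow, Nat.cast_ofNat, h1, add_mul, sum_add_distrib]
    rw [← mul_sum]
  have e2 : Nat.mul 15 (jj 256 n) = ∑ a ∈ range n, 15 * (2 ^ 256) ^ a := by
    show 15 * jj 256 n = _
    rw [jj_eq (by decide), ← mul_sum]
  rw [e1, e2, Int.toNat_natCast] at h4
  have h5 : (d a + 2 ^ 255).toNat &&& (2 ^ 4 - 1) = 0 := land_dig 256 15 (by decide) n _ h2 h4 a ha
  rw [Nat.and_two_pow_sub_one_eq_mod] at h5
  have := h1 a
  omega

private theorem half_of {l : List ℤ} (hl : l.length = 24)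
    (h : ∀ s < 24, 16 ∣ dotL ((sel.map fun a => gens.getD a []).getD s []) l) : halfB l = true := by
  obtain ⟨⟨d1, d2, d3⟩, d4, d5, -⟩ := du_ok
  have h1 : ∀ s, ∃ c : ℤ, s < 24 → ∑ i ∈ range 24, en (sel.map fun a => gens.getD a []) s i * l.getD i 0 = 16 * c := fun s => by
    by_cases hs : s < 24
    · obtain ⟨c, hc⟩ := h s hs
      exact ⟨c, fun _ => (sum_range_getD _ _ 24 (sh_le d4 s)).trans hc⟩
    · exact ⟨0, fun h => absurd h hs⟩
  choose c hc using h1
  have h2 : ∀ i < 24, l.getD i 0 = 2 * ∑ s ∈ range 24, c s * en du s i := fun i hi => by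
    refine mul_left_cancel₀ (show (8 : ℤ) ≠ 0 by decide) ?_
    have e2 : ∑ j ∈ range 24, (∑ s ∈ range 24, en du s i * en (sel.map fun a => gens.getD a []) s j) * l.getD j 0 = 8 * l.getD i 0 := by
      rw [sum_eq_single i (fun j hj h => by rw [prd_spec d1 d4 d2 (by decide) d5 hi (mem_range.1 hj), if_neg h.symm, zero_mul])
        (fun h => absurd (mem_range.2 hi) h), prd_spec d1 d4 d2 (by decide) d5 hi hi, if_pos rfl]
    rw [← e2]
    simp only [sum_mul, mul_sum, mul_assoc]
    rw [sum_comm]
    exact sum_congr rfl fun s hs => by rw [← mul_sum, hc s (mem_range.1 hs)]; ring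
  refine Bool.and_eq_true_iff.2 ⟨List.all_eq_true.2 fun r hr => decide_eq_true ?_, leechB_of (by rw [List.length_map, hl]) ?_⟩
  · obtain ⟨i, hi, rfl⟩ := List.getElem_of_mem hr
    rw [← List.getD_eq_getElem _ 0 hi, h2 i (hl ▸ hi)]
    exact Int.mul_emod_right _ _
  · have e3 : vec (l.map fun a => a / 2) = ∑ s ∈ range 24, c s • vec (du.getD s []) := funext fun p => by
      have hp : GolayBase.idx p < l.length := hl ▸ GolayBase.idx_lt p
      rw [vec_apply, List.getD_eq_getElem _ _ (by rwa [List.length_map]), List.getElem_map, ← List.getD_eq_getElem _ 0 hp,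
        h2 _ (GolayBase.idx_lt p), Int.mul_ediv_cancel_left _ (by decide), Finset.sum_apply]
      rfl
    rw [e3]
    exact sum_mem fun s hs => leechLattice.zsmul_mem
      (vec_mem_of_leechB (List.all_eq_true.1 d3 _ (getD_mem_of_lt _ [] (d2 ▸ mem_range.1 hs)))) _

/-- the check for `1 + R + .. + R ^ n` -/
private noncomputable def spq (n : ℕ) (R : List (List ℤ)) (vw : List (List ℤ × List ℤ)) : Bool :=
  Nat.beq R.length 24 && sh R && prs R && Nat.ble n 11 && Nat.ble vw.length 24 && sh (vw.map Prod.fst) && sh (vw.map Prod.snd) &&
    latB vw && (mv (sel.map fun a => gens.getD a []) (rq (lq R (Nat.succ n) (pk (Int.ofNat (Nat.pow 2 256)) gens) []) vw)).all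
      fun N => ts1 49 (N / Int.ofNat (Nat.pow 8 (Nat.add n 2)))

private theorem spq_spec {n : ℕ} {R : List (List ℤ)} {vw : List (List ℤ × List ℤ)} (h : spq n R vw = true) :
    (gens.all fun g => halfB (res (tn R (n + 1) g) vw)) = true := by
  simp only [spq, Bool.and_eq_true] at h
  obtain ⟨⟨⟨⟨⟨⟨⟨⟨h1, hR⟩, h3⟩, h4⟩, h5⟩, h6⟩, h7⟩, h8⟩, h9⟩ := h
  have hl := Nat.eq_of_beq_eq_true h1
  have hp := pres_of hl (prs_spec hR h3)
  have d4 := du_ok.2.1
  have hg : ∀ a < 49, Lt (gens.getD a []) := fun a ha =>
    have hm := getD_mem_of_lt gens [] (sh_gens.2 ▸ ha)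
    ⟨sh_len sh_gens.1 hm, vec_mem_of_leechB (List.all_eq_true.1 gens_leech _ hm)⟩
  have ht : ∀ a < 49, Lt (tn R (n + 1) (gens.getD a [])) := fun a ha => by
    refine ⟨?_, (lt_tn hl hp _ (hg a ha)).2⟩
    show (addL _ _).length = 24
    rw [length_addL, (hg a ha).1]
    exact max_eq_left (lt_tn hl hp n (lt_ap hl hp (hg a ha)).1).1
  have p0 : Pq 1 (fun a => gens.getD a []) (pk (Int.ofNat (Nat.pow 2 256)) gens) := fun j hj => by
    rw [(pk_spec _ _ sh_gens.1).2 j hj, sh_gens.2, one_mul, show Int.ofNat (Nat.pow 2 256) = 2 ^ 256 from Nat.cast_pow 2 256]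
    rfl
  have p1 : Pq (8 ^ (n + 1)) (fun a => tn R (n + 1) (gens.getD a [])) (lq R (n + 1) (pk (Int.ofNat (Nat.pow 2 256)) gens) []) :=
    fun j hj => by rw [lq_spec hR hl hp _ [] hg p0 j hj, List.getD_nil, zero_add, one_mul]
  have p2 := rq_spec ht p1 vw h8
  have hb : ∀ a < 49, (res (tn R (n + 1) (gens.getD a [])) vw).length = 24 ∧
      Bd (2 ^ 230) (res (tn R (n + 1) (gens.getD a [])) vw) := fun a ha => by
    obtain ⟨b1, b2⟩ := bd_res (ht a ha).1 (bd_tn hR hl (n + 1) (hg a ha).1 (sh_abs sh_gens.1 a)) vw h6 h7
    refine ⟨b1, fun j => (b2 j).trans ?_⟩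
    have b3 : (32768 : ℤ) ^ (n + 1) ≤ 32768 ^ 12 := pow_le_pow_right₀ (by decide) (Nat.succ_le_succ (Nat.le_of_ble_eq_true h4))
    have b4 : (vw.length : ℤ) ≤ 24 := Int.ofNat_le.2 (Nat.le_of_ble_eq_true h5)
    exact (mul_le_mul (show _ ≤ (1 + 24 * 24000000 : ℤ) by linarith only [b4]) (mul_le_mul_of_nonneg_right b3 (by decide))
      (mul_nonneg (pow_nonneg (by decide) _) (by decide)) (by decide)).trans (by decide)
  refine List.all_eq_true.2 fun g hg' => ?_
  obtain ⟨a, ha, rfl⟩ := List.getElem_of_mem hg'
  rw [← List.getD_eq_getElem _ [] ha]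
  rw [sh_gens.2] at ha
  refine half_of (hb a ha).1 fun s hs => ?_
  have k1 := List.all_eq_true.1 h9 _ (getD_mem_of_lt _ 0 (show s < _ by rw [mv_len, List.length_map]; exact hs))
  rw [mv_get, dot_pq p2 (sh_le d4 s), show Int.ofNat (Nat.pow 8 (Nat.add n 2)) = 8 * 8 ^ (n + 1) from
    (Nat.cast_pow 8 (n + 2)).trans (pow_succ' _ _), Int.mul_ediv_cancel_left _ (by positivity)] at k1
  have k2 := key1 (fun a => if a < 49 then dotL ((sel.map fun a => gens.getD a []).getD s [])
    (res (tn R (n + 1) (gens.getD a [])) vw) else 0) (fun a => by
      split_ifs with ha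
      · exact lt_of_le_of_lt (bd_dot (sh_le d4 s) (hb a ha).2 (sh_abs d4 s)) (by decide)
      · decide) (by rw [sum_congr rfl fun a ha => by rw [if_pos (mem_range.1 ha)]]; exact k1) a ha
  rwa [if_pos ha] at k2

private theorem spanN {n : ℕ} {R : List (List ℤ)} {vw : List (List ℤ × List ℤ)} (h : spq n R vw = true) :
    Cfsg.Agent.MFive.FixN.spanB (n + 1) R vw = true := by
  have e : ∀ (k : ℕ) (l : List ℤ), Cfsg.Agent.MFive.FixN.trn R k l = tn R k l := fun k => by
    induction k with
    | zero => exact fun _ => rfl
    | succ k ih => exact fun l => congrArg (addL l) (ih _)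
  exact (congrArg (fun f => gens.all f) (funext fun g => congrArg (fun x => halfB (res x vw)) (e _ g))).trans (spq_spec h)
end

end Cfsg.Agent.Co0Q_H101_RealFinal

-- part: H799/RO/McLFive
section
/-!
# Elements of orders 2 and 5 of `McL` (helper799)

`gA` inverts `gX` (of order 5, fixed rank 8) and commutes with `gY` (of order 5, fixed rank 4).

Generated by a script; checked by the kernel.
-/

set_option autoImplicit false
set_option maxRecDepth 100000

namespace Cfsg.Agent.H799.RO.McLFive

open Cfsg Cfsg.Agent.SporadicA Cfsg.Agent.SporadicStructure.Co0Matrix Cfsg.Agent.CoOneType.CoEval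
open Cfsg.Agent.LThreeCo1.Ev Cfsg.Agent.LThreeMB.Fix Cfsg.Agent.MFive.FixN Cfsg.Agent.H573.Spor.Co0
open Cfsg.Agent.LThreeMB (fr)
open Cfsg.Spor (Co1)

/-- matrix code -/
def nA : ℕ := 0xb420e842109421084a508421084a5284a5073a52849d29421273a527421084a50749ce849ce9421294a4e9421074216842109421084a508421084a52839d0949d284a4e9421273a529421083a5094a52849d274212749ce94210849d074a5283a529420e74a4e94210849d094a52849ce7420e94a527421094212842107421083ad084210839ce84a50949d284a529420e939ce74210839d093a4e84a529421294a4e74210849d074a4e84a5274212939d29421084a5093a4e84a4e9420e749d294210942128421074210859d084210839ce9421284210b4210839d084210839ce84a50949ce83a527421274a527421083a50739d284a527420e94a529421083a5074a5283a4e94212949d27421084a5093a5283a4e7421293a4e94210849d0939d2839d294212949d29421083a5094a4e839d29420e93a5294210942128421074210839d084210859ce942128421074210839d08421083ace942128421074210839d084210839d6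

/-- matrix code -/
def nX : ℕ := 0xb420e842109421084a508421084a5283a5094a4e839d29420e93a529421084a5093a5283a4e7421293a4e94210849d074a5283a529420e74a4e94210942128421074210859d084210839ce83a5094a52849d274212749ce9421074216842109421084a508421084a5294212842107421083ad084210839ce849d094a52849ce7420e94a527421084a50949d284a529420e939ce74210839d093a4e84a529421294a4e7421084a50949ce83a527421274a5274210942128421074210839d08421083ace839d0949d284a4e9421273a52942109421284210b4210839d084210839ce849d074a4e84a5274212939d294210849d0939d2839d294212949d29421083a5074a5283a4e94212949d27421084a50749ce849ce9421294a4e9421083a50739d284a527420e94a529421084a5073a52849d29421273a5274210942128421074210839d084210859ce84a5093a4e84a4e9420e749d294210942128421074210839d084210839d6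

/-- matrix code -/
def nY : ℕ := 0xac62f8bdf18c5ef8c62f8ce318c6338c6338bdf18c5ef6c5b36be318c62f8c62f8cdf16c5f38b62f6be318c62f7bdf19c62f9be317be717c66f9bdf18b62f6bdf18c6736c62f8be318c62f7cdf17c62f7ce317bdf19c5f39bdf17ce717c6337be317ce717c5ef7bdf18c6338bded8c5f38c62f8be316b62f8b62f8be716c5ef8c6338be318b62f8c5af8bdf18b5f38c6338bdb18c62f9bdf17c62f7be317bdf17d5ef7bded7bdf17c62f7be319cdf17c6737cdf18c5af8ce718c5ef6c62f8be316c62f8c62f8bdf18c66f8b6338be316c5af8c62f8cdf18b66f8c5af8be318b62f7be719c62f7be317bdf19c5ef7ce718c62f8be6d8c66f8c62f6bdb18c62f7bdf17c6339ce319bdf17c5ef7be718c62f6cded8c5ef8c6338be2d8c62f8c5b38bdf16c66f8c62f8be2d8c62f8c62f8be718c5f38c5af8be2d8c5af8c6336be718b5ef8b62f8be318c62f8b6338cdf18c5ef8c62f8bdb18c5af9bdf17c62f7be317bdf17b5ef7bdf5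

theorem okA : okN nA = true := Cfsg.Agent.Co0Q_H101_RealFinal.okz_of (by decide +kernel)
theorem okX : okN nX = true := Cfsg.Agent.Co0Q_H101_RealFinal.okz_of (by decide +kernel)
theorem okY : okN nY = true := Cfsg.Agent.Co0Q_H101_RealFinal.okz_of (by decide +kernel)

/-- element -/
def gA : Co0 := mk (ok_of_okN okA)
theorem repA : _root_.Cfsg.Agent.CoOneType.CoEval.Rep gA (dec nA) := rep_mk _
/-- element -/
def gX : Co0 := mk (ok_of_okN okX)
theorem repX : _root_.Cfsg.Agent.CoOneType.CoEval.Rep gX (dec nX) := rep_mk _
/-- element -/
def gY : Co0 := mk (ok_of_okN okY)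
theorem repY : _root_.Cfsg.Agent.CoOneType.CoEval.Rep gY (dec nY) := rep_mk _

/-- the elements -/
def e : ℕ → Co0
  | 0 => gA
  | 1 => gX
  | _ => gY

/-- their matrices -/
def Ms : ℕ → List (List ℤ)
  | 0 => dec nA
  | 1 => dec nX
  | _ => dec nY

theorem hM : ∀ i, _root_.Cfsg.Agent.CoOneType.CoEval.Rep (e i) (Ms i)
  | 0 => repA
  | 1 => repX
  | _ + 2 => repY

theorem a_sq : gA ^ 2 = 1 := by
  have h := eq_of_eqB hM (w := [0, 0]) (w' := []) (by decide +kernel)
  simpa only [e, pow_succ, mul_assoc, _root_.pow_zero, _root_.one_mul, _root_.List.map_cons, _root_.List.map_nil, _root_.List.prod_cons, _root_.List.prod_nil, _root_.mul_one] using h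
theorem a_ne : gA ≠ 1 := by
  have h := ne_of_neB' hM (w := [0]) (w' := []) (by decide +kernel)
  simpa [e, pow_succ, mul_assoc] using h
theorem x_pow : gX ^ 5 = 1 := by
  have h := eq_of_eqB hM (w := [1, 1, 1, 1, 1]) (w' := []) (by decide +kernel)
  simpa only [e, pow_succ, mul_assoc, _root_.pow_zero, _root_.one_mul, _root_.List.map_cons, _root_.List.map_nil, _root_.List.prod_cons, _root_.List.prod_nil, _root_.mul_one] using h
theorem x_ne : gX ≠ 1 := by
  have h := ne_of_neB' hM (w := [1]) (w' := []) (by decide +kernel)
  simpa [e, pow_succ, mul_assoc] using h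
theorem y_pow : gY ^ 5 = 1 := by
  have h := eq_of_eqB hM (w := [2, 2, 2, 2, 2]) (w' := []) (by decide +kernel)
  simpa only [e, pow_succ, mul_assoc, _root_.pow_zero, _root_.one_mul, _root_.List.map_cons, _root_.List.map_nil, _root_.List.prod_cons, _root_.List.prod_nil, _root_.mul_one] using h
theorem y_ne : gY ≠ 1 := by
  have h := ne_of_neB' hM (w := [2]) (w' := []) (by decide +kernel)
  simpa [e, pow_succ, mul_assoc] using h
theorem ya : gY * gA = gA * gY := by
  have h := eq_of_eqB hM (w := [2, 0]) (w' := [0, 2]) (by decide +kernel)
  simpa only [e, pow_succ, mul_assoc, _root_.List.map_cons, _root_.List.map_nil, _root_.List.prod_cons, _root_.List.prod_nil, _root_.mul_one] using h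
theorem axax : gA * gX * (gA * gX) = 1 := by
  have h := eq_of_eqB hM (w := [0, 1, 0, 1]) (w' := []) (by decide +kernel)
  simpa only [e, pow_succ, mul_assoc, _root_.List.map_cons, _root_.List.map_nil, _root_.List.prod_cons, _root_.List.prod_nil, _root_.mul_one] using h

/-- fixed vectors and dual vectors -/
def vwX : List (List ℤ × List ℤ) := [
  ([1, 1, 1, 1, 1, 1, 5, 1, -3, 1, 1, 1, -3, -3, 1, 1, 1, -3, -3, 1, -3, 1, 1, 1],
   [-2, 0, 0, 0, 2, -2, 2, 2, -2, 2, -4, -4, -2, 2, -2, 2, 0, -2, -2, -2, -2, 0, -2, 0]),
  ([1, -1, -1, -1, 3, -1, -3, -1, 1, 3, -1, -1, 1, 1, -1, -1, -1, 1, 1, 3, -3, -1, 3, -5],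
   [-1, -1, -3, -1, -5, -1, -1, 1, 1, 1, -1, 3, -1, -1, -1, -3, -1, -1, -3, 1, -1, -1, -1, 1]),
  ([1, -1, -1, 1, 1, 1, 3, -3, -3, 1, -3, 3, 1, 3, 1, 1, 1, 3, 5, -3, -1, 1, 1, -1],
   [0, 2, -2, 2, 0, 0, -6, -2, -2, -2, 0, 0, 0, 0, 0, -2, -2, -2, -2, 0, 0, 0, 2, 0]),
  ([3, 1, 3, 1, -1, 1, 1, -1, -3, 1, 1, 1, 1, 1, -3, 1, 1, -1, -1, -3, 3, -3, 1, -1],
   [-2, 0, 0, 0, -2, -2, -2, 2, -2, -2, 2, 2, 4, 0, 0, -2, 0, 0, -2, -2, 0, 0, 0, 0]),
  ([1, 1, 1, 1, -3, 1, -1, -3, -1, -1, -1, 1, -1, -1, -1, -1, -1, 3, 1, -1, 3, 1, 1, -3],
   [1, 1, 3, -3, -3, -3, -1, -1, -1, -1, -3, 1, 1, -3, -1, 1, 1, -3, 1, 1, 1, -1, -1, 1]),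
  ([0, 0, 0, -2, -2, 2, 0, 2, 0, 0, 2, 0, 0, 2, 2, 0, 0, 0, -2, -2, 4, 2, 2, -2],
   [0, 0, 2, -2, 0, 0, 4, 2, 2, 2, 0, 4, 2, -2, 0, -2, 0, -2, 0, 0, 0, 2, 2, 2]),
  ([1, -1, 1, -1, 1, 3, -5, 1, 1, 3, 1, -1, 1, 1, 1, -1, -1, 1, -1, 1, 1, 3, -1, 3],
   [0, 2, 2, 2, 2, -2, 4, 0, 0, 4, 0, 0, 0, -2, 0, 0, 0, -2, -2, -2, -2, 0, -2, -2]),
  ([-2, -2, -2, 0, -4, 0, -4, 4, -2, 0, 0, -2, -2, -4, 0, 0, 0, 0, 2, 0, 0, 0, 0, 2],
   [1, 3, 1, 1, -1, -1, 1, 1, 1, 1, 5, 1, 1, -1, 1, -1, 1, 1, 3, 1, 1, 3, -1, -3])]

theorem frX : fr (QuotientGroup.mk gX : Co1) = 2 ^ 8 :=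
  Cfsg.Agent.MFive.FixN.card_fix (n := 5) (by decide) repX (vw := vwX) (by decide +kernel) (by decide +kernel)
    (by decide +kernel) (Cfsg.Agent.Co0Q_H101_RealFinal.spanN (n := 4) (by decide +kernel))

/-- fixed vectors and dual vectors -/
def vwY : List (List ℤ × List ℤ) := [
  ([-3, 1, 1, 1, 1, 1, 1, 1, 1, 1, 1, 1, 1, 1, 1, 1, 1, 1, 1, 1, 1, 1, 1, 1],
   [-2, 0, 0, 0, 0, 0, 0, 0, 0, 0, 0, 0, -2, 0, -2, 0, -2, -2, -2, 0, 0, 0, -2, -2]),
  ([-1, 3, -3, 1, -1, 1, 1, 3, -1, -1, -1, -1, -1, -3, -1, -1, -1, -1, -1, 3, -1, -3, 1, -3],
   [3, -1, 1, 1, -1, 3, 3, 3, -1, -1, -1, -1, -1, -1, 3, 1, -1, 1, -1, 1, 1, 1, -1, 1]),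
  ([2, 2, 2, 2, 2, 2, -2, 2, -2, 2, 2, 2, -2, -2, 2, 2, 2, -2, -2, 2, -2, 2, 2, -2],
   [-2, 0, 0, 0, -2, -2, -2, 2, -2, -2, 2, 2, 4, 0, 0, -2, 0, 0, -2, -2, 0, 0, 0, 0]),
  ([1, -1, 1, 1, -1, 1, -1, -1, 1, -1, -1, -1, 1, -1, -1, -1, -1, 1, 1, -1, 1, 1, 1, -3],
   [0, -2, 0, 0, 0, 0, 0, 0, 0, 0, 0, 0, -2, -2, -2, -2, -2, 0, 0, -2, 0, 0, -2, 0])]

theorem frY : fr (QuotientGroup.mk gY : Co1) = 2 ^ 4 :=
  Cfsg.Agent.MFive.FixN.card_fix (n := 5) (by decide) repY (vw := vwY) (by decide +kernel) (by decide +kernel)
    (by decide +kernel) (Cfsg.Agent.Co0Q_H101_RealFinal.spanN (n := 4) (by decide +kernel))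

theorem fr_ne : fr (QuotientGroup.mk gX : Co1) ≠ fr (QuotientGroup.mk gY : Co1) := by
  rw [frX, frY]; norm_num

theorem memA : gA.1 ∈ Spor.McL := mem_McL repA (by decide +kernel) (by decide +kernel)
theorem memX : gX.1 ∈ Spor.McL := mem_McL repX (by decide +kernel) (by decide +kernel)
theorem memY : gY.1 ∈ Spor.McL := mem_McL repY (by decide +kernel) (by decide +kernel)

end Cfsg.Agent.H799.RO.McLFive
end

-- part: H799/RO/RowMcL
section
/-!
# `McL` has a real element of order 5 with centralizer of odd order (helper799, S2248)

The elements of order 5 commuting with an involution generate conjugate subgroups (`C(t) = 2.A₈`, Sylow); `gX` and `gY`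
have different numbers of fixed points on `Λ / 2Λ`.
-/

set_option autoImplicit false

namespace Cfsg.Agent.H799.RO.RowMcL

open Subgroup Cfsg Cfsg.Agent.H101.RO Cfsg.Agent.TypeM.Two

universe u

/-- In a group with one class of involutions with centralizers of order divisible by `p` exactly once, the elements of
order `p` commuting with involutions generate conjugate subgroups. -/
theorem conj_of_comm {G : Type*} [Group G] [Finite G] {t : G} (hone : ∀ s : G, s * s = 1 → s ≠ 1 → ∃ g, g * t * g⁻¹ = s)
    {p : ℕ} (hp : p.Prime) (h1 : ¬ p ^ 2 ∣ Nat.card (centralizer ({t} : Set G))) {s x s' y : G}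
    (hs2 : s * s = 1) (hs1 : s ≠ 1) (hx : orderOf x = p) (hc : x * s = s * x)
    (hs2' : s' * s' = 1) (hs1' : s' ≠ 1) (hy : orderOf y = p) (hc' : y * s' = s' * y) :
    ∃ (g : G) (k : ℕ), g * x * g⁻¹ = y ^ k := by
  have hfp : Fact p.Prime := ⟨hp⟩
  obtain ⟨g, hg⟩ := hone s hs2 hs1
  obtain ⟨g', hg'⟩ := hone s' hs2' hs1'
  have hcomm : ∀ {s x g : G}, g * t * g⁻¹ = s → x * s = s * x → (g⁻¹ * x * g) * t = t * (g⁻¹ * x * g) := by
    intro s x g hg hc
    have h1 : t = g⁻¹ * s * g := by rw [← hg]; group
    rw [h1]
    calc g⁻¹ * x * g * (g⁻¹ * s * g) = g⁻¹ * (x * s) * g := by group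
      _ = g⁻¹ * (s * x) * g := by rw [hc]
      _ = _ := by group
  have hord : ∀ {x g : G}, orderOf x = p → orderOf (g⁻¹ * x * g) = p := by
    intro x g hx
    rw [← hx]
    have h2 := orderOf_injective (MulAut.conj g⁻¹).toMonoidHom (MulAut.conj g⁻¹).injective x
    simpa only [MulAut.conj_apply, _root_.map_inv, _root_.MulEquiv.toMonoidHom_eq_coe, _root_.MonoidHom.coe_coe, _root_.MulAut.inv_apply, _root_.MulAut.conj_symm_apply] using h2
  let C := centralizer ({t} : Set G)
  let xc : C := ⟨g⁻¹ * x * g, mem_centralizer_singleton_iff.2 (hcomm hg hc)⟩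
  let yc : C := ⟨g'⁻¹ * y * g', mem_centralizer_singleton_iff.2 (hcomm hg' hc')⟩
  have hxc : orderOf xc = p := by rw [← hord (g := g) hx]; exact Subgroup.orderOf_mk _ _
  have hyc : orderOf yc = p := by rw [← hord (g := g') hy]; exact Subgroup.orderOf_mk _ _
  have hsyl : ∀ z : C, orderOf z = p → ∃ P : Sylow p C, (P : Subgroup C) = zpowers z := by
    intro z hz
    have hfac : (Nat.card C).factorization p = 1 := by
      have h0 : Nat.card C ≠ 0 := Nat.card_pos.ne'
      have h2 : 1 ≤ (Nat.card C).factorization p := by
        rw [← hp.pow_dvd_iff_le_factorization h0, pow_one, ← hz]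
        exact _root_.orderOf_dvd_natCard z
      have h3 : ¬ 2 ≤ (Nat.card C).factorization p := fun h => h1 ((hp.pow_dvd_iff_le_factorization h0).2 h)
      omega
    exact ⟨Sylow.ofCard (zpowers z) (by rw [Nat.card_zpowers, hz, hfac, pow_one]), rfl⟩
  obtain ⟨P, hP⟩ := hsyl xc hxc
  obtain ⟨Q, hQ⟩ := hsyl yc hyc
  obtain ⟨c, hcc⟩ := MulAction.exists_smul_eq C P Q
  have hmem : c * xc * c⁻¹ ∈ zpowers yc := by
    rw [← hQ, ← hcc, Sylow.coe_subgroup_smul]
    exact Subgroup.smul_mem_pointwise_smul xc (MulAut.conj c) (P : Subgroup C) (by rw [hP]; exact mem_zpowers xc)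
  have hf : IsOfFinOrder yc := orderOf_pos_iff.1 (by rw [hyc]; exact hp.pos)
  obtain ⟨k, hk⟩ := (hf.mem_powers_iff_mem_zpowers (y := c * xc * c⁻¹)).2 hmem
  refine ⟨g' * c * g⁻¹, k, ?_⟩
  have e1 : g' * c * g⁻¹ * x * (g' * c * g⁻¹)⁻¹ = g' * ((c * xc * c⁻¹ : C) : G) * g'⁻¹ := by
    change _ = g' * ((c : G) * (g⁻¹ * x * g) * (c : G)⁻¹) * g'⁻¹
    group
  have hk' : yc ^ k = c * xc * c⁻¹ := hk
  rw [e1, ← hk']
  change g' * (g'⁻¹ * y * g') ^ k * g'⁻¹ = y ^ k
  have e2 : g'⁻¹ * y * g' = g'⁻¹ * y * g'⁻¹⁻¹ := by rw [inv_inv]
  rw [e2, conj_pow]
  group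

open McLFive Cfsg.Agent.H573.Spor.Co0 in
theorem real_McL : RealOdd ↥Spor.McL := by
  obtain ⟨hfin, -, hcard, ⟨L⟩⟩ := TypeM.FactsMcL.facts (M := ↥Spor.McL) ⟨MulEquiv.refl _⟩
  have hc : Nat.card (centralizer ({L.t} : Set Spor.McL)) = Nat.factorial 8 :=
    TypeM.FactsAut.card_centralizer L (by norm_num)
  have p5 : Nat.Prime 5 := by norm_num
  have f5 : Fact (Nat.Prime 5) := ⟨p5⟩
  let x : Spor.McL := ⟨gX.1, memX⟩
  let y : Spor.McL := ⟨gY.1, memY⟩
  let a : Spor.McL := ⟨gA.1, memA⟩
  have cv : ∀ {g h : Co0}, g = h → g.1 = h.1 := fun h => congrArg Subtype.val h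
  have cw : ∀ {g : Co0} {hg : g.1 ∈ Spor.McL}, (⟨g.1, hg⟩ : Spor.McL) = 1 → g = 1 := fun h =>
    Subtype.ext (show _ = (1 : Equiv.Perm leechLattice) from congrArg Subtype.val h)
  have hx : orderOf x = 5 := orderOf_eq_prime (Subtype.ext (show gX.1 ^ 5 = 1 from cv x_pow)) (fun h => x_ne (cw h))
  have hy : orderOf y = 5 := orderOf_eq_prime (Subtype.ext (show gY.1 ^ 5 = 1 from cv y_pow)) (fun h => y_ne (cw h))
  have ha2 : a * a = 1 := by
    have h := a_sq
    rw [pow_two] at h
    exact Subtype.ext (show gA.1 * gA.1 = 1 from cv h)
  have ha1 : a ≠ 1 := fun h => a_ne (cw h)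
  have hya : y * a = a * y := Subtype.ext (show gY.1 * gA.1 = gA.1 * gY.1 from cv ya)
  have hax : a * x * (a * x) = 1 := Subtype.ext (show gA.1 * gX.1 * (gA.1 * gX.1) = 1 from cv axax)
  refine RealOdd.of_elts (x := x) (y := a) (p := 5) (k := 1) p5 (by norm_num) le_rfl (by rw [hx]; norm_num) ?_ ?_
  · have h1 : a⁻¹ = a := inv_eq_of_mul_eq_one_left ha2
    rw [h1, eq_inv_iff_mul_eq_one, mul_assoc]
    exact hax
  · intro s hs hsx
    have hs2 : s * s = 1 := by rw [← pow_two, ← hs, pow_orderOf_eq_one]
    have hs1 : s ≠ 1 := fun h => by rw [h, orderOf_one] at hs; norm_num at hs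
    obtain ⟨g, k, hg⟩ := conj_of_comm L.one p5 (by rw [hc]; norm_num [Nat.factorial]) hs2 hs1 hx hsx.symm ha2 ha1 hy hya
    have hX : (Spor.McL : Subgroup (Equiv.Perm leechLattice)) ≤ Co0 := fun g hg => hg.1.1
    have hk : orderOf (y ^ k) = 5 := by
      rw [← hg, ← hx]
      have h2 := orderOf_injective (MulAut.conj g).toMonoidHom (MulAut.conj g).injective x
      simpa only [MulAut.conj_apply, _root_.MulEquiv.toMonoidHom_eq_coe, _root_.MonoidHom.coe_coe] using h2
    have hz : zpowers (y ^ k) = zpowers y := by
      apply Subgroup.eq_of_le_of_card_ge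
      · rw [zpowers_le]; exact pow_mem (mem_zpowers _) k
      · rw [Nat.card_zpowers, Nat.card_zpowers, hk, hy]
    have hm : y ∈ zpowers (y ^ k) := by rw [hz]; exact mem_zpowers _
    obtain ⟨m, hm⟩ := mem_zpowers_iff.1 hm
    apply fr_ne
    have e1 : toCo1 _ hX x = (QuotientGroup.mk gX : Spor.Co1) := rfl
    have e2 : toCo1 _ hX y = (QuotientGroup.mk gY : Spor.Co1) := rfl
    rw [← e1, ← e2]
    refine fr_eq_of_conj (u := toCo1 _ hX g) (k := k) (m := m) ?_ ?_
    · rw [← map_inv, ← map_mul, ← map_mul, hg, map_pow]
    · rw [← map_pow, ← map_zpow, hm]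

/-- **`McL`.** -/
theorem ro_McL {G : Type u} [Group G] [Finite G] (h : Cfsg.Spor.IsoMcL G) : Cfsg.Agent.H101.RO.RealOdd G := by
  obtain ⟨e⟩ := h
  exact RealOdd.congr e.symm real_McL

end Cfsg.Agent.H799.RO.RowMcL
end

-- part: H799/RO/RowCo3
section
/-!
# `Co₃` has a real element of order 9 with centralizer of odd order (helper799, S2248)

The elements of order 9 commuting with an involution lie in `C(2A) = 2.Sp₆(2)`, and all their cyclic subgroups are
conjugate there; `gX` and `gY` have different numbers of fixed points on `Λ / 2Λ`.
-/

set_option autoImplicit false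

namespace Cfsg.Agent.H799.RO.RowCo3

open Subgroup Cfsg Cfsg.Agent.H101.RO
open Cfsg.Agent.SporRec.TwoSp6.Sp Cfsg.Agent.SporRec.TwoSp6.CInvol
open Cfsg.Agent.SporRec.Co3.Fusion (tC)
open Cfsg.Agent.SporRec.Co3.Chain Cfsg.Agent.SporRec.Co3.Ident Cfsg.Agent.SigZero

universe u

/-- the Sylow 3-subgroup has exponent 3 -/
theorem no_nine {G : Type*} [Group G] [Finite G] (h27 : 3 ^ 3 ∣ Nat.card G) (h81 : ¬ 3 ^ 4 ∣ Nat.card G) {a b c : G}
    (ha : a ^ 3 = 1) (hb : b ^ 3 = 1) (hc : c ^ 3 = 1) (hac : a * c = c * a) (hbc : b * c = c * b)
    (hab : a * b = b * a * c) (hne : a * b ≠ b * a) (g : G) : orderOf g ≠ 9 := by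
  intro hg
  have h3 : Fact (Nat.Prime 3) := ⟨Nat.prime_three⟩
  have cac : Commute a c := hac
  have cbc : Commute b c := hbc
  have hba : b * a = a * b * c ^ 2 := by
    rw [hab, mul_assoc, ← pow_succ', hc, mul_one]
  have e1 : ∀ j : ℕ, b ^ j * a = a * b ^ j * c ^ (2 * j) := by
    intro j
    induction j with
    | zero => simp
    | succ j ih =>
      calc b ^ (j + 1) * a = b ^ j * (b * a) := by rw [pow_succ]; group
        _ = (b ^ j * a) * b * c ^ 2 := by rw [hba]; group
        _ = a * b ^ j * (c ^ (2 * j) * b) * c ^ 2 := by rw [ih]; group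
        _ = a * b ^ j * (b * c ^ (2 * j)) * c ^ 2 := by rw [(cbc.pow_right (2 * j)).eq]
        _ = a * b ^ (j + 1) * c ^ (2 * (j + 1)) := by
          rw [pow_succ, show 2 * (j + 1) = 2 * j + 2 by ring, pow_add]; group
  have e2 : ∀ i j : ℕ, b ^ j * a ^ i = a ^ i * b ^ j * c ^ (2 * j * i) := by
    intro i j
    induction i with
    | zero => simp
    | succ i ih =>
      calc b ^ j * a ^ (i + 1) = (b ^ j * a ^ i) * a := by rw [pow_succ]; group
        _ = a ^ i * b ^ j * (c ^ (2 * j * i) * a) := by rw [ih]; group
        _ = a ^ i * b ^ j * (a * c ^ (2 * j * i)) := by rw [(cac.pow_right (2 * j * i)).eq]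
        _ = a ^ i * (b ^ j * a) * c ^ (2 * j * i) := by group
        _ = a ^ i * (a * b ^ j * c ^ (2 * j)) * c ^ (2 * j * i) := by rw [e1]
        _ = a ^ (i + 1) * b ^ j * c ^ (2 * j * (i + 1)) := by
          rw [pow_succ, show 2 * j * (i + 1) = 2 * j + 2 * j * i by ring, pow_add]; group
  have hmul : ∀ i j k i' j' k' : ℕ, (a ^ i * b ^ j * c ^ k) * (a ^ i' * b ^ j' * c ^ k') =
      a ^ (i + i') * b ^ (j + j') * c ^ (k + k' + 2 * j * i') := by
    intro i j k i' j' k'
    calc (a ^ i * b ^ j * c ^ k) * (a ^ i' * b ^ j' * c ^ k')
        = a ^ i * b ^ j * (c ^ k * a ^ i') * b ^ j' * c ^ k' := by group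
      _ = a ^ i * b ^ j * (a ^ i' * c ^ k) * b ^ j' * c ^ k' := by rw [(cac.pow_pow i' k).eq]
      _ = a ^ i * (b ^ j * a ^ i') * (c ^ k * b ^ j') * c ^ k' := by group
      _ = a ^ i * (a ^ i' * b ^ j * c ^ (2 * j * i')) * (b ^ j' * c ^ k) * c ^ k' := by
        rw [e2, (cbc.pow_pow j' k).eq]
      _ = a ^ i * a ^ i' * b ^ j * (c ^ (2 * j * i') * b ^ j') * c ^ k * c ^ k' := by group
      _ = a ^ i * a ^ i' * b ^ j * (b ^ j' * c ^ (2 * j * i')) * c ^ k * c ^ k' := by
        rw [(cbc.pow_pow j' (2 * j * i')).eq]
      _ = _ := by
        rw [pow_add, pow_add, show k + k' + 2 * j * i' = 2 * j * i' + k + k' by ring, pow_add, pow_add]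
        group
  have hcube : ∀ i j k : ℕ, (a ^ i * b ^ j * c ^ k) ^ 3 = 1 := by
    intro i j k
    rw [pow_succ, pow_two, hmul, hmul, show i + i + i = 3 * i by ring, show j + j + j = 3 * j by ring,
      show k + k + 2 * j * i + k + 2 * (j + j) * i = 3 * (k + 2 * j * i) by ring, pow_mul, pow_mul, pow_mul, ha, hb, hc,
      one_pow, one_pow, one_pow, one_mul, one_mul]
  let P : Subgroup G :=
    { carrier := {x | ∃ i j k : ℕ, x = a ^ i * b ^ j * c ^ k}
      one_mem' := ⟨0, 0, 0, by simp⟩
      mul_mem' := by
        rintro _ _ ⟨i, j, k, rfl⟩ ⟨i', j', k', rfl⟩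
        exact ⟨_, _, _, hmul i j k i' j' k'⟩
      inv_mem' := by
        rintro _ ⟨i, j, k, rfl⟩
        refine ⟨_, _, _, (?_ : (a ^ i * b ^ j * c ^ k)⁻¹ = _).trans (hmul i j k i j k)⟩
        rw [inv_eq_iff_mul_eq_one, ← mul_assoc, ← pow_two, ← pow_succ]
        exact hcube i j k }
  have hP3 : ∀ x ∈ P, x ^ 3 = 1 := by
    rintro _ ⟨i, j, k, rfl⟩
    exact hcube i j k
  have hPp : IsPGroup 3 P := fun x => ⟨1, Subtype.ext (by rw [pow_one]; exact hP3 x x.2)⟩
  obtain ⟨Q, hQ⟩ := hPp.exists_le_sylow
  have hfac : (Nat.card G).factorization 3 = 3 := by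
    have h1 : Nat.card G ≠ 0 := Nat.card_pos.ne'
    have h2 := (Nat.prime_three.pow_dvd_iff_le_factorization h1).1 h27
    by_contra hne
    exact h81 ((Nat.prime_three.pow_dvd_iff_le_factorization h1).2 (by omega))
  have hQc : Nat.card Q = 3 ^ 3 := by rw [Sylow.card_eq_multiplicity, hfac]
  obtain ⟨n, hn⟩ := IsPGroup.iff_card.1 hPp
  have hn3 : 3 ≤ n := by
    by_contra hlt
    have hab' : ∀ x y : P, x * y = y * x := by
      have hcases : n = 0 ∨ n = 1 ∨ n = 2 := by omega
      rcases hcases with rfl | rfl | rfl
      · have : Subsingleton P := (Nat.card_eq_one_iff_unique.1 (by rw [hn, pow_zero])).1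
        intro x y
        exact Subsingleton.elim _ _
      · have := isCyclic_of_prime_card (α := P) (p := 3) (by rw [hn, pow_one])
        intro x y
        exact (IsCyclic.commGroup (α := P)).mul_comm x y
      · intro x y
        have := IsPGroup.isMulCommutative_of_card_eq_prime_sq hn
        exact (this.is_comm.comm x y)
    apply hne
    have h1 := hab' ⟨a, 1, 0, 0, by simp⟩ ⟨b, 0, 1, 0, by simp⟩
    exact congrArg Subtype.val h1
  have hPQ : P = Q := by
    apply Subgroup.eq_of_le_of_card_ge hQ
    rw [hQc, hn]
    exact Nat.pow_le_pow_right (by norm_num) hn3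
  have hgp : IsPGroup 3 (zpowers g) := IsPGroup.of_card (n := 2) (by rw [Nat.card_zpowers, hg]; norm_num)
  obtain ⟨R, hR⟩ := hgp.exists_le_sylow
  obtain ⟨h, hh⟩ := MulAction.exists_smul_eq G R Q
  have hmem : h * g * h⁻¹ ∈ P := by
    rw [hPQ, ← hh, Sylow.coe_subgroup_smul]
    exact Subgroup.smul_mem_pointwise_smul g (MulAut.conj h) (R : Subgroup G) (hR (mem_zpowers g))
  have h1 := hP3 _ hmem
  rw [conj_pow, mul_inv_eq_one, mul_eq_left] at h1
  have h2 := orderOf_dvd_of_pow_eq_one h1
  rw [hg] at h2
  norm_num at h2

theorem M12_no_nine (g : Spor.M12) : orderOf g ≠ 9 := by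
  have hf : Finite Spor.M12 := Nat.finite_of_card_ne_zero (by
    rw [Cfsg.Agent.MTwelveType.SylowModel.card_M12]; norm_num)
  refine no_nine (G := Spor.M12) (a := ⟨_, Cfsg.Agent.H573.Spor.Mat.a_mem⟩) (b := ⟨_, Cfsg.Agent.H573.Spor.Mat.b_mem⟩)
    (c := ⟨_, Cfsg.Agent.H573.Spor.Mat.c_mem⟩) (by rw [Cfsg.Agent.MTwelveType.SylowModel.card_M12]; norm_num)
    (by rw [Cfsg.Agent.MTwelveType.SylowModel.card_M12]; norm_num) (Subtype.ext Cfsg.Agent.H573.Spor.Mat.a3)
    (Subtype.ext Cfsg.Agent.H573.Spor.Mat.b3) (Subtype.ext Cfsg.Agent.H573.Spor.Mat.c3)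
    (Subtype.ext Cfsg.Agent.H573.Spor.Mat.ac) (Subtype.ext Cfsg.Agent.H573.Spor.Mat.bc)
    (Subtype.ext Cfsg.Agent.H573.Spor.Mat.ab)
    (fun h => Cfsg.Agent.H573.Spor.Mat.ab_ne (congrArg Subtype.val h)) g

/-- an involution commuting with an element of order 9 is of type `2A` -/
theorem inv_of_nine {s x : G3} (hs2 : s * s = 1) (hs1 : s ≠ 1) (hx : orderOf x = 9) (hc : x * s = s * x) :
    ∃ g, g * Z * g⁻¹ = s := by
  obtain ⟨e⟩ := SigZero.CoThree.exists_equiv
  rcases SigZero.CoThree.classes (w := e CoThreeB.wK) (by rw [← map_mul, CoThreeB.wK_sq, map_one])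
      (fun h => CoThreeB.wK_ne ((map_eq_one_iff e e.injective).1 h))
      (by
        rw [Cfsg.Agent.H729.PairCo3N.card_centralizer_map]
        exact SigZero.CoThree.card_C_le) hs2 hs1 with h | ⟨g, hg⟩
  · exact h
  · exfalso
    -- `y = e⁻¹ (g⁻¹ x g)` commutes with `wK`
    let y : CoThreeB.K := e.symm (g⁻¹ * x * g)
    have hy : y * CoThreeB.wK = CoThreeB.wK * y := by
      apply e.injective
      rw [map_mul, map_mul, e.apply_symm_apply]
      have h1 : e CoThreeB.wK = g⁻¹ * s * g := by rw [← hg]; group
      rw [h1]
      calc g⁻¹ * x * g * (g⁻¹ * s * g) = g⁻¹ * (x * s) * g := by group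
        _ = g⁻¹ * (s * x) * g := by rw [hc]
        _ = _ := by group
    have hyo : orderOf y = 9 := by
      rw [MulEquiv.orderOf_eq]
      rw [← hx]
      have h2 := orderOf_injective (MulAut.conj g⁻¹).toMonoidHom (MulAut.conj g⁻¹).injective x
      simpa only [MulAut.conj_apply, _root_.map_inv, _root_.MulEquiv.toMonoidHom_eq_coe, _root_.MonoidHom.coe_coe, _root_.MulAut.inv_apply, _root_.MulAut.conj_symm_apply] using h2
    let yc : centralizer ({CoThreeB.wK} : Set CoThreeB.K) := ⟨y, mem_centralizer_singleton_iff.2 hy⟩
    have hyc : orderOf yc = 9 := by rw [← hyo]; exact Subgroup.orderOf_mk _ _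
    have h1 : orderOf (CoThreeB.proj yc) ∣ 9 := by rw [← hyc]; exact orderOf_map_dvd _ _
    have h2 : CoThreeB.proj (yc ^ orderOf (CoThreeB.proj yc)) = 1 := by rw [map_pow, pow_orderOf_eq_one]
    refine M12_no_nine (CoThreeB.proj yc) (Nat.dvd_antisymm h1 ?_)
    rcases CoThreeB.ker_proj h2 with h3 | h3
    · rw [← hyc]; exact orderOf_dvd_of_pow_eq_one h3
    · have h4 : yc ^ (orderOf (CoThreeB.proj yc) * 2) = 1 := by
        rw [pow_mul, pow_two]
        apply Subtype.ext
        rw [Subgroup.coe_mul, h3]
        exact CoThreeB.wK_sq
      have h5 := orderOf_dvd_of_pow_eq_one h4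
      rw [hyc] at h5
      exact (Nat.Coprime.dvd_of_dvd_mul_right (by norm_num) h5)

/-- two elements of order 9 commuting with involutions generate conjugate subgroups -/
theorem conj_of_nine {s x s' y : G3} (hs2 : s * s = 1) (hs1 : s ≠ 1) (hx : orderOf x = 9) (hc : x * s = s * x)
    (hs2' : s' * s' = 1) (hs1' : s' ≠ 1) (hy : orderOf y = 9) (hc' : y * s' = s' * y) :
    ∃ g, g * x * g⁻¹ = y ∨ g * x * g⁻¹ = y⁻¹ := by
  obtain ⟨π, N⟩ := KFacts.Co3D4.exists_NS_G3
  obtain ⟨g, hg⟩ := inv_of_nine hs2 hs1 hx hc
  obtain ⟨g', hg'⟩ := inv_of_nine hs2' hs1' hy hc'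
  have hcomm : ∀ {s x g : G3}, g * Z * g⁻¹ = s → x * s = s * x → (g⁻¹ * x * g) * Z = Z * (g⁻¹ * x * g) := by
    intro s x g hg hc
    have h1 : Z = g⁻¹ * s * g := by rw [← hg]; group
    rw [h1]
    calc g⁻¹ * x * g * (g⁻¹ * s * g) = g⁻¹ * (x * s) * g := by group
      _ = g⁻¹ * (s * x) * g := by rw [hc]
      _ = _ := by group
  have hord : ∀ {x g : G3}, orderOf x = 9 → orderOf (g⁻¹ * x * g) = 9 := by
    intro x g hx
    rw [← hx]
    have h2 := orderOf_injective (MulAut.conj g⁻¹).toMonoidHom (MulAut.conj g⁻¹).injective x
    simpa only [MulAut.conj_apply, _root_.map_inv, _root_.MulEquiv.toMonoidHom_eq_coe, _root_.MonoidHom.coe_coe, _root_.MulAut.inv_apply, _root_.MulAut.conj_symm_apply] using h2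
  let xc : centralizer ({Z} : Set G3) := ⟨g⁻¹ * x * g, mem_centralizer_singleton_iff.2 (hcomm hg hc)⟩
  let yc : centralizer ({Z} : Set G3) := ⟨g'⁻¹ * y * g', mem_centralizer_singleton_iff.2 (hcomm hg' hc')⟩
  have hxc : orderOf xc = 9 := by rw [← hord (g := g) hx]; exact Subgroup.orderOf_mk _ _
  have hyc : orderOf yc = 9 := by rw [← hord (g := g') hy]; exact Subgroup.orderOf_mk _ _
  obtain ⟨c, hcc⟩ := SpSix.conj_cover N hxc hyc
  refine ⟨g' * c * g⁻¹, ?_⟩
  have e1 : g' * c * g⁻¹ * x * (g' * c * g⁻¹)⁻¹ = g' * ((c * xc * c⁻¹ : centralizer ({Z} : Set G3)) : G3) * g'⁻¹ := by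
    change _ = g' * ((c : G3) * (g⁻¹ * x * g) * (c : G3)⁻¹) * g'⁻¹
    group
  rw [e1]
  rcases hcc with h | h
  · left
    rw [h]
    change g' * (g'⁻¹ * y * g') * g'⁻¹ = y
    group
  · right
    rw [h]
    change g' * (g'⁻¹ * y * g')⁻¹ * g'⁻¹ = y⁻¹
    group

open CoNine Cfsg.Agent.H573.Spor.Co0 in
theorem real_Co3 : RealOdd ↥Spor.Co3 := by
  have hf3 := Cfsg.Agent.H729.PairCo3N.finite_G3
  have hf : Finite Spor.Co3 := Finite.of_equiv _ SporRec.Co3.Model.equivCo3.toEquiv
  have ord9 : ∀ {G : Type} [Group G] (g : G), g ^ 9 = 1 → g ^ 3 ≠ 1 → orderOf g = 9 := by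
    intro G _ g h9 h3
    have := orderOf_eq_prime_pow (p := 3) (n := 1) (hp := ⟨Nat.prime_three⟩) (x := g) (by rw [pow_one]; exact h3)
      (by norm_num; exact h9)
    simpa using this
  let x : Spor.Co3 := ⟨gX.1, memX⟩
  let y : Spor.Co3 := ⟨gY.1, memY⟩
  let a : Spor.Co3 := ⟨gA.1, memA⟩
  let t : Spor.Co3 := ⟨gT.1, memT⟩
  have cv : ∀ {g h : Co0}, g = h → g.1 = h.1 := fun h => congrArg Subtype.val h
  have hx : orderOf x = 9 := ord9 x (Subtype.ext (show gX.1 ^ 9 = 1 from cv x_pow))
    (fun h => x_ne (Subtype.ext (show gX.1 ^ 3 = 1 from congrArg Subtype.val h)))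
  have hy : orderOf y = 9 := ord9 y (Subtype.ext (show gY.1 ^ 9 = 1 from cv y_pow))
    (fun h => y_ne (Subtype.ext (show gY.1 ^ 3 = 1 from congrArg Subtype.val h)))
  have ht2 : t * t = 1 := by
    have h := t_sq
    rw [pow_two] at h
    exact Subtype.ext (show gT.1 * gT.1 = 1 from cv h)
  have ht1 : t ≠ 1 := fun h => t_ne (Subtype.ext (show gT.1 = 1 from congrArg Subtype.val h))
  have hyt : y * t = t * y := Subtype.ext (show gY.1 * gT.1 = gT.1 * gY.1 from cv yt)
  have ha2 : a * a = 1 := by
    have h := a_sq
    rw [pow_two] at h
    exact Subtype.ext (show gA.1 * gA.1 = 1 from cv h)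
  have hax : a * x * (a * x) = 1 := Subtype.ext (show gA.1 * gX.1 * (gA.1 * gX.1) = 1 from cv axax)
  refine RealOdd.of_elts (x := x) (y := a) (p := 3) (k := 2) Nat.prime_three (by norm_num) (by norm_num)
    (by rw [hx]; norm_num) ?_ ?_
  · have h1 : a⁻¹ = a := inv_eq_of_mul_eq_one_left ha2
    rw [h1, eq_inv_iff_mul_eq_one, mul_assoc]
    exact hax
  · intro s hs hsx
    have hs2 : s * s = 1 := by rw [← pow_two, ← hs, pow_orderOf_eq_one]
    have hs1 : s ≠ 1 := fun h => by rw [h, orderOf_one] at hs; norm_num at hs
    let e := SporRec.Co3.Model.equivCo3.symm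
    have hne : ∀ {g : Spor.Co3}, g ≠ 1 → e g ≠ 1 := fun hg h => hg ((map_eq_one_iff e e.injective).1 h)
    obtain ⟨g, hg⟩ := conj_of_nine (s := e s) (x := e x) (s' := e t) (y := e y)
      (by rw [← map_mul, hs2, map_one]) (hne hs1) (by rw [MulEquiv.orderOf_eq, hx])
      (by rw [← map_mul, ← map_mul, hsx]) (by rw [← map_mul, ht2, map_one]) (hne ht1) (by rw [MulEquiv.orderOf_eq, hy])
      (by rw [← map_mul, ← map_mul, hyt])
    have hX : (Spor.Co3 : Subgroup (Equiv.Perm leechLattice)) ≤ Co0 := fun g hg => hg.1
    have hk : ∃ k : ℕ, e.symm g * x * (e.symm g)⁻¹ = y ^ k ∧ (y ^ k) ^ (k : ℤ) = y := by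
      rcases hg with hg | hg
      · refine ⟨1, ?_, by simp⟩
        apply e.injective
        rw [map_mul, map_mul, map_inv, e.apply_symm_apply, hg, pow_one]
      · refine ⟨8, ?_, ?_⟩
        · apply e.injective
          rw [map_mul, map_mul, map_inv, e.apply_symm_apply, hg]
          have h1 : y ^ 8 = y⁻¹ := by
            rw [eq_inv_iff_mul_eq_one, ← pow_succ]
            exact (by rw [← hy, pow_orderOf_eq_one] : y ^ 9 = 1)
          rw [h1, map_inv]
        · rw [zpow_natCast, ← pow_mul]
          have h1 : y ^ 9 = 1 := by rw [← hy, pow_orderOf_eq_one]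
          rw [show 8 * 8 = 9 * 7 + 1 by norm_num, pow_succ, pow_mul, h1, one_pow, one_mul]
    obtain ⟨k, hk1, hk2⟩ := hk
    apply fr_ne
    have e1 : toCo1 _ hX x = (QuotientGroup.mk gX : Spor.Co1) := rfl
    have e2 : toCo1 _ hX y = (QuotientGroup.mk gY : Spor.Co1) := rfl
    rw [← e1, ← e2]
    refine fr_eq_of_conj (u := toCo1 _ hX (e.symm g)) (k := k) (m := k) ?_ ?_
    · rw [← map_inv, ← map_mul, ← map_mul, hk1, map_pow]
    · rw [← map_pow, ← map_zpow, hk2]

/-- **`Co₃`.** -/
theorem ro_Co3 {G : Type u} [Group G] [Finite G] (h : Cfsg.Spor.IsoCo3 G) : Cfsg.Agent.H101.RO.RealOdd G := by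
  obtain ⟨e⟩ := h
  exact RealOdd.congr e.symm real_Co3

end Cfsg.Agent.H799.RO.RowCo3
end

-- part: H972/ROSpor
section
/-!
# `RealOdd` for seventeen sporadic groups (helper972)

The data are those of helper729 and helper463 for `PairN` (`H729/Pair*.lean`, `H463/Sp/*.lean`).
-/

set_option autoImplicit false

namespace Cfsg.Agent.H972.ROSpor

open Cfsg Subgroup Cfsg.Agent.H101.RO Cfsg.Agent.H972.RO Cfsg.Agent.H729.PairBase Cfsg.Agent.H463.Pair

universe u

section Mathieu

open Cfsg.Agent.SporadicA.GolayBase Cfsg.Agent.SporadicA.GolayPerm Cfsg.Agent.H729.PairMathieu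
open Cfsg.Agent.SporadicStructure.M24El Cfsg.Agent.H729.Trans Cfsg.Agent.H729.MData Cfsg.Agent.H729.Count
open Cfsg.Agent.H729.M24Deg Cfsg.Agent.H729.M22Deg

end Mathieu

section JOne

open Cfsg.Spor Cfsg.Agent.SporadicB.J1.Mat Cfsg.Agent.SporadicB.J1.Data Cfsg.Agent.SporadicB.J1.Main

end JOne

section HS

open Cfsg.Agent.HN Cfsg.Agent.HN.Pres Cfsg.Agent.HN.HS100 Cfsg.Agent.HN.P1408 Cfsg.Agent.HN.H0Basic
open Cfsg.Agent.KFacts.HS Cfsg.Agent.KFacts.HS.DFour
open Cfsg.Agent.KFacts.HS.TwoB (g0 g0w g0_mem_K)
open Cfsg.Agent.H729.PairHS

end HS

section ON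

open Cfsg.Spor
open Cfsg.Agent.SporadicB.ON45Word (on)
open Cfsg.Agent.SporadicB.ON45Sub

end ON

theorem at_Fi24p_model : RealAt Spor.Fi24' 29 := by
  have : Finite Spor.Fi24 := Cfsg.Agent.R08.FiTwentyFour.finite_Fi24
  refine RO.of_index_two Cfsg.Agent.R08.FiTwentyFour.index_commutator (r := 29) (by norm_num) (by norm_num)
    H843.D29.order ?_ ?_
  · rw [← centralizer_zpowers_eq, H843.D29.main.2]; norm_num
  · rw [H843.D29.main.1]; norm_num

section CoTwo

open Cfsg.Agent.SporadicA.GolayBase Cfsg.Agent.SporadicA.GolayPerm
open Cfsg.Agent.SporadicA.Co0Mono hiding mk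
open Cfsg.Agent.SporadicA.Co1Simple Cfsg.Agent.Co2Type.Mono
open Cfsg.Agent.SporadicStructure.M24El
open Cfsg.Agent.H729.MData Cfsg.Agent.H729.Count Cfsg.Agent.H729.PairEleven
open Cfsg.Agent.H729.PairCoN
open Cfsg.Agent.H729

end CoTwo

end Cfsg.Agent.H972.ROSpor
end

-- part: H972/ROM
section
/-!
# `RealOdd` for the Monster (helper972)

A real element of order 29 of `Fi24'` lifts to the centralizer `3.Fi24'` of an element of order 3; 29 is prime to the
orders of the centralizers of the involutions.
-/

set_option autoImplicit false

namespace Cfsg.Agent.H972.ROM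

open Cfsg Subgroup Cfsg.Agent.H101.RO

/-- Lifting a real element of order `p` along a surjection with central kernel of exponent `m` prime to `p`. -/
theorem lift_real {C S : Type*} [Group C] [Group S] (π : C →* S) (hs : Function.Surjective π) {p m k : ℕ}
    (hp : p.Prime) (hm : ∀ z : C, π z = 1 → z ^ m = 1) (hcen : ∀ z : C, π z = 1 → ∀ g : C, g * z = z * g)
    (hk : m * k % p = 1) {x y : S} (hx : orderOf x = p) (hy : y * x * y⁻¹ = x⁻¹) :
    ∃ x' y' : C, orderOf x' = p ∧ y' * x' * y'⁻¹ = x'⁻¹ := by
  obtain ⟨g, hg⟩ := hs x
  obtain ⟨h, hh⟩ := hs y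
  have hxp : x ^ p = 1 := by rw [← hx]; exact pow_orderOf_eq_one x
  have hx1 : x ≠ 1 := by
    rintro rfl
    rw [orderOf_one] at hx
    exact hp.one_lt.ne hx
  have hmk : x ^ (m * k) = x := by
    have : m * k = p * (m * k / p) + 1 := by
      have := Nat.div_add_mod (m * k) p
      omega
    rw [this, pow_succ, pow_mul, hxp, one_pow, one_mul]
  have h1 : π (g ^ (m * k)) = x := by rw [map_pow, hg, hmk]
  have h2 : (g ^ (m * k)) ^ p = 1 := by
    have h3 : π (g ^ p) = 1 := by rw [map_pow, hg, hxp]
    have h4 := hm _ h3
    rw [← pow_mul, show m * k * p = p * m * k by ring, pow_mul, pow_mul, h4, one_pow]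
  have hne : g ^ (m * k) ≠ 1 := fun e => hx1 (by rw [← h1, e, map_one])
  have : Fact p.Prime := ⟨hp⟩
  have hord : orderOf (g ^ (m * k)) = p := orderOf_eq_prime h2 hne
  set X := g ^ (m * k) with hX
  have hz : π (h * X * h⁻¹ * X) = 1 := by
    rw [map_mul, map_mul, map_mul, map_inv, h1, hh, hy, inv_mul_cancel]
  set z := h * X * h⁻¹ * X with hzd
  have hz1 : z ^ m = 1 := hm z hz
  have hz2 : z ^ p = 1 := by
    have h5 : h * X * h⁻¹ = z * X⁻¹ := by rw [hzd]; group
    have h6 : (h * X * h⁻¹) ^ p = 1 := by rw [conj_pow, h2]; group
    rw [h5] at h6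
    have hc : Commute z X⁻¹ := (hcen z hz X⁻¹).symm
    rw [hc.mul_pow, inv_pow, h2, inv_one, mul_one] at h6
    exact h6
  have hcop : Nat.Coprime m p := by
    rw [Nat.coprime_comm, hp.coprime_iff_not_dvd]
    intro hd
    obtain ⟨c, rfl⟩ := hd
    rw [mul_assoc, Nat.mul_mod_right] at hk
    exact absurd hk (by norm_num)
  have hz3 : z = 1 := by
    have h7 : orderOf z ∣ Nat.gcd m p := Nat.dvd_gcd (orderOf_dvd_of_pow_eq_one hz1) (orderOf_dvd_of_pow_eq_one hz2)
    rw [hcop.gcd_eq_one, Nat.dvd_one, orderOf_eq_one_iff] at h7
    exact h7
  refine ⟨X, h, hord, ?_⟩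
  have h8 : h * X * h⁻¹ * X = 1 := hz3
  exact eq_inv_of_mul_eq_one_left h8

open Cfsg.Agent.MonsterX

theorem ro_M_model : RealOdd ↥InstData.M.G := by
  obtain ⟨w, t, π, D⟩ := H849.FiModel.exists_data
  obtain ⟨x, y, hx, -, hy, -⟩ := ROSpor.at_Fi24p_model
  have hcen : ∀ z : centralizer ({w} : Set ↥InstData.M.G), π z = 1 →
      ∀ g : centralizer ({w} : Set ↥InstData.M.G), g * z = z * g := by
    intro z hz g
    obtain ⟨n, hn⟩ := mem_zpowers_iff.1 ((D.ker z).1 hz)
    apply Subtype.ext
    show (g : ↥InstData.M.G) * z = z * g
    rw [← hn]
    exact (show Commute (g : ↥InstData.M.G) w from mem_centralizer_singleton_iff.1 g.2).zpow_right n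
  have hm : ∀ z : centralizer ({w} : Set ↥InstData.M.G), π z = 1 → z ^ 3 = 1 := by
    intro z hz
    obtain ⟨n, hn⟩ := mem_zpowers_iff.1 ((D.ker z).1 hz)
    apply Subtype.ext
    show (z : ↥InstData.M.G) ^ 3 = 1
    rw [← hn, ← zpow_natCast, ← zpow_mul, mul_comm, zpow_mul, zpow_natCast, ← D.ord, pow_orderOf_eq_one, one_zpow]
  obtain ⟨X, Y, hX, hY⟩ := lift_real (m := 3) (k := 10) π D.surj (by norm_num) hm hcen (by norm_num) hx hy
  have A := Cfsg.Agent.MonsterU.Uncond.all
  have hfin : Finite ↥InstData.M.G := Cfsg.Agent.MonsterX.MainBasic.G_finite A.hO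
  refine RealOdd.of_not_dvd (x := (X : ↥InstData.M.G)) (y := (Y : ↥InstData.M.G)) (p := 29) (k := 1) (by norm_num)
    (by norm_num) le_rfl (by rw [pow_one, Subgroup.orderOf_coe, hX]) ?_ ?_
  · exact congrArg Subtype.val hY
  · intro u hu h
    have h1 := H713.Spor.MOf.card_cent A u hu
    simp only [List.mem_cons, List.not_mem_nil, or_false] at h1
    rcases h1 with h1 | h1
    · rw [h1] at h
      exact absurd h (by norm_num)
    · rw [h1] at h
      exact absurd h (by norm_num)

/-- **The Monster.** -/
theorem ro_M {K : Type*} [Group K] (h : Spor.IsoM K) : RealOdd K := by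
  obtain ⟨e⟩ := h
  obtain ⟨f⟩ := Cfsg.Agent.MonsterP.Equiv.equiv
  exact RealOdd.congr (e.trans f).symm ro_M_model

end Cfsg.Agent.H972.ROM
end

-- part: H101/RealFinal
section
/-!
# Real elements of odd prime power order with a centralizer of odd order: all simple groups (helper101)

`real_cases` : the table of S2248, for groups in the list of the classification. Rows of the sporadic groups by
helper729, helper799, helper525, helper972.
-/

set_option autoImplicit false

namespace Cfsg.Agent.H101.RO

open Cfsg

theorem isM12 {X : Type*} [Group X] (h : Spor.IsoM12 X) : IsM12 X := by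
  obtain ⟨e⟩ := h
  have := CpAutTThree.MTwelve.simple
  exact ⟨e.isSimpleGroup, by rw [Nat.card_congr e.toEquiv, CpAutTThree.MTwelve.card]⟩

theorem isCo1 {X : Type*} [Group X] (h : Spor.IsoCo1 X) : IsCo1 X := by
  obtain ⟨e⟩ := h
  obtain ⟨h1, h2⟩ := Cfsg.Agent.S0399.result
  exact ⟨e.isSimpleGroup, by rw [Nat.card_congr e.toEquiv]; exact h2⟩

/-- The table. -/
theorem real_cases {S : Type*} [Group S] [Finite S] (hna : ¬ IsMulCommutative S) (h : IsKnownSimple' S) :
    RealOdd S ∨ IsM12 S ∨ IsCo1 S ∨ ∃ n : ℕ, (42 ≤ n ∨ n = 24) ∧ Nonempty (S ≃* ↥(alternatingGroup (Fin n))) := by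
  rcases known_cases hna h with h | h | h | h
  · rcases alt_row h with h | h
    · exact Or.inl h
    · exact Or.inr (Or.inr (Or.inr h))
  · exact Or.inl h
  · exact Or.inl (H729.RealSpor.tits h)
  · rcases H729.RealSpor.spor H799.RO.RowMcL.ro_McL H799.RO.RowCo3.ro_Co3 H525.RO.hn H525.RO.BRow.b
      H972.ROM.ro_M h with h | h | h
    · exact Or.inl h
    · exact Or.inr (Or.inl (isM12 h))
    · exact Or.inr (Or.inr (Or.inl (isCo1 h)))

end Cfsg.Agent.H101.RO
end

private theorem dce_9d5d8177cbe9 : _root_.True := by
  try have : _root_.True := by simp only [_root_.Cfsg.Agent.H799.RO.McLFive.e.eq_2]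
  try have : _root_.True := by simp only [_root_.Cfsg.Agent.H799.RO.McLFive.e.eq_3]
  try have : _root_.True := by simp only [_root_.Cfsg.Agent.H799.RO.McLFive.e.eq_1]
  exact _root_.True.intro
end
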